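import Groth.Agent.PnCohLib.Regular
import Groth.Agent.MiscFlat6.TensorGG

/-!
# Global sections in the regular range
-/

set_option autoImplicit false
universe u

open CategoryTheory CategoryTheory.Limits AlgebraicGeometry MvPolynomial TopologicalSpace Opposite
open GrTildeLib GradedCechLib PnTildeLib

noncomputable section

namespace PnCohLib

section Gen

variable {n : ℕ} {R : Type u} [CommRing R] {N : Type u} [AddCommGroup N] [Module (Poly n R) N] [Module R N]
  [IsScalarTower R (Poly n R) N] (ℳ : ℕ → Submodule R N) [SetLike.GradedSMul (CohB1.polyGrading n R) ℳ]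
  [DirectSum.Decomposition ℳ]

/-- Regularity of a graded module in degree `m`, on the Čech side. -/
def CechReg (G : Grading R (Fin (n + 1)) N) (m : ℤ) : Prop :=
  ∀ i : ℕ, 1 ≤ i → i ≤ n → IsZero (H (locSys G (m - i)) i)

omit [SetLike.GradedSMul (CohB1.polyGrading n R) ℳ] [DirectSum.Decomposition ℳ] in
theorem CechReg.add {G : Grading R (Fin (n + 1)) N} {m : ℤ} (h : CechReg G m) : ∀ K : ℕ, CechReg G (m + K) := by
  intro K
  induction K with
  | zero => simpa using h
  | succ K ih =>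
    intro i hi _
    rw [show m + ((K + 1 : ℕ) : ℤ) - i = m + K + 1 - i by push_cast; ring]
    exact regular_step G (m + K) ih i hi

omit [SetLike.GradedSMul (CohB1.polyGrading n R) ℳ] [DirectSum.Decomposition ℳ] in
/-- In the regular range cocycles are combinations of cocycles of degree `m`. -/
theorem cocycle_span {G : Grading R (Fin (n + 1)) N} {m : ℤ} (h : CechReg G m) :
    ∀ (K : ℕ) (d : ℤ), d = m + K → ∀ (c : Cochain (locSys G d) 0), dd (locSys G d) 0 c = 0 → ∀ J,
      (c J).1 ∈ AddSubgroup.closure {z : Loc R N (rng J) | ∃ p ∈ CohB1.polyGrading n R K,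
        ∃ b : Cochain (locSys G m) 0, dd (locSys G m) 0 b = 0 ∧ p • (b J).1 = z} := by
  intro K
  induction K with
  | zero =>
    intro d hd c hc J
    rw [Nat.cast_zero, add_zero] at hd
    subst hd
    exact AddSubgroup.subset_closure ⟨1, SetLike.GradedOne.one_mem, c, hc, one_smul _ _⟩
  | succ K ih =>
    intro d hd c hc J
    obtain ⟨b, hb, hsum⟩ := exists_decomp G d (fun q h1 h2 => by
      rw [show d - ((q + 1 : ℕ) : ℤ) = m + K - q by rw [hd]; push_cast; ring]
      exact h.add K q h1 (by omega)) (d' := d) (by simp) c hc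
    rw [hsum J]
    refine AddSubgroup.sum_mem _ fun a _ => ?_
    refine AddSubgroup.closure_induction (p := fun z _ => (X a : Poly n R) • z ∈ AddSubgroup.closure _)
      (fun z hz => ?_) ?_ (fun z z' _ _ hz hz' => ?_) (fun z _ hz => ?_)
      (ih (d - (1 : ℕ)) (by rw [hd]; push_cast; ring) (b a) (hb a) J)
    · obtain ⟨p, hp, b', hb', rfl⟩ := hz
      refine AddSubgroup.subset_closure ⟨X a * p, ?_, b', hb', mul_smul _ _ _⟩
      rw [add_comm K 1]
      exact SetLike.mul_mem_graded (GradedCechLib.X_mem n R a) hp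
    · rw [smul_zero]; exact zero_mem _
    · rw [smul_add]; exact add_mem hz hz'
    · rw [smul_neg]; exact neg_mem hz

/-- A cocycle glues to a global section. -/
theorem exists_global (t : ℤ) (c : Cochain (locSys (posGrading (n := n) ℳ) t) 0)
    (hc : dd (locSys (posGrading (n := n) ℳ) t) 0 c = 0) :
    ∃ σ : (secSys (tl (n := n) ℳ t)).obj ∅, ∀ J,
      res (secSys (tl (n := n) ℳ t)) (Finset.empty_subset (rng J)) σ = ((toSys (n := n) ℳ t).app (rng J)).hom (c J) := by
  let q : ∀ x : (Uof (∅ : Finset (Fin (n + 1))) : (CohB1.ProjSpace n R).Opens),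
      GrTilde.LocMod (CohB1.polyGrading n R) (M := N) (pt x.1) :=
    fun x => val (fracToSec ℳ t _ (c (fun _ => (exists_mem_stdOpen x.1).choose)))
      ⟨x.1, mem_Uof_single (exists_mem_stdOpen x.1).choose_spec⟩
  have hq : ∀ (J : Fin 1 → Fin (n + 1)) (x : (Uof (rng J) : (CohB1.ProjSpace n R).Opens)),
      val (fracToSec ℳ t _ (c J)) x = q ⟨x.1, (Finset.inf_mono (f := QCohLib.stdOpen n R) (Finset.empty_subset _)) x.2⟩ := by
    intro J x
    let K : Fin 1 → Fin (n + 1) := fun _ => (exists_mem_stdOpen x.1).choose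
    have hx : x.1 ∈ (Uof (rng J ∪ rng K) : (CohB1.ProjSpace n R).Opens) := (mem_Uof_iff _ _).2 fun j hj => by
      rcases Finset.mem_union.1 hj with hj | hj
      · exact (mem_Uof_iff _ _).1 x.2 j hj
      · exact (mem_Uof_iff _ _).1 (mem_Uof_single (exists_mem_stdOpen x.1).choose_spec) j hj
    have h1 := val_fracToSec_res ℳ t (Finset.subset_union_left (s₂ := rng K)) (c J) ⟨x.1, hx⟩
    have h2 := val_fracToSec_res ℳ t (Finset.subset_union_right (s₁ := rng J)) (c K) ⟨x.1, hx⟩
    exact h1.symm.trans ((congrArg (fun z => val (fracToSec ℳ t _ z) ⟨x.1, hx⟩)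
      (compat hc J K Finset.subset_union_left Finset.subset_union_right)).trans h2)
  have hloc : ∀ x : (Uof (∅ : Finset (Fin (n + 1))) : (Proj (CohB1.polyGrading n R)).Opens),
      ∃ (W : (Proj (CohB1.polyGrading n R)).Opens) (_ : x.1 ∈ W) (hW : W ≤ Uof (∅ : Finset (Fin (n + 1))))
        (i j : ℕ) (m : N) (s : Poly n R) (_ : m ∈ ℳ i) (_ : s ∈ CohB1.polyGrading n R j)
        (hnin : ∀ y : W, s ∉ y.1.asHomogeneousIdeal), ((i : ℤ) = j + t ∨ m = 0) ∧
        ∀ y : W, q ⟨y.1, hW y.2⟩ = LocalizedModule.mk m ⟨s, hnin y⟩ := fun x => by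
    obtain ⟨i, hi⟩ := exists_mem_stdOpen x.1
    obtain ⟨W, hxW, hW, a, b, m, s, hm, hs, hnin, hd, hv⟩ :=
      val_exists (fracToSec ℳ t _ (c fun _ => i)) ⟨x.1, mem_Uof_single hi⟩
    exact ⟨W, hxW, le_trans hW (Finset.inf_mono (f := QCohLib.stdOpen n R) (Finset.empty_subset _)),
      a, b, m, s, hm, hs, hnin, hd, fun y => (hq (fun _ => i) ⟨y.1, hW y.2⟩).symm.trans (hv y)⟩
  obtain ⟨σ, hσ⟩ := exists_secVal ℳ q hloc
  refine ⟨σ, fun J => secVal_ext ℳ fun x => ?_⟩
  rw [secVal_res, hσ, secVal_toSys]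
  exact (hq J x).symm

omit [SetLike.GradedSMul (CohB1.polyGrading n R) ℳ] [DirectSum.Decomposition ℳ] in
theorem rng_const_eq (i : Fin (n + 1)) : rng (fun _ : Fin 1 => i) = {i} := by ext; simp [eq_comm]

/-- An element of degree `d` as a cochain. -/
def elemCocycle (G : Grading R (Fin (n + 1)) N) {d : ℤ} {y : N} (hy : y ∈ G.piece d) : Cochain (locSys G d) 0 :=
  fun J => ⟨frac (rng J) y 0, 0, y, by simpa using hy, rfl⟩

omit [SetLike.GradedSMul (CohB1.polyGrading n R) ℳ] [DirectSum.Decomposition ℳ] in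
/-- An element of degree `d` on a set. -/
theorem elem_mem (G : Grading R (Fin (n + 1)) N) {d : ℤ} {y : N} (hy : y ∈ G.piece d) (s : Finset (Fin (n + 1))) :
    frac s y 0 ∈ locPiece G d s := ⟨0, y, by simpa using hy, rfl⟩

omit [SetLike.GradedSMul (CohB1.polyGrading n R) ℳ] [DirectSum.Decomposition ℳ] in
theorem res_elem (G : Grading R (Fin (n + 1)) N) {d : ℤ} {y : N} (hy : y ∈ G.piece d) {s t : Finset (Fin (n + 1))}
    (h : s ⊆ t) : res (locSys G d) h (show (locSys G d).obj s from (⟨frac s y 0, elem_mem G hy s⟩ : locPiece G d s)) =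
      (show (locSys G d).obj t from (⟨frac t y 0, elem_mem G hy t⟩ : locPiece G d t)) := by
  have e : transLin h (frac (R := R) s y 0) = frac t y 0 := by rw [transLin_frac, pow_zero, one_smul]
  exact Subtype.ext e

omit [SetLike.GradedSMul (CohB1.polyGrading n R) ℳ] [DirectSum.Decomposition ℳ] in
/-- A family stable under restriction is a cocycle. -/
theorem dd_of_stable {L : Sys R (Fin (n + 1))} (v : ∀ s, L.obj s)
    (hv : ∀ (s t : Finset (Fin (n + 1))) (h : s ⊆ t), res L h (v s) = v t) :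
    dd L 0 (fun J => v (rng J)) = 0 := funext fun J => by
  rw [dd_apply, Finset.sum_congr rfl fun (k : Fin (0 + 2)) (_ : k ∈ Finset.univ) =>
    congrArg (((-1 : ℤ) ^ (k : ℕ)) • ·) (hv _ _ (rng_comp J k.succAbove))]
  rw [Fin.sum_univ_succ, Fin.sum_univ_one]
  simp

omit [SetLike.GradedSMul (CohB1.polyGrading n R) ℳ] [DirectSum.Decomposition ℳ] in
theorem dd_elemCocycle (G : Grading R (Fin (n + 1)) N) {d : ℤ} {y : N} (hy : y ∈ G.piece d) :
    dd (locSys G d) 0 (elemCocycle G hy) = 0 :=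
  dd_of_stable (L := locSys G d) (fun s => (⟨frac s y 0, elem_mem G hy s⟩ : locPiece G d s))
    (fun _ _ h => res_elem G hy h)

theorem fracToSec_zero (t : ℤ) (s : Finset (Fin (n + 1))) : fracToSec (n := n) ℳ t s 0 = 0 :=
  ((toS _).symm.map_eq_zero_iff).1 (map_zero ((toSys (n := n) ℳ t).app s).hom)

/-- Restrictions of global sections are killed. -/
theorem app_res_global {m : ℤ} {P : (CohB1.ProjSpace n R).Modules} (q : tl (n := n) ℳ m ⟶ P)
    (hq : ∀ u : Γ(tl (n := n) ℳ m, ⊤), q.app ⊤ u = 0) (s : Finset (Fin (n + 1)))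
    (σ : (secSys (tl (n := n) ℳ m)).obj ∅) :
    q.app (Uof s) (toS (tl (n := n) ℳ m) (res (secSys (tl (n := n) ℳ m)) (Finset.empty_subset s) σ)) = 0 := by
  have htop : (Uof (∅ : Finset (Fin (n + 1))) : (CohB1.ProjSpace n R).Opens) = ⊤ := Finset.inf_empty
  let σ' : Γ(tl (n := n) ℳ m, ⊤) := AmpleLib.res (tl (n := n) ℳ m) htop.ge (toS (tl (n := n) ℳ m) σ)
  have e : toS (tl (n := n) ℳ m) (res (secSys (tl (n := n) ℳ m)) (Finset.empty_subset s) σ) =
      AmpleLib.res (tl (n := n) ℳ m) (le_top : (Uof s : (CohB1.ProjSpace n R).Opens) ≤ ⊤) σ' :=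
    (AmpleLib.res_res (tl (n := n) ℳ m) htop.ge le_top _).symm
  rw [e]
  exact (QCohLib.app_map q (homOfLE le_top) σ').trans ((congrArg _ (hq σ')).trans (map_zero _))

/-- Multiplying a fraction by a form of degree `M`. -/
theorem fracToSec_mul (t : ℤ) (i : Fin (n + 1)) {M l : ℕ} {p : Poly n R} (hp : p ∈ CohB1.polyGrading n R M) {y' : N}
    (z' b : locPiece (posGrading (n := n) ℳ) t (rng (fun _ : Fin 1 => i)))
    (hb : b.1 = frac (rng (fun _ : Fin 1 => i)) y' l) (hz' : z'.1 = frac (rng (fun _ : Fin 1 => i)) (p • y') (l + M)) :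
    ∃ r : Γ(CohB1.ProjSpace n R, Uof (rng (fun _ : Fin 1 => i))),
      fracToSec ℳ t _ z' = r • fracToSec ℳ t _ b := by
  have hs := rng_const_eq (n := n) i
  have hX : xs R (rng (fun _ : Fin 1 => i)) = (X i : Poly n R) := by rw [hs]; simp [xs]
  have hle : (Uof (rng (fun _ : Fin 1 => i)) : (CohB1.ProjSpace n R).Opens) ≤ QCohLib.stdOpen n R i :=
    Finset.inf_le (by rw [hs]; simp)
  let r : Γ(CohB1.ProjSpace n R, Uof (rng (fun _ : Fin 1 => i))) := resO n R hle (deh n R i p)
  refine ⟨r, ?_⟩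
  have hr : ∀ x : (Uof (rng (fun _ : Fin 1 => i)) : (Proj (CohB1.polyGrading n R)).Opens),
      ((show Twist.O (op (Uof (rng (fun _ : Fin 1 => i)) : (Proj (CohB1.polyGrading n R)).Opens)) from r).1 x).val =
        Localization.mk p ⟨(X i) ^ M, GrTildeLib.pow_nin (⟨x.1, hle x.2⟩ : Proj.basicOpen _ (X i : Poly n R)) M⟩ := by
    intro x
    have hp' : p ∈ CohB1.polyGrading n R (M • 1) := by simpa using hp
    have h2 : deh₀ n R i p = HomogeneousLocalization.Away.mk _ (GradedCechLib.X_mem n R i) M p hp' := by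
      refine HomogeneousLocalization.val_injective _ ?_
      rw [val_deh₀_homogeneous n R i p M ((mem_homogeneousSubmodule _ _).1 hp), HomogeneousLocalization.Away.val_mk]
      rfl
    refine Eq.trans ?_ (GrTildeLib.val_awayToSection (GradedCechLib.X_mem n R i) hp' ⟨x.1, hle x.2⟩)
    rw [← h2]
    rfl
  refine sec_ext (V := (Uof (rng (fun _ : Fin 1 => i)) : (Proj (CohB1.polyGrading n R)).Opens)) fun x => ?_
  refine Eq.trans ?_ (GrTildeLib.val_smul r (fracToSec ℳ t _ b) x).symm
  refine Eq.trans ?_ (congrArg (· • valLin (rng (fun _ : Fin 1 => i)) x b.1) (hr x)).symm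
  show valLin (rng (fun _ : Fin 1 => i)) x z'.1 = _
  rw [hz', hb]
  erw [valLin_frac, valLin_frac, LocalizedModule.mk_smul_mk]
  refine mk_congr ?_
  show ((X i : Poly n R) ^ M * xs R (rng (fun _ : Fin 1 => i)) ^ l) • p • y' =
    xs R (rng (fun _ : Fin 1 => i)) ^ (l + M) • p • y'
  rw [hX]; congr 1; ring

/-- **A regular twist is globally generated.** -/
theorem isGloballyGenerated_tilde (m : ℤ) (h : CechReg (posGrading (n := n) ℳ) m) :
    Curv2.IsGloballyGenerated (tl (n := n) ℳ m) := by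
  haveI : Coh.IsQCoh (tl (n := n) ℳ m) := GrTildeLib.isQCoh_tilde m
  refine MiscFlat6.isGloballyGenerated_of_cancel _ fun P q hq => ?_
  let G := posGrading (n := n) ℳ
  refine MiscFlat6.eq_zero_of_affine_cover
    (fun i : Fin (n + 1) => (Uof (rng (fun _ : Fin 1 => i)) : (CohB1.ProjSpace n R).Opens))
    (fun i => QCohLib.isAffineOpen_inf_stdOpen n R _ (rng_nonempty _))
    (fun x => by obtain ⟨i, hi⟩ := exists_mem_stdOpen x; exact ⟨i, mem_Uof_single hi⟩) _ q fun i w => ?_
  let J₀ : Fin 1 → Fin (n + 1) := fun _ => i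
  have hs : rng J₀ = {i} := rng_const_eq i
  have hcard : ((rng J₀).card : ℤ) = 1 := by rw [hs]; simp
  have hX : xs R (rng J₀) = (X i : Poly n R) := by rw [hs]; simp [xs]
  obtain ⟨z, rfl⟩ : ∃ z : locPiece G m (rng J₀), fracToSec ℳ m _ z = w := by
    obtain ⟨z, hz⟩ := (toSys_bijective ℳ m _ (rng_nonempty J₀)).2 ((toS _).symm w)
    exact ⟨z, hz⟩
  obtain ⟨M, y, hy, hz⟩ := z.2
  rw [hcard, mul_one] at hy
  let c : Cochain (locSys G (m + M)) 0 := elemCocycle G hy
  have hc : dd (locSys G (m + M)) 0 c = 0 := dd_elemCocycle G hy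
  have key : ∀ v ∈ AddSubgroup.closure {v : Loc R N (rng J₀) | ∃ p ∈ CohB1.polyGrading n R M,
        ∃ b : Cochain (locSys G m) 0, dd (locSys G m) 0 b = 0 ∧ p • (b J₀).1 = v},
      ∃ z' : locPiece G m (rng J₀), (X i : Poly n R) ^ M • z'.1 = v ∧ q.app _ (fracToSec ℳ m _ z') = 0 := by
    intro v hv
    refine AddSubgroup.closure_induction (p := fun v _ => ∃ z' : locPiece G m (rng J₀),
      (X i : Poly n R) ^ M • z'.1 = v ∧ q.app _ (fracToSec ℳ m _ z') = 0) (fun v hv => ?_) ?_
      (fun v v' _ _ h1 h2 => ?_) (fun v _ h1 => ?_) hv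
    · obtain ⟨p, hp, b, hb, rfl⟩ := hv
      obtain ⟨l, y', hy', hby⟩ := (b J₀).2
      rw [hcard, mul_one] at hy'
      have hpy : p • y' ∈ G.piece (m + l + M) := by
        rcases mem_posGrading (n := n) ℳ hy' with ⟨hy'', hd⟩ | hy''
        · rw [show m + l + M = ((M + (m + l).toNat : ℕ) : ℤ) by push_cast; omega]
          show p • y' ∈ (posGrading (n := n) ℳ).piece _
          rw [posGrading_piece_natCast]
          exact SetLike.GradedSMul.smul_mem hp hy''
        · rw [hy'', smul_zero]; exact zero_mem _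
      let z' : locPiece G m (rng J₀) := ⟨frac (rng J₀) (p • y') (l + M), l + M, p • y', by
        rw [hcard]; push_cast; rw [mul_one, ← add_assoc]; exact hpy, rfl⟩
      have hz' : (X i : Poly n R) ^ M • z'.1 = p • (b J₀).1 := by
        show (X i : Poly n R) ^ M • frac (rng J₀) (p • y') (l + M) = _
        rw [hby, ← hX]
        conv_rhs => rw [frac, LocalizedModule.smul'_mk]
        rw [frac, LocalizedModule.smul'_mk]
        exact frac_mul (rng J₀) (p • y') l M
      refine ⟨z', hz', ?_⟩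
      obtain ⟨σ, hσ⟩ := exists_global ℳ m b hb
      obtain ⟨r, e⟩ := fracToSec_mul ℳ m i hp z' (b J₀) hby rfl
      rw [e, QCohLib.app_smul, show q.app _ (fracToSec ℳ m (rng J₀) (b J₀)) = 0 from
        (congrArg (q.app _) (congrArg (toS (tl (n := n) ℳ m)) (hσ J₀))).symm.trans (app_res_global ℳ q hq _ σ), smul_zero]
    · refine ⟨0, by simp, ?_⟩
      rw [fracToSec_zero, map_zero]
    · obtain ⟨z₁, h1, h1'⟩ := h1
      obtain ⟨z₂, h2, h2'⟩ := h2
      exact ⟨z₁ + z₂, by rw [Submodule.coe_add, smul_add, h1, h2], by rw [fracToSec_add, map_add, h1', h2', add_zero]⟩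
    · obtain ⟨z₁, h1, h1'⟩ := h1
      refine ⟨-z₁, by rw [Submodule.coe_neg, smul_neg, h1], ?_⟩
      have := fracToSec_add ℳ m (rng J₀) z₁ (-z₁)
      rw [add_neg_cancel] at this
      rw [fracToSec_zero] at this
      have h3 := congrArg (q.app _) this
      rw [map_zero, map_add, h1', zero_add] at h3
      exact h3.symm
  obtain ⟨z', hz', hq'⟩ := key _ (cocycle_span (G := G) h M (m + M) rfl c hc J₀)
  have : z' = z := by
    refine Subtype.ext ?_
    have hu := ((Module.End.isUnit_iff _).1 ((isUnit_X (R := R) (N := N) (show i ∈ rng J₀ by rw [hs]; simp)).pow M)).1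
    refine hu ?_
    rw [← map_pow]
    show (X i : Poly n R) ^ M • z'.1 = (X i : Poly n R) ^ M • z.1
    rw [hz', hz, ← hX, frac, LocalizedModule.smul'_mk]
    exact ((LocalizedModule.mk_cancel (pw R (rng J₀) M) y).trans
      (show LocalizedModule.mkLinearMap _ N y = frac (rng J₀) y 0 from by rw [frac]; congr 1)).symm
  rw [← this]
  exact hq'

end Gen

section Field

variable {n : ℕ} {R : Type u} [CommRing R]

/-- A quasi-coherent module as the sheaf of a graded module. -/
theorem exists_tilde (F : (CohB1.ProjSpace n R).Modules) (hF : Coh.IsQCoh F) :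
    ∃ (M : Type u) (_ : AddCommGroup M) (_ : Module (Poly n R) M) (_ : Module R M) (_ : IsScalarTower R (Poly n R) M)
      (ℳ : ℕ → Submodule R M) (_ : SetLike.GradedSMul (CohB1.polyGrading n R) ℳ) (_ : DirectSum.Decomposition ℳ),
      Nonempty (tl (n := n) ℳ 0 ≅ F) := by
  classical
  let g : ULift.{u} (Fin (n + 1)) → Poly n R := fun i => X i.down
  have hg : ∀ i, g i ∈ CohB1.polyGrading n R 1 := fun i => GradedCechLib.X_mem n R i.down
  have hcov : ∀ x : Proj (CohB1.polyGrading n R), ∃ i, x ∈ Proj.basicOpen (CohB1.polyGrading n R) (g i) := fun x => by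
    obtain ⟨i, hi⟩ := exists_mem_stdOpen x
    exact ⟨⟨i⟩, hi⟩
  let F' : (Proj (CohB1.polyGrading n R)).Modules := F
  haveI : Coh.IsQCoh F' := hF
  obtain ⟨e₀⟩ := GrTildeLib.exists_iso (GrTildeLib.data hg F') hcov
    (fun k z i h => GrTildeLib.exists_pow_smul_eq_zero' hg F' i z h)
    (fun i => eq_top_iff.mpr fun w _ => Submodule.subset_span (GrTildeLib.exists_of_nu hg F' i w))
  exact ⟨GrTildeLib.Gam hg F', inferInstance, inferInstance, inferInstance, inferInstance, GrTildeLib.gr hg F',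
    inferInstance, inferInstance, ⟨e₀⟩⟩

/-- **Twists in the regular range are globally generated.** -/
theorem isGloballyGenerated_of_regular (k : Type u) [Field k] (F : (CohB1.ProjSpace n k).Modules) (hF : Coh.IsQCoh F)
    (m : ℤ) (h : Curv2.IsMRegular k n F m) :
    Curv2.IsGloballyGenerated (CohB1.tensorMod F (Twist.twistProjSpace n k m)) := by
  obtain ⟨M, _, _, _, _, ℳ, _, _, ⟨e₀⟩⟩ := exists_tilde F hF
  have hiso : ∀ t : ℤ, Nonempty (CohB1.tensorMod F (Twist.twistProjSpace n k t) ≅ tl (n := n) ℳ t) := fun t => by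
    obtain ⟨e₁⟩ := GrTildeLib.twistBy_iso (𝒜 := CohB1.polyGrading n k) (ℳ := ℳ) (p := 0) (n := t)
      (zero_add t) (PnTildeLib.hcov (n := n) (k := k))
    exact ⟨(PicGrp.tensorModIso e₀.symm (Iso.refl (Twist.twistProjSpace n k t))).trans e₁⟩
  have hreg : CechReg (posGrading (n := n) ℳ) m := fun i hi hin => by
    obtain ⟨e⟩ := hiso (m - i)
    exact isZero_H_of_subsingleton _ _ i (subsingleton_HH_of_iso e.symm i (h i hi hin))
  obtain ⟨e⟩ := hiso m
  exact MiscFlat6.isGloballyGenerated_of_iso e.symm (isGloballyGenerated_tilde ℳ m hreg)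

end Field

end PnCohLib
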