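import Groth.Agent.PnCohLib.Global
import Groth.Agent.GrTildeLib.TensLift
import Groth.Agent.GrTildeLib.FT

/-!
# Multiplication by linear forms on global sections in the regular range
-/

set_option autoImplicit false
universe u

open CategoryTheory CategoryTheory.Limits AlgebraicGeometry MvPolynomial TopologicalSpace Opposite
open GrTildeLib GradedCechLib PnTildeLib

noncomputable section

namespace PnCohLib

section Gen

variable {n : ℕ} {R : Type u} [CommRing R] {N : Type u} [AddCommGroup N] [Module (Poly n R) N] [Module R N]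
  [IsScalarTower R (Poly n R) N] (ℳ : ℕ → Submodule R N) [SetLike.GradedSMul (CohB1.polyGrading n R) ℳ]
  [DirectSum.Decomposition ℳ]

/-- The section of `O(1)` of a coordinate. -/
def coordSec (a : Fin (n + 1)) : Γ(Twist.twist (CohB1.polyGrading n R) 1, ⊤) :=
  Twist.globalOf (𝒜 := CohB1.polyGrading n R) (i := 1) ⟨X a, GradedCechLib.X_mem n R a⟩

theorem val_coordSec (a : Fin (n + 1)) (x : (⊤ : (Proj (CohB1.polyGrading n R)).Opens)) :
    TwistLib.val (coordSec (n := n) (R := R) a) x = algebraMap (Poly n R) (Twist.Loc (CohB1.polyGrading n R) x.1) (X a) := by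
  refine Eq.trans ?_ (Localization.mk_one_eq_algebraMap _)
  rfl

/-- A global section of the next twist is a combination of coordinates. -/
theorem exists_sum_mulSec (m : ℤ) (h : CechReg (posGrading (n := n) ℳ) m)
    (σ : Γ(tl (n := n) ℳ (m + 1), (⊤ : (CohB1.ProjSpace n R).Opens))) :
    ∃ u : Fin (n + 1) → Γ(tl (n := n) ℳ m, (⊤ : (CohB1.ProjSpace n R).Opens)),
      σ = ∑ a, GrTildeLib.mulSec (ℳ := ℳ) (V := (⊤ : (Proj (CohB1.polyGrading n R)).Opens)) (p := m) (n := 1) (q := m + 1) rfl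
        (u a) (coordSec a) := by
  let G := posGrading (n := n) ℳ
  have htop : (Uof (∅ : Finset (Fin (n + 1))) : (CohB1.ProjSpace n R).Opens) = ⊤ := Finset.inf_empty
  let σ₀ : (secSys (tl (n := n) ℳ (m + 1))).obj ∅ :=
    (toS _).symm (AmpleLib.res (tl (n := n) ℳ (m + 1)) (le_top : (Uof (∅ : Finset (Fin (n + 1))) : (CohB1.ProjSpace n R).Opens) ≤ ⊤) σ)
  choose c hc using fun J : Fin 1 → Fin (n + 1) => (toSys_bijective ℳ (m + 1) _ (rng_nonempty J)).2
    (res (secSys (tl (n := n) ℳ (m + 1))) (Finset.empty_subset (rng J)) σ₀)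
  have hcd : dd (locSys G (m + 1)) 0 c = 0 := funext fun J => (toSys_bijective ℳ (m + 1) _ (rng_nonempty J)).1 (by
    rw [← dd_map, show (fun I => ((toSys (n := n) ℳ (m + 1)).app (rng I)).hom (c I)) =
      fun I => res (secSys (tl (n := n) ℳ (m + 1))) (Finset.empty_subset (rng I)) σ₀ from funext hc, dd_const]
    exact (map_zero _).symm)
  obtain ⟨b, hb, hsum⟩ := exists_decomp G (m + 1) (fun q h1 h2 => by
    rw [show m + 1 - ((q + 1 : ℕ) : ℤ) = m - q by push_cast; ring]
    exact h q h1 (by omega)) (d' := m + 1) (by simp) c hcd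
  have hdeg : m + 1 - ((1 : ℕ) : ℤ) = m := by simp
  have hσ : ∀ a, ∃ v : Γ(tl (n := n) ℳ m, (⊤ : (CohB1.ProjSpace n R).Opens)),
      ∀ (J : Fin 1 → Fin (n + 1)) (x : (Uof (rng J) : (Proj (CohB1.polyGrading n R)).Opens)),
        GrTildeLib.val v ⟨x.1, trivial⟩ = valLin (rng J) x (b a J).1 := by
    intro a
    obtain ⟨b', hb', hbb⟩ : ∃ b' : Cochain (locSys G m) 0, dd (locSys G m) 0 b' = 0 ∧
        ∀ J, (b' J).1 = (b a J).1 := by
      revert b
      rw [hdeg]
      intro b hb _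
      exact ⟨b a, hb a, fun J => rfl⟩
    obtain ⟨τ, hτ⟩ := exists_global ℳ m b' hb'
    refine ⟨AmpleLib.res (tl (n := n) ℳ m) htop.ge (toS (tl (n := n) ℳ m) τ), fun J x => ?_⟩
    rw [← hbb]
    exact congrArg (fun w => secVal ℳ w x) (hτ J)
  choose v hv using hσ
  refine ⟨v, GrTildeLib.sec_ext (V := (⊤ : (Proj (CohB1.polyGrading n R)).Opens)) fun x => ?_⟩
  obtain ⟨i, hi⟩ := exists_mem_stdOpen x.1
  let J₀ : Fin 1 → Fin (n + 1) := fun _ => i
  have hx : x.1 ∈ (Uof (rng J₀) : (CohB1.ProjSpace n R).Opens) := mem_Uof_single hi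
  have h1 : GrTildeLib.val σ x = valLin (rng J₀) ⟨x.1, hx⟩ (c J₀).1 :=
    (congrArg (fun w => secVal ℳ w ⟨x.1, hx⟩) (hc J₀)).symm
  refine h1.trans ?_
  rw [hsum, map_sum]
  refine Eq.trans ?_ (GrTildeLib.val_sum _ _ _).symm
  refine Finset.sum_congr rfl fun a _ => ?_
  rw [map_smul]
  refine Eq.trans ?_ (GrTildeLib.val_mulSec _ _ _ _).symm
  refine Eq.trans ?_ (congr_arg₂ (· • ·) (val_coordSec a _) (hv a J₀ ⟨x.1, hx⟩)).symm
  exact (algebraMap_smul _ _ _).symm

end Gen

section Field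

variable {n : ℕ} (k : Type u) [Field k]

/-- **Multiplication is surjective on global sections in the regular range.** -/
theorem surjective_mult (F : (CohB1.ProjSpace n k).Modules) (hF : Coh.IsQCoh F)
    (m : ℤ) (h : Curv2.IsMRegular k n F m)
    (w : Γ(CohB1.tensorMod (CohB1.tensorMod F (Twist.twistProjSpace n k m)) (Twist.twistProjSpace n k 1),
      (⊤ : (CohB1.ProjSpace n k).Opens))) :
    ∃ s, KFlatLib.shApp (CohB1.tensorMod F (Twist.twistProjSpace n k m)) (Twist.twistProjSpace n k 1) ⊤ s = w := by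
  classical
  obtain ⟨M, _, _, _, _, ℳ, _, _, ⟨e₀⟩⟩ := exists_tilde F hF
  have hiso : ∀ t : ℤ, Nonempty (CohB1.tensorMod F (Twist.twistProjSpace n k t) ≅ tl (n := n) ℳ t) := fun t => by
    obtain ⟨e₁⟩ := GrTildeLib.twistBy_iso (𝒜 := CohB1.polyGrading n k) (ℳ := ℳ) (p := 0) (n := t)
      (zero_add t) (PnTildeLib.hcov (n := n) (k := k))
    exact ⟨(PicGrp.tensorModIso e₀.symm (Iso.refl (Twist.twistProjSpace n k t))).trans e₁⟩
  have hreg : CechReg (posGrading (n := n) ℳ) m := fun i hi hin => by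
    obtain ⟨e⟩ := hiso (m - i)
    exact isZero_H_of_subsingleton _ _ i (subsingleton_HH_of_iso e.symm i (h i hi hin))
  obtain ⟨e⟩ := hiso m
  let A : (Proj (CohB1.polyGrading n k)).Modules := CohB1.tensorMod F (Twist.twistProjSpace n k m)
  let e' : A ≅ GrTilde.tilde (CohB1.polyGrading n k) ℳ m := e
  let bl : ∀ V : (Proj (CohB1.polyGrading n k)).Opens, Γ(A, V) → Γ(Twist.twist (CohB1.polyGrading n k) 1, V) →
      Γ(GrTilde.tilde (CohB1.polyGrading n k) ℳ (m + 1), V) :=
    fun V u g => GrTildeLib.mulSec rfl (e'.hom.app V u) g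
  obtain ⟨φ, hφ⟩ := GrTildeLib.exists_tens_hom bl
    (fun V u u' g => GrTildeLib.sec_ext fun x => by simp only [bl, map_add, val_mulSec, val_add, smul_add])
    (fun V u g g' => GrTildeLib.sec_ext fun x => by simp only [bl, val_mulSec, val_add, twistVal_add, add_smul])
    (fun V r u g => GrTildeLib.sec_ext fun x => by
      simp only [bl, Scheme.Modules.Hom.app_smul, val_mulSec, val_smul]; exact smul_comm _ _ _)
    (fun V r u g => GrTildeLib.sec_ext fun x => by simp only [bl, val_mulSec, val_smul, TwistLib.val_smul, mul_smul])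
    (fun V W hVW u g => GrTildeLib.sec_ext fun x => by
      simp only [bl, AmpleLib.res]
      rw [QCohLib.app_map e'.hom (homOfLE hVW) u]
      rfl)
  haveI : IsIso φ := GrTildeLib.isIso_of_bilin φ fun x => by
    obtain ⟨g, hg, hgx⟩ := PnTildeLib.hcov (n := n) (k := k) x
    refine ⟨Proj.basicOpen _ g, hgx, (unitPow hg 1).sec, (unitPow hg 1).genOn.genAt hgx, fun V hV => ?_⟩
    simp only [hφ, bl]
    exact (mulSec_gen_bijective rfl _ V hV).comp ((ConcreteCategory.isIso_iff_bijective (e'.hom.app V)).1 inferInstance)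
  have hb := (ConcreteCategory.isIso_iff_bijective (φ.app (⊤ : (Proj (CohB1.polyGrading n k)).Opens))).1 inferInstance
  obtain ⟨u, hu⟩ := exists_sum_mulSec ℳ m hreg (φ.app ⊤ w)
  choose u' hu' using fun a => ((ConcreteCategory.isIso_iff_bijective (e'.hom.app (⊤ : (Proj (CohB1.polyGrading n k)).Opens))).1
    inferInstance).2 (u a)
  refine ⟨∑ a, KFlatLib.tm (DCoh.toP.obj A : KFlatLib.PM (Proj (CohB1.polyGrading n k)).presheaf)
    (DCoh.toP.obj (Twist.twist (CohB1.polyGrading n k) 1) : KFlatLib.PM (Proj (CohB1.polyGrading n k)).presheaf)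
    (u' a) (coordSec a), hb.1 ?_⟩
  rw [hu]
  refine (congrArg (φ.app ⊤) (map_sum _ _ _)).trans ((map_sum _ _ _).trans (Finset.sum_congr rfl fun a _ => ?_))
  refine (hφ ⊤ (u' a) (coordSec a)).trans ?_
  simp only [bl, hu']

end Field

end PnCohLib
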