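import Groth.Agent.PnCohLib.Regular
import Groth.Agent.SerreVanLib.Main
import Groth.Agent.PicPnLib.BaseChange
import Groth.Agent.AmpleThLib.VeryAmple
import Groth.Agent.ProjDegLib.Criterion
import Groth.Agent.HilbPolyLib.Twist

/-!
# Serre vanishing and existence of a regularity bound on projective space
-/

set_option autoImplicit false
universe u

open CategoryTheory CategoryTheory.Limits AlgebraicGeometry

noncomputable section

namespace PnCohLib

variable {n : ℕ} {R : Type u} [CommRing R]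

theorem isRelVeryAmplePn_twist :
    RelAmple.IsRelVeryAmplePn (CohB1.ProjSpace.toSpec n R) (Twist.twistProjSpace n R 1) := by
  obtain ⟨j, hj, hd⟩ := PicPnLib.exists_square (n := n) (R := R) (𝟙 (Spec (CommRingCat.of R)))
  haveI : IsIso j := hj.isIso_fst_of_isIso
  exact ⟨n, j, inferInstance, hj.w.trans (Category.comp_id _), ⟨(hd 1).some.symm⟩⟩

theorem tensorPow_twist : ∀ d : ℕ,
    Nonempty (CohB1.tensorPow (Twist.twistProjSpace n R 1) d ≅ Twist.twistProjSpace n R (d : ℤ))
  | 0 => by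
    obtain ⟨e⟩ := PicPnLib.twist_zero n R
    exact ⟨e.symm⟩
  | d + 1 => by
    obtain ⟨e⟩ := tensorPow_twist d
    obtain ⟨e'⟩ := PicPnLib.twist_add n R (d : ℤ) 1
    exact ⟨HilbPolyLib.congrLeft e _ ≪≫ e' ≪≫ eqToIso (by push_cast; rfl)⟩

variable (k : Type u) [Field k]

/-- **Serre vanishing on projective space.** -/
theorem exists_vanishing_twist (F : (CohB1.ProjSpace n k).Modules) (hF : Coh.IsCoh F) :
    ∃ d₀ : ℤ, ∀ d : ℤ, d₀ ≤ d → ∀ p : ℕ, 0 < p →
      Subsingleton (Coh.HH (CohB1.ProjSpace n k) (CohB1.tensorMod F (Twist.twistProjSpace n k d)) p) := by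
  haveI : IsProper (CohB1.ProjSpace.toSpec n k) := ProjDegLib.toSpec_isProper k n
  obtain ⟨d₀, hd₀⟩ := SerreVanLib.exists_vanishing_veryAmple (CohB1.ProjSpace.toSpec n k) isRelVeryAmplePn_twist F hF
  refine ⟨d₀, fun d hd p hp => ?_⟩
  obtain ⟨e⟩ := tensorPow_twist (n := n) (R := k) d.toNat
  refine SerreVanLib.subsingleton_HH_of_iso (HilbPolyLib.congrRight F (e ≪≫ eqToIso (by rw [Int.toNat_of_nonneg (by omega)]))).symm
    p (hd₀ d.toNat (by omega) p hp)

/-- A coherent module is regular from some degree on. -/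
theorem exists_regular (F : (CohB1.ProjSpace n k).Modules) (hF : Coh.IsCoh F) :
    ∃ m₀ : ℤ, ∀ m : ℤ, m₀ ≤ m → Curv2.IsMRegular k n F m := by
  obtain ⟨d₀, hd⟩ := exists_vanishing_twist k F hF
  exact ⟨d₀ + n, fun m hm i hi hin => hd (m - i) (by omega) i hi⟩

end PnCohLib
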