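import Groth.Agent.PnCohLib.Resol
import Groth.Agent.PnCohLib.Serre
import Groth.Agent.PnCohLib.Mult
import Groth.Agent.CurvLib.Euler
import Groth.Agent.DegPullLib.H0
import Groth.Agent.GradedCechLib.Main

/-!
# Regularity from a hyperplane section
-/

set_option autoImplicit false
universe u

open CategoryTheory CategoryTheory.Limits AlgebraicGeometry MonoidalCategory TopologicalSpace Opposite

noncomputable section

namespace PnCohLib

section Gen

variable {X : Scheme.{u}}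

/-- Global sections of a tensor product with a map surjective on global sections. -/
theorem surjective_tensor_app {L A B : X.Modules} (ψ : A ⟶ B)
    (hψ : ∀ b : Γ(B, (⊤ : X.Opens)), ∃ a, ψ.app ⊤ a = b)
    (hB : ∀ w : Γ(KFlatLib.tens B L, (⊤ : X.Opens)), ∃ s, KFlatLib.shApp B L ⊤ s = w)
    (w : Γ(KFlatLib.tens L B, (⊤ : X.Opens))) :
    ∃ v, (((DCoh.tensorBi (X := X)).obj L).map ψ).app ⊤ v = w := by
  obtain ⟨s, hs⟩ := hB ((KFlatLib.tensSwap B L).hom.app ⊤ w)
  have h1 := KFlatLib.shApp_map (M := B) (N := L) (M' := L) (N' := B) (β_ (DCoh.toP.obj B : KFlatLib.PM X.presheaf)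
      (DCoh.toP.obj L : KFlatLib.PM X.presheaf)).hom ⊤ s
  have hw : w = KFlatLib.shApp L B ⊤ (((β_ (DCoh.toP.obj B : KFlatLib.PM X.presheaf)
      (DCoh.toP.obj L : KFlatLib.PM X.presheaf)).hom.app (op ⊤)) s) := by
    refine Eq.trans ?_ h1
    rw [hs]
    exact (congrArg (fun f : KFlatLib.tens L B ⟶ KFlatLib.tens L B => f.app ⊤ w)
      (KFlatLib.tensSwap B L).hom_inv_id).symm
  generalize ((β_ (DCoh.toP.obj B : KFlatLib.PM X.presheaf)
      (DCoh.toP.obj L : KFlatLib.PM X.presheaf)).hom.app (op ⊤)) s = t at hw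
  subst hw
  obtain ⟨t', ht⟩ : ∃ t', ((DCoh.toP.obj L : KFlatLib.PM X.presheaf) ◁ DCoh.toP.map ψ).app (op ⊤) t' = t := by
    refine TensorProduct.induction_on t ⟨0, map_zero _⟩ (fun l b => ?_) ?_
    · obtain ⟨a, rfl⟩ := hψ b
      exact ⟨KFlatLib.tm (DCoh.toP.obj L : KFlatLib.PM X.presheaf) (DCoh.toP.obj A : KFlatLib.PM X.presheaf) l a, rfl⟩
    · rintro x y ⟨x', rfl⟩ ⟨y', rfl⟩
      exact ⟨x' + y', map_add _ _ _⟩
  exact ⟨KFlatLib.shApp L A ⊤ t', (KFlatLib.shApp_map (M := L) (N := A)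
    ((DCoh.toP.obj L : KFlatLib.PM X.presheaf) ◁ DCoh.toP.map ψ) ⊤ t').trans (congrArg _ ht)⟩

variable {k : Type u} [Field k] [X.Over (Spec (CommRingCat.of k))] {S : ShortComplex X.Modules}

theorem e0_map {M N : X.Modules} (φ : M ⟶ N) (x : Coh.HH X M 0) :
    DegPullLib.e0 N (CurvLib.hMap (k := k) φ 0 x) = φ.app ⊤ (DegPullLib.e0 M x) := by
  have h1 := QCohLib.hEquiv_map ((QCohLib.toAbF X).map φ) 0 x
  have h2 := QCohLib.h0_comp (QCohLib.hEquiv ((QCohLib.toAbF X).obj M) 0 x) ((QCohLib.toAbF X).map φ)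
  exact (congrArg (QCohLib.h0 (U := (⊤ : Opens X.toTopCat))) h1).trans h2

/-- Surjectivity on global sections, vanishing of the connecting map and injectivity in degree one agree. -/
theorem injective_one_iff (hS : S.ShortExact) :
    Function.Injective (CurvLib.hMap (k := k) S.f 1) ↔ ∀ b : Γ(S.X₃, (⊤ : X.Opens)), ∃ a, S.g.app ⊤ a = b := by
  constructor
  · intro hi b
    have h1 : (DegPullLib.e0 S.X₃).symm b ∈ LinearMap.range (CurvLib.hMap (k := k) S.g 0) := by
      rw [CurvLib.exact₃ hS 0, LinearMap.mem_ker]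
      refine hi ?_
      have h2 : CurvLib.hDel (k := k) hS 0 ((DegPullLib.e0 S.X₃).symm b) ∈
          LinearMap.ker (CurvLib.hMap (k := k) S.f 1) := by
        rw [← CurvLib.exact₁ hS 0]; exact ⟨_, rfl⟩
      exact (LinearMap.mem_ker.1 h2).trans (map_zero _).symm
    obtain ⟨x, hx⟩ := h1
    refine ⟨DegPullLib.e0 S.X₂ x, ?_⟩
    rw [← e0_map (k := k), hx, AddEquiv.apply_symm_apply]
  · intro h
    rw [← LinearMap.ker_eq_bot, ← CurvLib.exact₁ hS 0, LinearMap.range_eq_bot]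
    ext x
    obtain ⟨a, ha⟩ := h (DegPullLib.e0 S.X₃ x)
    have h1 : x ∈ LinearMap.range (CurvLib.hMap (k := k) S.g 0) :=
      ⟨(DegPullLib.e0 S.X₂).symm a, (DegPullLib.e0 S.X₃).injective (by
        rw [e0_map, AddEquiv.apply_symm_apply]; exact ha)⟩
    rwa [CurvLib.exact₃ hS 0, LinearMap.mem_ker] at h1

/-- Vanishing squeezed between the neighbours. -/
theorem subsingleton_X₁_succ (hS : S.ShortExact) {p : ℕ} (h₂ : Subsingleton (Coh.HH X S.X₂ (p + 1)))
    (h₃ : Subsingleton (Coh.HH X S.X₃ p)) : Subsingleton (Coh.HH X S.X₁ (p + 1)) := by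
  haveI : Subsingleton (QCohLib.HU (S.map (QCohLib.toAbF X)).X₂ (p + 1) ⊤) := AmpleDevLib.hu_of_hh h₂
  haveI : Subsingleton (QCohLib.HU (S.map (QCohLib.toAbF X)).X₃ p ⊤) := AmpleDevLib.hu_of_hh h₃
  exact AmpleDevLib.hh_of_hu (QCohLib.subsingleton_X₁ (QCohLib.toAbF_shortExact hS))

theorem surjective_of_X₃ (hS : S.ShortExact) {p : ℕ} (h₃ : Subsingleton (Coh.HH X S.X₃ p)) :
    Function.Surjective (CurvLib.hMap (k := k) S.f p) := fun y => by
  refine LinearMap.mem_range.mp ?_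
  rw [CurvLib.exact₂ hS p, LinearMap.mem_ker]
  exact Subsingleton.elim _ _

theorem finrank_le_of_X₃ (hS : S.ShortExact) {p : ℕ} [Module.Finite k (Coh.HH X S.X₁ p)]
    (h₃ : Subsingleton (Coh.HH X S.X₃ p)) :
    Module.finrank k (Coh.HH X S.X₂ p) ≤ Module.finrank k (Coh.HH X S.X₁ p) :=
  LinearMap.finrank_le_finrank_of_surjective (surjective_of_X₃ hS h₃)

/-- When the first cohomologies are equidimensional, global sections lift. -/
theorem finrank_eq_iff_lift (hS : S.ShortExact) [Module.Finite k (Coh.HH X S.X₁ 1)] [Module.Finite k (Coh.HH X S.X₂ 1)]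
    (h₃ : Subsingleton (Coh.HH X S.X₃ 1)) :
    Module.finrank k (Coh.HH X S.X₁ 1) = Module.finrank k (Coh.HH X S.X₂ 1) ↔
      ∀ b : Γ(S.X₃, (⊤ : X.Opens)), ∃ a, S.g.app ⊤ a = b := by
  rw [← injective_one_iff (k := k) hS]
  constructor
  · exact fun h => (LinearMap.injective_iff_surjective_of_finrank_eq_finrank h).2 (surjective_of_X₃ hS h₃)
  · exact fun h => (LinearEquiv.ofBijective _ ⟨h, surjective_of_X₃ hS h₃⟩).finrank_eq

/-- Twisting a sequence whose sections lift keeps the first cohomologies equidimensional. -/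
theorem finrank_eq_tensor (hS : S.ShortExact) {L : X.Modules} (hL : PicF.IsInvertible L) {A B : X.Modules}
    (a : CohB1.tensorMod L S.X₁ ≅ A) (b : CohB1.tensorMod L S.X₂ ≅ B)
    [Module.Finite k (Coh.HH X A 1)] [Module.Finite k (Coh.HH X B 1)]
    (h₃ : Subsingleton (Coh.HH X (CohB1.tensorMod L S.X₃) 1))
    (hlift : ∀ u : Γ(S.X₃, (⊤ : X.Opens)), ∃ v, S.g.app ⊤ v = u)
    (hmult : ∀ w : Γ(KFlatLib.tens S.X₃ L, (⊤ : X.Opens)), ∃ s, KFlatLib.shApp S.X₃ L ⊤ s = w) :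
    Module.finrank k (Coh.HH X A 1) = Module.finrank k (Coh.HH X B 1) := by
  let S' := S.map (CurvLib.tensorLeft' L)
  have hS' : S'.ShortExact := HilbPolyLib.shortExact_tensor hL hS
  let a' : S'.X₁ ≅ A := a
  let b' : S'.X₂ ≅ B := b
  haveI : Module.Finite k (Coh.HH X S'.X₁ 1) := Module.Finite.equiv (CurvLib.hIso (k := k) a'.symm 1)
  haveI : Module.Finite k (Coh.HH X S'.X₂ 1) := Module.Finite.equiv (CurvLib.hIso (k := k) b'.symm 1)
  rw [← (CurvLib.hIso (k := k) a' 1).finrank_eq, ← (CurvLib.hIso (k := k) b' 1).finrank_eq]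
  exact (finrank_eq_iff_lift (k := k) hS' h₃).2 fun v => surjective_tensor_app S.g hlift hmult v

theorem isCoh_cok_gen {X : Scheme.{u}} (F : X.Modules) (hF : Coh.IsCoh F) {L : X.Modules} (hL : PicF.IsInvertible L)
    (φ : CohB1.tensorMod F L ⟶ F) : Coh.IsCoh (cokernel φ) := by
  have h : Coh.IsQCoh (CohB1.tensorMod F L) := (SerreVanLib.isCoh_tensor hF hL).1
  exact QCohLib.isCoh_cokernel φ h hF

end Gen

variable {n : ℕ} (k : Type u) [Field k]

local notation "P" => CohB1.ProjSpace n k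
local notation "O'" => Twist.twistProjSpace n k

theorem exists_seq (F : (CohB1.ProjSpace n k).Modules) (ι : CohB1.tensorMod F (O' (-1)) ⟶ F) [Mono ι] (j : ℤ) :
    ∃ (f : CohB1.tensorMod F (O' (j - 1)) ⟶ CohB1.tensorMod F (O' j))
      (g : CohB1.tensorMod F (O' j) ⟶ CohB1.tensorMod (cokernel ι) (O' j)) (w : f ≫ g = 0),
      (ShortComplex.mk f g w).ShortExact := by
  let S : ShortComplex (CohB1.ProjSpace n k).Modules := ShortComplex.mk ι (cokernel.π ι) (cokernel.condition ι)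
  have hS : S.ShortExact := ShortComplex.ShortExact.mk (ShortComplex.exact_cokernel ι)
  let U := S.map (CurvLib.tensorLeft' (O' j))
  have hU : U.ShortExact := HilbPolyLib.shortExact_tensor (PicPnLib.twist_inv n k j) hS
  obtain ⟨e⟩ := PicPnLib.twist_add n k (-1) j
  let e₁ : U.X₁ ≅ CohB1.tensorMod F (O' (j - 1)) := HilbPolyLib.swapIso (O' j) _ ≪≫ HilbPolyLib.assocIso F _ _ ≪≫
    HilbPolyLib.congrRight F (e ≪≫ eqToIso (by rw [neg_add_eq_sub]))
  let e₂ : U.X₂ ≅ CohB1.tensorMod F (O' j) := HilbPolyLib.swapIso (O' j) F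
  let e₃ : U.X₃ ≅ CohB1.tensorMod (cokernel ι) (O' j) := HilbPolyLib.swapIso (O' j) (cokernel ι)
  have w : (e₁.inv ≫ U.f ≫ e₂.hom) ≫ e₂.inv ≫ U.g ≫ e₃.hom = 0 := by
    simp only [Category.assoc, Iso.hom_inv_id_assoc, reassoc_of% U.zero, zero_comp, comp_zero]
  exact ⟨_, _, w, ShortComplex.shortExact_of_iso (ShortComplex.isoMk e₁ e₂ e₃
    (by simp) (by simp)) hU⟩

theorem regular_ge (G : (CohB1.ProjSpace n k).Modules) (hG : Coh.IsQCoh G) (m : ℤ) (h : Curv2.IsMRegular k n G m) :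
    ∀ d : ℕ, Curv2.IsMRegular k n G (m + d)
  | 0 => by simpa using h
  | d + 1 => by
    have := isMRegular_succ k G hG _ (regular_ge G hG m h d)
    rwa [show m + ((d + 1 : ℕ) : ℤ) = m + (d : ℤ) + 1 by push_cast; ring]

theorem vanishing_ge (G : (CohB1.ProjSpace n k).Modules) (hG : Coh.IsQCoh G) (m : ℤ) (h : Curv2.IsMRegular k n G m)
    (i : ℕ) (hi : 1 ≤ i) (j : ℤ) (hj : m - i ≤ j) :
    Subsingleton (Coh.HH (CohB1.ProjSpace n k) (CohB1.tensorMod G (O' j)) i) := by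
  rcases Nat.lt_or_ge n i with h' | h'
  · exact subsingleton_HH_of_big k G hG j i h'
  · have := regular_ge k G hG m h (j - (m - i)).toNat i hi h'
    rwa [Int.toNat_of_nonneg (by omega), show m + (j - (m - i)) - i = j by ring] at this

variable (F : (CohB1.ProjSpace n k).Modules) (ι : CohB1.tensorMod F (Twist.twistProjSpace n k (-1)) ⟶ F) [Mono ι]

omit [Mono ι] in
theorem isCoh_cok (hF : Coh.IsCoh F) : Coh.IsCoh (cokernel ι) :=
  @isCoh_cok_gen (CohB1.ProjSpace n k) F hF (Twist.twistProjSpace n k (-1)) (PicPnLib.twist_inv n k (-1)) ι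

/-- (i): the higher cohomology. -/
theorem vanishing_two (hF : Coh.IsCoh F) (m : ℤ) (hG : Curv2.IsMRegular k n (cokernel ι) m)
    (i : ℕ) (hi : 2 ≤ i) (j : ℤ) (hj : m - i ≤ j) :
    Subsingleton (Coh.HH (CohB1.ProjSpace n k) (CohB1.tensorMod F (O' j)) i) := by
  have hC : Coh.IsCoh (cokernel ι) := isCoh_cok k F ι hF
  obtain ⟨d₀, hd⟩ := exists_vanishing_twist k F hF
  suffices ∀ (e : ℕ) (t : ℤ), m - i ≤ t → d₀ ≤ t + e →
      Subsingleton (Coh.HH (CohB1.ProjSpace n k) (CohB1.tensorMod F (O' t)) i) from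
    this (d₀ - j).toNat j hj (by omega)
  intro e
  induction e with
  | zero => exact fun t _ h => hd t (by simpa using h) i (by omega)
  | succ e ih =>
    intro t h1 h2
    obtain ⟨f, g, w, hS⟩ := exists_seq k F ι (t + 1)
    obtain ⟨p, rfl⟩ : ∃ p, i = p + 1 := ⟨i - 1, by omega⟩
    have := subsingleton_X₁_succ hS (ih (t + 1) (by omega) (by omega))
      (vanishing_ge k _ hC.1 m hG p (by omega) (t + 1) (by omega))
    simp only [add_sub_cancel_right] at this
    exact this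

/-- `h¹` of the twists. -/
abbrev h1 (j : ℤ) : ℕ := Module.finrank k (Coh.HH (CohB1.ProjSpace n k) (CohB1.tensorMod F (O' j)) 1)

theorem finite_twist (hF : Coh.IsCoh F) (j : ℤ) (p : ℕ) :
    Module.Finite k (Coh.HH (CohB1.ProjSpace n k) (CohB1.tensorMod F (O' j)) p) :=
  GradedCechLib.finite_HH _ (SerreVanLib.isCoh_tensor hF (PicPnLib.twist_inv n k _)) p

/-- (ii): `h¹` decreases. -/
theorem h1_le (hF : Coh.IsCoh F) (m : ℤ) (hG : Curv2.IsMRegular k n (cokernel ι) m) (j : ℤ) (hj : m - 1 ≤ j) :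
    h1 k F j ≤ h1 k F (j - 1) := by
  have hC : Coh.IsCoh (cokernel ι) := isCoh_cok k F ι hF
  obtain ⟨f, g, w, hS⟩ := exists_seq k F ι j
  haveI := finite_twist k F hF (j - 1) 1
  exact finrank_le_of_X₃ hS (vanishing_ge k _ hC.1 m hG 1 le_rfl j (by simpa using hj))

/-- Once `h¹` stops falling it stays constant. -/
theorem h1_eq_succ (hF : Coh.IsCoh F) (m : ℤ) (hG : Curv2.IsMRegular k n (cokernel ι) m) (j : ℤ) (hj : m ≤ j)
    (he : h1 k F (j - 1) = h1 k F j) : h1 k F j = h1 k F (j + 1) := by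
  have hC : Coh.IsCoh (cokernel ι) := isCoh_cok k F ι hF
  have hGj : Curv2.IsMRegular k n (cokernel ι) j := by
    have := regular_ge k _ hC.1 m hG (j - m).toNat
    rwa [Int.toNat_of_nonneg (by omega), add_sub_cancel] at this
  obtain ⟨f, g, w, hS⟩ := exists_seq k F ι j
  haveI := fun t => finite_twist k F hF t 1
  have hlift := (finrank_eq_iff_lift (k := k) hS (vanishing_ge k _ hC.1 m hG 1 le_rfl j (by omega))).1 he
  obtain ⟨a⟩ := twist_twist (n := n) (R := k) 1 (j - 1) j (by ring) F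
  obtain ⟨b⟩ := twist_twist (n := n) (R := k) 1 j (j + 1) (by ring) F
  obtain ⟨c⟩ := twist_twist (n := n) (R := k) 1 j (j + 1) (by ring) (cokernel ι)
  exact finrank_eq_tensor hS (PicPnLib.twist_inv n k 1)
    (HilbPolyLib.congrRight _ (HilbPolyLib.swapIso F _) ≪≫ a ≪≫ HilbPolyLib.swapIso _ _)
    (HilbPolyLib.congrRight _ (HilbPolyLib.swapIso F _) ≪≫ b ≪≫ HilbPolyLib.swapIso _ _)
    (SerreVanLib.subsingleton_HH_of_iso (HilbPolyLib.congrRight _ (HilbPolyLib.swapIso (cokernel ι) _) ≪≫ c ≪≫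
      HilbPolyLib.swapIso _ _) 1 (vanishing_ge k _ hC.1 m hG 1 le_rfl (j + 1) (by omega)))
    hlift (fun u => surjective_mult k (cokernel ι) hC.1 j hGj u)

theorem h1_eventually (hF : Coh.IsCoh F) (m : ℤ) (hG : Curv2.IsMRegular k n (cokernel ι) m) (j : ℤ) (hj : m ≤ j)
    (he : h1 k F (j - 1) = h1 k F j) : h1 k F (j - 1) = 0 := by
  have h : ∀ e : ℕ, h1 k F (j + e - 1) = h1 k F (j - 1) ∧ h1 k F (j + e - 1) = h1 k F (j + e) := by
    intro e
    induction e with
    | zero => simpa using he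
    | succ e ih =>
      refine ⟨?_, ?_⟩
      · rw [show j + ((e + 1 : ℕ) : ℤ) - 1 = j + e by push_cast; ring, ← ih.2, ih.1]
      · have := h1_eq_succ k F ι hF m hG (j + e) (by omega) ih.2
        rwa [show j + ((e + 1 : ℕ) : ℤ) - 1 = j + e by push_cast; ring,
          show j + ((e + 1 : ℕ) : ℤ) = j + e + 1 by push_cast; ring]
  obtain ⟨d₀, hd⟩ := exists_vanishing_twist k F hF
  have := hd (j + (d₀ + 1 - j).toNat - 1) (by omega) 1 one_pos
  rw [← (h (d₀ + 1 - j).toNat).1]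
  exact Module.finrank_zero_of_subsingleton

/-- (iii): the bound. -/
theorem h1_bound (hF : Coh.IsCoh F) (m : ℤ) (hG : Curv2.IsMRegular k n (cokernel ι) m) :
    ∀ d : ℕ, h1 k F (m - 1 + d) ≤ h1 k F (m - 1) - d
  | 0 => by simp
  | d + 1 => by
    have h := h1_bound hF m hG d
    have h2 := h1_le k F ι hF m hG (m - 1 + ((d + 1 : ℕ) : ℤ)) (by omega)
    rw [show m - 1 + ((d + 1 : ℕ) : ℤ) - 1 = m - 1 + d by push_cast; ring] at h2
    rcases h2.lt_or_eq with h3 | h3
    · omega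
    · have h4 := h1_eventually k F ι hF m hG (m - 1 + ((d + 1 : ℕ) : ℤ)) (by omega)
        (by rw [show m - 1 + ((d + 1 : ℕ) : ℤ) - 1 = m - 1 + d by push_cast; ring]; exact h3.symm)
      rw [show m - 1 + ((d + 1 : ℕ) : ℤ) - 1 = m - 1 + d by push_cast; ring] at h4
      omega

end PnCohLib
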