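import Groth.Agent.PnCohLib.Laurent
import Groth.Agent.PnTildeLib.Global

/-!
# Cohomology of the twisting sheaves on projective space
-/

set_option autoImplicit false
universe u

open CategoryTheory CategoryTheory.Limits AlgebraicGeometry MvPolynomial
open GrTildeLib GradedCechLib PnTildeLib

noncomputable section

namespace PnCohLib

variable {n : ℕ} {R : Type u} [CommRing R]

/-- A polynomial as a vector of length one. -/
def vec1 : Poly n R →ₗ[Poly n R] (Fin 1 → Poly n R) := LinearMap.pi fun _ => LinearMap.id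

theorem mem_piece_iff (d : ℤ) (y : Fin 1 → Poly n R) :
    y ∈ (freeGrading R (ι := Fin (n + 1)) (Fin 1) (fun _ => (0 : ℤ))).piece d ↔
      y 0 ∈ (posGrading (n := n) (CohB1.polyGrading n R)).piece d := by
  have hw : ∀ a : Fin (n + 1) →₀ ℕ, ((Finsupp.weight (1 : Fin (n + 1) → ℕ)) a : ℤ) = ∑ i, (a i : ℤ) := fun a => by
    rw [Finsupp.weight_apply, Finsupp.sum_fintype _ _ (fun i => by simp)]
    simp
  constructor
  · intro hy
    by_cases hd : 0 ≤ d
    · rw [← Int.toNat_of_nonneg hd, posGrading_piece_natCast]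
      intro a ha
      have h1 := hy 0 a ha
      have h2 := hw a
      rw [add_zero] at h1
      omega
    · have : y 0 = 0 := by
        ext a
        rw [coeff_zero]
        by_contra ha
        have h1 := hy 0 a ha
        rw [add_zero] at h1
        exact hd (h1 ▸ Finset.sum_nonneg fun i _ => Int.natCast_nonneg _)
      rw [this]
      exact zero_mem _
  · intro hy k a ha
    obtain rfl : k = 0 := Subsingleton.elim _ _
    rcases mem_posGrading (n := n) (CohB1.polyGrading n R) hy with ⟨hy, hd⟩ | hy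
    · have h1 : Finsupp.weight (1 : Fin (n + 1) → ℕ) a = d.toNat := hy ha
      have h2 := hw a
      show _ = d + 0
      omega
    · rw [hy, coeff_zero] at ha
      exact absurd rfl ha

theorem vec1_isHom : IsHom (posGrading (n := n) (CohB1.polyGrading n R))
    (freeGrading R (ι := Fin (n + 1)) (Fin 1) (fun _ => (0 : ℤ))) vec1 :=
  fun d y hy => (mem_piece_iff d _).2 hy

theorem vec1_bijective (d : ℤ) (s : Finset (Fin (n + 1))) :
    Function.Bijective ((sysMap _ _ (vec1 (n := n) (R := R)) vec1_isHom d).app s).hom := by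
  constructor
  · intro z z' e
    exact Subtype.ext (LocalizedModule.map_injective _ (vec1 (n := n) (R := R))
      (fun x y h => congrFun h 0) (congrArg Subtype.val e))
  · intro (z : locPiece (freeGrading R (ι := Fin (n + 1)) (Fin 1) (fun _ => (0 : ℤ))) d s)
    obtain ⟨m, y, hy, hz⟩ := z.2
    refine ⟨⟨frac s (y 0) m, m, y 0, (mem_piece_iff _ y).1 hy, rfl⟩, Subtype.ext ?_⟩
    refine (locMap_frac _ s (y 0) m).trans ?_
    rw [hz, show vec1 (y 0) = y from funext fun k => by rw [Subsingleton.elim k 0]; rfl]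

/-- A map of modules on the systems of sections. -/
def secMap {M N : (CohB1.ProjSpace n R).Modules} (φ : M ⟶ N) : secSys M ⟶ secSys N where
  app s := show ModuleCat.of R (SecR M (Uof s)) ⟶ ModuleCat.of R (SecR N (Uof s)) from ModuleCat.ofHom
    { toFun := fun x => (toS N).symm (φ.app (Uof s) (toS M x))
      map_add' := fun x y => by simp
      map_smul' := fun r x => by
        apply (toS N).injective
        rw [RingHom.id_apply, AddEquiv.apply_symm_apply, toS_smul, toS_smul, AddEquiv.apply_symm_apply]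
        exact Scheme.Modules.Hom.app_smul φ _ _ }
  naturality {s t} f := ModuleCat.hom_ext (LinearMap.ext fun x =>
    ConcreteCategory.congr_hom (φ.mapPresheaf.naturality (homOfLE (Finset.inf_mono (leOfHom f))).op) (toS M x))

theorem secMap_bijective {M N : (CohB1.ProjSpace n R).Modules} (φ : M ⟶ N) [IsIso φ] (s : Finset (Fin (n + 1))) :
    Function.Bijective ((secMap φ).app s).hom := by
  have := (ConcreteCategory.isIso_iff_bijective (φ.app (Uof s : (CohB1.ProjSpace n R).Opens))).1 inferInstance
  exact this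

variable (n R) in
/-- Cohomology of a twist, compared with Laurent monomials. -/
theorem exists_HH_twist (d : ℤ) (p : ℕ) :
    Nonempty (H (LS R n d) p ≃ₗ[R] Coh.HH (CohB1.ProjSpace n R) (Twist.twistProjSpace n R d) p) := by
  let M : (CohB1.ProjSpace n R).Modules := Twist.twistProjSpace n R d
  haveI : Coh.IsQCoh M := GrTildeLib.isQCoh_twist d
  let φ : tl (n := n) (CohB1.polyGrading n R) d ⟶ M := (twistIsoTilde (CohB1.polyGrading n R) d).inv
  haveI : IsIso φ := inferInstanceAs (IsIso (twistIsoTilde (CohB1.polyGrading n R) d).inv)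
  obtain ⟨e, he⟩ := exists_HH_equiv M p
  let e₀ : H (secSys M) p ≃ₗ[R] Coh.HH (CohB1.ProjSpace n R) M p := { e with map_smul' := he }
  exact ⟨((freeHIso (Fin 1) (fun _ => (0 : ℤ)) d p).symm ≪≫
    (hIsoOfBijective _ (fun s _ => vec1_bijective d s) p).symm ≪≫
    hIsoOfBijective _ (toSys_bijective (CohB1.polyGrading n R) d) p ≪≫
    hIsoOfBijective _ (fun s _ => secMap_bijective φ s) p).toLinearEquiv.trans e₀⟩

/-- Vanishing of the cohomology of the twists. -/
theorem subsingleton_HH_twist (d : ℤ) (q : ℕ) (h₀ : ¬ (q = 0 ∧ 0 ≤ d)) (hn : ¬ (q = n ∧ d ≤ -((n : ℤ) + 1))) :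
    Subsingleton (Coh.HH (CohB1.ProjSpace n R) (Twist.twistProjSpace n R d) q) := by
  obtain ⟨e⟩ := exists_HH_twist n R d q
  suffices Subsingleton (H (LS R n d) q) from e.symm.injective.subsingleton
  rcases q with _ | q
  · rcases n with _ | m
    · exfalso; omega
    obtain ⟨f⟩ := exists_H_zero (R := R) (n := m + 1) (d := d) (by omega)
    haveI := isEmpty_CS (n := m + 1) (d := d) (by omega)
    exact f.injective.subsingleton
  · exact ModuleCat.subsingleton_of_isZero (isZero_H_pos (q + 1) (by omega) fun hq => by omega)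

/-- The bottom cohomology. -/
theorem exists_HH_zero (hn : 1 ≤ n) (k : ℕ) :
    Nonempty (Coh.HH (CohB1.ProjSpace n R) (Twist.twistProjSpace n R k) 0 ≃ₗ[R] (Deg n k →₀ R)) := by
  obtain ⟨e⟩ := exists_HH_twist n R (k : ℤ) 0
  obtain ⟨f⟩ := exists_H_zero (R := R) (n := n) (d := (k : ℤ)) hn
  exact ⟨e.symm.trans (f.trans (Finsupp.domLCongr (csEquiv k).symm))⟩

/-- The top cohomology. -/
theorem exists_HH_top (k : ℕ) : Nonempty (Coh.HH (CohB1.ProjSpace n R)
    (Twist.twistProjSpace n R (-((n : ℤ) + 1 + k))) n ≃ₗ[R] (Deg n k →₀ R)) := by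
  obtain ⟨e⟩ := exists_HH_twist n R (-((n : ℤ) + 1 + k)) n
  obtain ⟨f⟩ := exists_H_top (R := R) (n := n) (d := -((n : ℤ) + 1 + k)) (fun _ => by omega)
  exact ⟨e.symm.trans (f.trans (Finsupp.domLCongr (bsEquiv k).symm))⟩

end PnCohLib
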