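import Groth.Agent.PnCohLib.Global
import Groth.Agent.PnCohLib.Twist
import Groth.Agent.HilbPolyLib.Twist
import Groth.Agent.AmpleDevLib.Devissage
import Groth.Agent.PicPnLib.Twist
import Groth.Agent.PicPnLib.BaseChange
import Groth.Agent.CurvLib.EulerTensor
import Groth.Agent.MiscFlat6.CounitTwist

/-!
# Regularity and one step of a linear resolution
-/

set_option autoImplicit false
universe u

open CategoryTheory CategoryTheory.Limits AlgebraicGeometry MvPolynomial TopologicalSpace Opposite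
open GradedCechLib PnTildeLib

noncomputable section

namespace PnCohLib

variable {n : ℕ} {R : Type u} [CommRing R]

local notation "P" => CohB1.ProjSpace n R
local notation "O'" => Twist.twistProjSpace n R

/-- Finitely many global sections generate all of them over the global functions. -/
theorem exists_global_gens [IsNoetherianRing R] (M : (CohB1.ProjSpace n R).Modules) (hM : Coh.IsCoh M) :
    ∃ (b : ℕ) (s : Fin b → Γ(M, (⊤ : (CohB1.ProjSpace n R).Opens))), ∀ w : Γ(M, (⊤ : (CohB1.ProjSpace n R).Opens)),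
      ∃ c : Fin b → Γ(CohB1.ProjSpace n R, (⊤ : (CohB1.ProjSpace n R).Opens)), w = ∑ a, c a • s a := by
  haveI : Coh.IsQCoh M := hM.1
  obtain ⟨e, he⟩ := exists_HH_equiv M 0
  haveI := GradedCechLib.finite_HH M hM 0
  let e' : H (secSys M) 0 ≃ₗ[R] Coh.HH (CohB1.ProjSpace n R) M 0 := { e with map_smul' := he }
  haveI : Module.Finite R (H (secSys M) 0) := Module.Finite.equiv e'.symm
  let toC : H (secSys M) 0 →ₗ[R] Cochain (secSys M) 0 := ((cx (secSys M)).isoHomologyπ₀.inv ≫ (cx (secSys M)).iCycles 0).hom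
  let ρ : (secSys M).obj ∅ →ₗ[R] Cochain (secSys M) 0 := LinearMap.pi fun J => res (secSys M) (Finset.empty_subset (rng J))
  have htop : (Uof (∅ : Finset (Fin (n + 1))) : (CohB1.ProjSpace n R).Opens) = ⊤ := Finset.inf_empty
  have hρ : Function.Injective ρ := fun x y hxy => by
    apply (toS M).injective
    refine TopCat.Sheaf.eq_of_locally_eq' ((QCohLib.toAbF _).obj M)
      (fun i : Fin (n + 1) => (Uof (rng (fun _ : Fin 1 => i)) : (CohB1.ProjSpace n R).Opens)) _
      (fun i => homOfLE (Finset.inf_mono (Finset.empty_subset _))) (fun z _ => ?_) _ _ fun i => ?_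
    · obtain ⟨i, hi⟩ := exists_mem_stdOpen z
      exact Opens.mem_iSup.2 ⟨i, mem_Uof_single hi⟩
    · exact congrFun hxy fun _ => i
  have hrange : LinearMap.range ρ ≤ LinearMap.range toC := by
    rintro _ ⟨x, rfl⟩
    have hc : ((cx (secSys M)).d 0 1).hom (ρ x) = 0 := (cx_d (L := secSys M) 0 _).trans (dd_const x)
    let cyc := ((cx (secSys M)).liftCycles (A := ModuleCat.of R R) (ModuleCat.ofHom (LinearMap.toSpanSingleton R _ (ρ x)))
      1 (by simp) (ModuleCat.hom_ext (LinearMap.ext_ring ((congrArg ((cx (secSys M)).d 0 1).hom (one_smul R (ρ x))).trans hc)))).hom 1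
    refine ⟨(cx (secSys M)).isoHomologyπ₀.hom.hom cyc, ?_⟩
    show ((cx (secSys M)).iCycles 0).hom ((cx (secSys M)).isoHomologyπ₀.inv.hom ((cx (secSys M)).isoHomologyπ₀.hom.hom cyc)) = ρ x
    rw [show (cx (secSys M)).isoHomologyπ₀.inv.hom ((cx (secSys M)).isoHomologyπ₀.hom.hom cyc) = cyc from
      ConcreteCategory.congr_hom ((cx (secSys M)).isoHomologyπ₀.hom_inv_id) cyc]
    refine Eq.trans ?_ (one_smul R (ρ x))
    have h2 := (cx (secSys M)).liftCycles_i (A := ModuleCat.of R R)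
      (ModuleCat.ofHom (LinearMap.toSpanSingleton R _ (ρ x)))
      1 (by simp) (ModuleCat.hom_ext (LinearMap.ext_ring ((congrArg ((cx (secSys M)).d 0 1).hom (one_smul R (ρ x))).trans hc)))
    exact LinearMap.congr_fun (congrArg ModuleCat.Hom.hom h2) (1 : R)
  haveI : Module.Finite R (LinearMap.range toC) := Module.Finite.range toC
  haveI : IsNoetherian R (LinearMap.range toC) := isNoetherian_of_isNoetherianRing_of_finite R _
  haveI : Module.Finite R ((secSys M).obj ∅) := Module.Finite.of_injective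
    ((ρ.codRestrict (LinearMap.range toC) fun x => hrange ⟨x, rfl⟩)) fun x y h => hρ (congrArg Subtype.val h)
  obtain ⟨b, t, ht⟩ := Module.Finite.exists_fin (R := R) (M := (secSys M).obj ∅)
  refine ⟨b, fun a => AmpleLib.res M htop.ge (toS M (t a)), fun w => ?_⟩
  obtain ⟨r, hr⟩ := (Submodule.mem_span_range_iff_exists_fun R).1
    (ht.ge (Submodule.mem_top (x := (toS M).symm (AmpleLib.res M (le_top : (Uof (∅ : Finset (Fin (n + 1))) : (CohB1.ProjSpace n R).Opens) ≤ ⊤) w))))
  refine ⟨fun a => resO n R htop.ge (cstOn n R _ (r a)), ?_⟩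
  have h1 := congrArg (fun z => AmpleLib.res M htop.ge (toS M z)) hr
  simp only [AddEquiv.apply_symm_apply] at h1
  rw [AmpleLib.res_res, AmpleLib.res_refl] at h1
  refine h1.symm.trans ?_
  erw [map_sum]
  refine (map_sum (M.presheaf.map (homOfLE htop.ge).op).hom _ _).trans ?_
  refine Finset.sum_congr rfl fun a _ => ?_
  erw [toS_smul]
  exact AmpleLib.res_smul M htop.ge _ _

theorem additive_tensor (L : (CohB1.ProjSpace n R).Modules) : (CurvLib.tensorLeft' L).Additive := inferInstance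

/-- Tensoring commutes with finite sums. -/
theorem exists_sigma_iso (L : (CohB1.ProjSpace n R).Modules) (b : ℕ) :
    Nonempty ((∐ fun _ : Fin b => L) ≅ CohB1.tensorMod L (FlatMod.freeMod (CohB1.ProjSpace n R) b)) := by
  haveI := Functor.preservesFiniteBiproductsOfAdditive (CurvLib.tensorLeft' L)
  haveI : PreservesColimit (Discrete.functor fun _ : Fin b => Coh.structureModule (CohB1.ProjSpace n R))
      (CurvLib.tensorLeft' L) := preservesCoproduct_of_preservesBiproduct _
  exact ⟨Sigma.mapIso (fun _ => (PicPnLib.unitRight L).symm) ≪≫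
    (PreservesCoproduct.iso (CurvLib.tensorLeft' L) (fun _ : Fin b => Coh.structureModule (CohB1.ProjSpace n R))).symm⟩

theorem twist_unit (t : ℤ) (ht : t = 0) (M : (CohB1.ProjSpace n R).Modules) :
    Nonempty (CohB1.tensorMod (O' t) M ≅ M) := by
  subst ht
  obtain ⟨e⟩ := PicPnLib.twist_zero n R
  exact ⟨HilbPolyLib.congrLeft e M ≪≫ HilbPolyLib.unitLeft M⟩

theorem twist_twist (s t u : ℤ) (hu : s + t = u) (M : (CohB1.ProjSpace n R).Modules) :
    Nonempty (CohB1.tensorMod (O' s) (CohB1.tensorMod (O' t) M) ≅ CohB1.tensorMod (O' u) M) := by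
  subst hu
  obtain ⟨e⟩ := PicPnLib.twist_add n R s t
  exact ⟨(HilbPolyLib.assocIso _ _ _).symm ≪≫ HilbPolyLib.congrLeft e M⟩

section Free

variable {X : Scheme.{u}}

theorem subsingleton_HH_biprod {M N : X.Modules} (p : ℕ) (hM : Subsingleton (Coh.HH X M p))
    (hN : Subsingleton (Coh.HH X N p)) : Subsingleton (Coh.HH X (M ⊞ N) p) := by
  refine subsingleton_of_forall_eq 0 fun x => ?_
  let T := QCohLib.toAbF X
  have e : T.map (biprod.fst : M ⊞ N ⟶ M) ≫ T.map biprod.inl + T.map (biprod.snd : M ⊞ N ⟶ N) ≫ T.map biprod.inr =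
      𝟙 (T.obj (M ⊞ N)) := by
    rw [← Functor.map_comp, ← Functor.map_comp, ← Functor.map_add, biprod.total, T.map_id]
  have hx : Sheaf.H.map (𝟙 (T.obj (M ⊞ N))) p x = x := Sheaf.H.map_id_apply x
  rw [← e] at hx
  rw [← hx]
  show Abelian.Ext.comp x (Abelian.Ext.mk₀ _) (add_zero p) = 0
  rw [Abelian.Ext.mk₀_add, Abelian.Ext.comp_add]
  have h1 : Sheaf.H.map (T.map (biprod.fst : M ⊞ N ⟶ M) ≫ T.map (biprod.inl : M ⟶ M ⊞ N)) p x = 0 := by
    rw [Sheaf.H.map_comp_apply]
    exact (congrArg _ (@Subsingleton.elim _ hM _ 0)).trans (map_zero _)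
  have h2 : Sheaf.H.map (T.map (biprod.snd : M ⊞ N ⟶ N) ≫ T.map (biprod.inr : N ⟶ M ⊞ N)) p x = 0 := by
    rw [Sheaf.H.map_comp_apply]
    exact (congrArg _ (@Subsingleton.elim _ hN _ 0)).trans (map_zero _)
  exact (congrArg₂ (· + ·) h1 h2).trans (add_zero 0)

theorem subsingleton_HH_tensor_free (M : X.Modules) (p : ℕ) (h : Subsingleton (Coh.HH X M p)) :
    ∀ r : ℕ, Subsingleton (Coh.HH X (CohB1.tensorMod M (FlatMod.freeMod X r)) p)
  | 0 => subsingleton_of_forall_eq 0 fun x => by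
    have h0 : IsZero ((QCohLib.toAbF X).obj (CohB1.tensorMod M (FlatMod.freeMod X 0))) :=
      Functor.map_isZero _ (Functor.map_isZero ((DCoh.tensorBi (X := X)).obj M) (by
        rw [IsZero.iff_id_eq_zero]
        exact Sigma.hom_ext _ _ fun i => i.elim0))
    have h1 : Sheaf.H.map (𝟙 ((QCohLib.toAbF X).obj (CohB1.tensorMod M (FlatMod.freeMod X 0)))) p x = x :=
      Sheaf.H.map_id_apply x
    rw [h0.eq_of_src (𝟙 _) 0] at h1
    rw [← h1]
    show Abelian.Ext.comp x (Abelian.Ext.mk₀ _) (add_zero p) = 0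
    rw [Abelian.Ext.mk₀_zero, Abelian.Ext.comp_zero]
  | r + 1 => by
    haveI : Limits.PreservesBinaryBiproduct (Coh.structureModule X) (FlatMod.freeMod X r)
        ((DCoh.tensorBi (X := X)).obj M) :=
      preservesBinaryBiproduct_of_preservesBinaryProduct _
    let e : CohB1.tensorMod M (FlatMod.freeMod X (r + 1)) ≅ M ⊞ CohB1.tensorMod M (FlatMod.freeMod X r) :=
      ((DCoh.tensorBi (X := X)).obj M).mapIso (CurvLib.freeModSucc X r) ≪≫
      (((DCoh.tensorBi (X := X)).obj M).mapBiprod _ _) ≪≫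
      biprod.mapIso (KFlatLib.tensSwap (Coh.structureModule X) M) (Iso.refl _) ≪≫
      biprod.mapIso (KFlatLib.tensUnitIso M) (Iso.refl _)
    exact SerreVanLib.subsingleton_HH_of_iso e p
      (subsingleton_HH_biprod p h (subsingleton_HH_tensor_free M p h r))

end Free

theorem isQCoh_twist_free (t : ℤ) (b : ℕ) :
    Coh.IsQCoh (CohB1.tensorMod (O' t) (FlatMod.freeMod (CohB1.ProjSpace n R) b)) := by
  haveI := CurvLib.isQCoh_freeMod (CohB1.ProjSpace n R) b
  haveI := MiscFlat6.isQCoh_tensor (M := FlatMod.freeMod (CohB1.ProjSpace n R) b) (PicPnLib.twist_inv n R t)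
  exact QCohLib.isQCoh_of_iso (HilbPolyLib.swapIso _ _)

end PnCohLib

namespace PnCohLib

variable {n : ℕ} (k : Type u) [Field k]

local notation "P" => CohB1.ProjSpace n k
local notation "O'" => Twist.twistProjSpace n k
local notation "T" => CurvLib.tensorLeft'

theorem subsingleton_HH_of_big (F : (CohB1.ProjSpace n k).Modules) (hF : Coh.IsQCoh F) (t : ℤ) (p : ℕ) (hp : n < p) :
    Subsingleton (Coh.HH (CohB1.ProjSpace n k) (CohB1.tensorMod F (Twist.twistProjSpace n k t)) p) := by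
  obtain ⟨M, _, _, _, _, G, hG⟩ := exists_graded F hF
  exact (hG _ _).2 (GradedCechLib.isZero_of_card_le _ _ (by simp; omega))

/-- One step of a linear resolution makes a module regular. -/
theorem regular_of_step (F : (CohB1.ProjSpace n k).Modules) (hF : Coh.IsQCoh F) (m : ℤ) (b : ℕ)
    (φ : (∐ fun _ : Fin b => Twist.twistProjSpace n k (-m)) ⟶ F) [Epi φ]
    (hK : Curv2.IsMRegular k n (kernel φ) (m + 1)) : Curv2.IsMRegular k n F m := by
  intro i hi hin
  let S : ShortComplex (CohB1.ProjSpace n k).Modules := ShortComplex.mk (kernel.ι φ) φ (kernel.condition φ)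
  have hS : S.ShortExact := ShortComplex.ShortExact.mk (ShortComplex.exact_kernel φ)
  have hL := PicPnLib.twist_inv n k (m - i)
  let U := (S.map (T (O' (m - i)))).map (QCohLib.toAbF P)
  have hU : U.ShortExact := QCohLib.toAbF_shortExact (HilbPolyLib.shortExact_tensor hL hS)
  haveI : Subsingleton (QCohLib.HU U.X₂ i ⊤) := by
    refine AmpleDevLib.hu_of_hh ?_
    obtain ⟨e⟩ := exists_sigma_iso (O' (-m)) b
    obtain ⟨e'⟩ := twist_twist (m - i) (-m) (-(i : ℤ)) (by ring) (FlatMod.freeMod P b)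
    refine SerreVanLib.subsingleton_HH_of_iso (HilbPolyLib.congrRight _ e ≪≫ e') i ?_
    exact subsingleton_HH_tensor_free _ i
      (subsingleton_HH_twist _ _ (fun h => by omega) (fun h => by omega)) b
  haveI : Subsingleton (QCohLib.HU U.X₁ (i + 1) ⊤) := by
    refine AmpleDevLib.hu_of_hh (SerreVanLib.subsingleton_HH_of_iso (HilbPolyLib.swapIso _ (kernel φ)) (i + 1) ?_)
    rcases Nat.lt_or_ge i n with h | h
    · have := hK (i + 1) (by omega) (by omega)
      rwa [show m + 1 - ((i + 1 : ℕ) : ℤ) = m - i by push_cast; ring] at this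
    · haveI := hF
      haveI : Coh.IsQCoh (∐ fun _ : Fin b => Twist.twistProjSpace n k (-m)) := by
        obtain ⟨e⟩ := exists_sigma_iso (O' (-m)) b
        haveI : Coh.IsQCoh (CohB1.tensorMod (O' (-m)) (FlatMod.freeMod P b)) := isQCoh_twist_free (-m) b
        exact QCohLib.isQCoh_of_iso e.symm
      exact subsingleton_HH_of_big k (kernel φ) (QCohLib.isQCoh_kernel φ) _ _ (by omega)
  exact SerreVanLib.subsingleton_HH_of_iso (HilbPolyLib.swapIso F _) i (AmpleDevLib.hh_of_hu (QCohLib.subsingleton_X₃ hU))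



theorem exists_epi_kernel {Z : Scheme.{u}} {L A B : Z.Modules} (hL : PicF.IsInvertible L)
    (ψ : A ⟶ B) [Epi ψ] {X Y : Z.Modules} (e₂ : X ≅ CohB1.tensorMod L A) (e₃ : CohB1.tensorMod L B ≅ Y) :
    ∃ φ : X ⟶ Y, Epi φ ∧ Nonempty (kernel φ ≅ CohB1.tensorMod L (kernel ψ)) := by
  let S : ShortComplex Z.Modules := ShortComplex.mk (kernel.ι ψ) ψ (kernel.condition ψ)
  have hT : (S.map (CurvLib.tensorLeft' L)).ShortExact :=
    HilbPolyLib.shortExact_tensor hL (ShortComplex.ShortExact.mk (ShortComplex.exact_kernel ψ))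
  let g : CohB1.tensorMod L A ⟶ CohB1.tensorMod L B := (CurvLib.tensorLeft' L).map ψ
  have hg : Epi g := hT.epi_g
  exact ⟨e₂.hom ≫ g ≫ e₃.hom, epi_comp' inferInstance (epi_comp' hg inferInstance),
    ⟨kernelIsIsoComp e₂.hom (g ≫ e₃.hom) ≪≫ kernelCompMono g e₃.hom ≪≫
      (kernelIsKernel g).conePointUniqueUpToIso hT.fIsKernel⟩⟩

/-- A regular module has one step of a linear resolution. -/
theorem exists_step (F : (CohB1.ProjSpace n k).Modules) (hF : Coh.IsCoh F) (m : ℤ) (h : Curv2.IsMRegular k n F m) :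
    ∃ (b : ℕ) (φ : (∐ fun _ : Fin b => Twist.twistProjSpace n k (-m)) ⟶ F),
      Epi φ ∧ Curv2.IsMRegular k n (kernel φ) (m + 1) := by
  let Fm := CohB1.tensorMod F (O' m)
  have hFm : Coh.IsCoh Fm := SerreVanLib.isCoh_tensor hF (PicPnLib.twist_inv n k m)
  obtain ⟨b, s, hs⟩ := exists_global_gens Fm hFm
  let E := FlatMod.freeMod P b
  let ψ : E ⟶ Fm := Sigma.desc fun a => QCohLib.unitHom Fm (s a)
  have hsec : ∀ w : Γ(Fm, (⊤ : (CohB1.ProjSpace n k).Opens)), ∃ v : Γ(E, (⊤ : (CohB1.ProjSpace n k).Opens)),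
      ψ.app ⊤ v = w := fun w => by
    obtain ⟨c, rfl⟩ := hs w
    refine ⟨∑ a, (Sigma.ι (fun _ : Fin b => Coh.structureModule P) a).app ⊤ (c a), ?_⟩
    rw [map_sum]
    refine Finset.sum_congr rfl fun a _ => ?_
    refine (congrArg (fun f : Coh.structureModule P ⟶ Fm => f.app ⊤ (c a))
      (Sigma.ι_desc (fun a => QCohLib.unitHom Fm (s a)) a)).trans ?_
    exact (QCohLib.unitHom_app Fm (s a) ⊤ (c a)).trans (congrArg (c a • ·) (QCohLib.toSections_top Fm (s a)))
  haveI : Epi ψ := Preadditive.epi_of_cancel_zero _ fun q hq =>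
    MiscFlat6.cancel_of_isGloballyGenerated (isGloballyGenerated_of_regular k F hF.1 m h) q fun u => by
      obtain ⟨v, rfl⟩ := hsec u
      exact congrArg (fun f : E ⟶ _ => f.app ⊤ v) hq
  let S : ShortComplex (CohB1.ProjSpace n k).Modules := ShortComplex.mk (kernel.ι ψ) ψ (kernel.condition ψ)
  have hS : S.ShortExact := ShortComplex.ShortExact.mk (ShortComplex.exact_kernel ψ)
  obtain ⟨e₂⟩ := exists_sigma_iso (O' (-m)) b
  obtain ⟨e₃⟩ : Nonempty (CohB1.tensorMod (O' (-m)) Fm ≅ F) := by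
    obtain ⟨ea⟩ := twist_twist (-m) m 0 (by ring) F
    obtain ⟨eb⟩ := twist_unit (n := n) (R := k) 0 rfl F
    exact ⟨HilbPolyLib.congrRight _ (HilbPolyLib.swapIso F (O' m)) ≪≫ ea ≪≫ eb⟩
  obtain ⟨φ, hφ, ⟨eK⟩⟩ := exists_epi_kernel (PicPnLib.twist_inv n k (-m)) ψ e₂ e₃
  refine ⟨b, φ, hφ, fun i hi hin => ?_⟩
  obtain ⟨e₄⟩ := twist_twist (m + 1 - i) (-m) (1 - i) (by ring) (kernel ψ)
  refine SerreVanLib.subsingleton_HH_of_iso (HilbPolyLib.swapIso (kernel φ) _ ≪≫ HilbPolyLib.congrRight _ eK ≪≫ e₄) i ?_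
  rcases eq_or_lt_of_le hi with rfl | hi2
  · obtain ⟨e₅⟩ := twist_unit (n := n) (R := k) (1 - ((1 : ℕ) : ℤ)) (by simp) (kernel ψ)
    refine SerreVanLib.subsingleton_HH_of_iso e₅ 1 (AmpleDevLib.hh_of_hu ?_)
    have hA : (S.map (QCohLib.toAbF P)).ShortExact := QCohLib.toAbF_shortExact hS
    haveI : Subsingleton (QCohLib.HU (S.map (QCohLib.toAbF P)).X₂ 1 ⊤) := by
      refine AmpleDevLib.hu_of_hh ?_
      obtain ⟨e₆⟩ := twist_unit (n := n) (R := k) 0 rfl E
      exact SerreVanLib.subsingleton_HH_of_iso e₆.symm 1 (subsingleton_HH_tensor_free _ 1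
        (subsingleton_HH_twist _ _ (fun h => by omega) (fun h => by omega)) b)
    refine subsingleton_of_forall_eq 0 fun x => ?_
    obtain ⟨y, rfl⟩ := QCohLib.delta0_surjective hA ⊤ x
    exact (QCohLib.delta0_eq_zero_iff hA ⊤ y).2 (hsec y)
  · let U := (S.map (T (O' (1 - i)))).map (QCohLib.toAbF P)
    have hU : U.ShortExact := QCohLib.toAbF_shortExact
      (HilbPolyLib.shortExact_tensor (PicPnLib.twist_inv n k (1 - i)) hS)
    obtain ⟨p, rfl⟩ : ∃ p, i = p + 1 := ⟨i - 1, by omega⟩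
    haveI : Subsingleton (QCohLib.HU U.X₂ (p + 1) ⊤) := AmpleDevLib.hu_of_hh
      (subsingleton_HH_tensor_free _ (p + 1)
        (subsingleton_HH_twist _ _ (fun h => by omega) (fun h => by omega)) b)
    haveI : Subsingleton (QCohLib.HU U.X₃ p ⊤) := by
      refine AmpleDevLib.hu_of_hh ?_
      obtain ⟨e₇⟩ := twist_twist (1 - ((p + 1 : ℕ) : ℤ)) m (m - p) (by push_cast; ring) F
      exact SerreVanLib.subsingleton_HH_of_iso
        (HilbPolyLib.congrRight _ (HilbPolyLib.swapIso F (O' m)) ≪≫ e₇ ≪≫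
          HilbPolyLib.swapIso _ F) p (h p (by omega) (by omega))
    exact AmpleDevLib.hh_of_hu (QCohLib.subsingleton_X₁ hU)

end PnCohLib
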