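import Groth.Agent.PnCohLib.HypSec
import Groth.Agent.DevissLib.Basic

/-!
# Minimal linear resolutions on projective space and the syzygy theorem
-/

set_option autoImplicit false
universe u

open CategoryTheory CategoryTheory.Limits AlgebraicGeometry MvPolynomial TopologicalSpace Opposite

noncomputable section

namespace PnCohLib

section Free

variable {X : Scheme.{u}}

theorem free_sum {b : ℕ} (e : Γ(FlatMod.freeMod X b, (⊤ : X.Opens))) :
    ∃ c : Fin b → Γ(X, (⊤ : X.Opens)),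
      e = ∑ a, (Sigma.ι (fun _ : Fin b => Coh.structureModule X) a).app ⊤ (c a) := by
  classical
  let L := fun _ : Fin b => Coh.structureModule X
  let π : ∀ j, FlatMod.freeMod X b ⟶ Coh.structureModule X := fun j => Sigma.desc fun i => if i = j then 𝟙 _ else 0
  have hid : ∑ j, π j ≫ Sigma.ι L j = 𝟙 (∐ L) := by
    refine Sigma.hom_ext _ _ fun i => ?_
    rw [Preadditive.comp_sum, Finset.sum_eq_single i]
    · simp [π]; rfl
    · intro j _ hj
      rw [Sigma.ι_desc_assoc, if_neg hj.symm, zero_comp]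
    · simp
  refine ⟨fun j => (π j).app ⊤ e, ?_⟩
  let ev : (∐ L ⟶ ∐ L) →+ Γ(∐ L, (⊤ : X.Opens)) := AddMonoidHom.mk' (fun f => f.app ⊤ e) fun f g => rfl
  refine (congrArg ev hid).symm.trans ?_
  rw [map_sum]
  rfl

/-- In a minimal generating family over a field of global functions there are no relations. -/
theorem exists_independent_gens {M : X.Modules} (hfld : ∀ c : Γ(X, (⊤ : X.Opens)), c ≠ 0 → IsUnit c)
    (h : ∃ (b : ℕ) (s : Fin b → Γ(M, (⊤ : X.Opens))), ∀ w : Γ(M, (⊤ : X.Opens)),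
      ∃ c : Fin b → Γ(X, (⊤ : X.Opens)), w = ∑ a, c a • s a) :
    ∃ (b : ℕ) (s : Fin b → Γ(M, (⊤ : X.Opens))), (∀ w : Γ(M, (⊤ : X.Opens)),
      ∃ c : Fin b → Γ(X, (⊤ : X.Opens)), w = ∑ a, c a • s a) ∧
      ∀ c : Fin b → Γ(X, (⊤ : X.Opens)), ∑ a, c a • s a = 0 → c = 0 := by
  classical
  obtain ⟨s, hs⟩ := Nat.find_spec h
  refine ⟨Nat.find h, s, hs, fun c hc => ?_⟩
  by_contra hne
  obtain ⟨a, ha⟩ := Function.ne_iff.1 hne
  obtain ⟨v, hv⟩ := hfld (c a) ha
  obtain ⟨b', hb'⟩ : ∃ b', Nat.find h = b' + 1 := ⟨Nat.find h - 1, by have := a.isLt; omega⟩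
  revert s c a
  rw [hb']
  intro s hs c hc _ a _ hv
  refine Nat.find_min h (show b' < Nat.find h by omega) ⟨fun i => s (a.succAbove i), fun w => ?_⟩
  obtain ⟨d, rfl⟩ := hs w
  refine ⟨fun i => d (a.succAbove i) - d a * ↑v⁻¹ * c (a.succAbove i), ?_⟩
  rw [Fin.sum_univ_succAbove _ a] at hc ⊢
  have h1 : s a = -((↑v⁻¹ : Γ(X, (⊤ : X.Opens))) • ∑ i, c (a.succAbove i) • s (a.succAbove i)) := by
    rw [← smul_neg, ← eq_neg_of_add_eq_zero_left hc, smul_smul, ← hv, Units.inv_mul, one_smul]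
  rw [h1]
  simp only [sub_smul, Finset.sum_sub_distrib, mul_smul, Finset.smul_sum, smul_neg]
  abel

theorem subsingleton_HH_of_zero {M : X.Modules} (h : IsZero M) (p : ℕ) : Subsingleton (Coh.HH X M p) :=
  subsingleton_of_forall_eq 0 fun x => by
    have h0 : IsZero ((QCohLib.toAbF X).obj M) := Functor.map_isZero _ h
    have h1 : Sheaf.H.map (𝟙 ((QCohLib.toAbF X).obj M)) p x = x := Sheaf.H.map_id_apply x
    rw [h0.eq_of_src (𝟙 _) 0] at h1
    rw [← h1]
    show Abelian.Ext.comp x (Abelian.Ext.mk₀ _) (add_zero p) = 0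
    rw [Abelian.Ext.mk₀_zero, Abelian.Ext.comp_zero]

theorem isCoh_tensor_free {L : X.Modules} (hL : PicF.IsInvertible L) (b : ℕ) :
    Coh.IsCoh (CohB1.tensorMod L (FlatMod.freeMod X b)) :=
  HilbPolyLib.isCoh_tensor hL ⟨CurvLib.isQCoh_freeMod X b, CurvLib.isFT_freeMod X b⟩

end Free

variable {n : ℕ} (k : Type u) [Field k]

local notation "P" => CohB1.ProjSpace n k
local notation "O'" => Twist.twistProjSpace n k
local notation "T" => CurvLib.tensorLeft'

theorem isUnit_global (c : Γ(CohB1.ProjSpace n k, (⊤ : (CohB1.ProjSpace n k).Opens))) (hc : c ≠ 0) : IsUnit c := by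
  obtain ⟨r, rfl⟩ := (GradedCechLib.toTop_bijective (n := n) (R := k)).2 c
  exact (IsUnit.mk0 r fun h => hc (by rw [h, map_zero])).map _

set_option maxHeartbeats 1000000 in
/-- A regular module has a minimal step of a linear resolution. -/
theorem exists_step_min (F : (CohB1.ProjSpace n k).Modules) (hF : Coh.IsCoh F) (m : ℤ) (h : Curv2.IsMRegular k n F m) :
    ∃ (b : ℕ) (φ : (∐ fun _ : Fin b => Twist.twistProjSpace n k (-m)) ⟶ F),
      Epi φ ∧ Curv2.IsMRegular k n (kernel φ) (m + 1) ∧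
        Subsingleton (Coh.HH (CohB1.ProjSpace n k) (CohB1.tensorMod (kernel φ) (Twist.twistProjSpace n k m)) 0) := by
  let Fm := CohB1.tensorMod F (O' m)
  have hFm : Coh.IsCoh Fm := SerreVanLib.isCoh_tensor hF (PicPnLib.twist_inv n k m)
  obtain ⟨b, s, hs, hind⟩ := exists_independent_gens (isUnit_global k) (exists_global_gens Fm hFm)
  let E := FlatMod.freeMod P b
  let ψ : E ⟶ Fm := Sigma.desc fun a => QCohLib.unitHom Fm (s a)
  have hval : ∀ c : Fin b → Γ(CohB1.ProjSpace n k, (⊤ : (CohB1.ProjSpace n k).Opens)),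
      ψ.app ⊤ (∑ a, (Sigma.ι (fun _ : Fin b => Coh.structureModule P) a).app ⊤ (c a)) = ∑ a, c a • s a := fun c => by
    rw [map_sum]
    refine Finset.sum_congr rfl fun a _ => ?_
    refine (congrArg (fun f : Coh.structureModule P ⟶ Fm => f.app ⊤ (c a))
      (Sigma.ι_desc (fun a => QCohLib.unitHom Fm (s a)) a)).trans ?_
    exact (QCohLib.unitHom_app Fm (s a) ⊤ (c a)).trans (congrArg (c a • ·) (QCohLib.toSections_top Fm (s a)))
  have hsec : ∀ w : Γ(Fm, (⊤ : (CohB1.ProjSpace n k).Opens)), ∃ v : Γ(E, (⊤ : (CohB1.ProjSpace n k).Opens)),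
      ψ.app ⊤ v = w := fun w => by
    obtain ⟨c, rfl⟩ := hs w
    exact ⟨_, hval c⟩
  have hker : ∀ v : Γ(E, (⊤ : (CohB1.ProjSpace n k).Opens)), ψ.app ⊤ v = 0 → v = 0 := fun v hv => by
    obtain ⟨c, rfl⟩ := free_sum v
    rw [hind c ((hval c).symm.trans hv)]
    exact Finset.sum_eq_zero fun a _ => map_zero _
  haveI : Epi ψ := Preadditive.epi_of_cancel_zero _ fun q hq =>
    MiscFlat6.cancel_of_isGloballyGenerated (isGloballyGenerated_of_regular k F hF.1 m h) q fun u => by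
      obtain ⟨v, rfl⟩ := hsec u
      exact congrArg (fun f : E ⟶ _ => f.app ⊤ v) hq
  let S : ShortComplex (CohB1.ProjSpace n k).Modules := ShortComplex.mk (kernel.ι ψ) ψ (kernel.condition ψ)
  have hS : S.ShortExact := ShortComplex.ShortExact.mk (ShortComplex.exact_kernel ψ)
  have h0 : Subsingleton (Coh.HH (CohB1.ProjSpace n k) (kernel ψ) 0) := by
    refine subsingleton_of_forall_eq 0 fun x => CurvLib.injective₀ (k := k) hS ?_
    rw [map_zero]
    refine (DegPullLib.e0 S.X₂).injective ?_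
    rw [map_zero, e0_map]
    refine hker _ ?_
    exact congrArg (fun f : kernel ψ ⟶ Fm => f.app ⊤ (DegPullLib.e0 S.X₁ x)) (kernel.condition ψ)
  obtain ⟨e₂⟩ := exists_sigma_iso (O' (-m)) b
  obtain ⟨e₃⟩ : Nonempty (CohB1.tensorMod (O' (-m)) Fm ≅ F) := by
    obtain ⟨ea⟩ := twist_twist (-m) m 0 (by ring) F
    obtain ⟨eb⟩ := twist_unit (n := n) (R := k) 0 rfl F
    exact ⟨HilbPolyLib.congrRight _ (HilbPolyLib.swapIso F (O' m)) ≪≫ ea ≪≫ eb⟩
  obtain ⟨φ, hφ, ⟨eK⟩⟩ := exists_epi_kernel (PicPnLib.twist_inv n k (-m)) ψ e₂ e₃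
  refine ⟨b, φ, hφ, fun i hi hin => ?_, ?_⟩
  · obtain ⟨e₄⟩ := twist_twist (m + 1 - i) (-m) (1 - i) (by ring) (kernel ψ)
    refine SerreVanLib.subsingleton_HH_of_iso (HilbPolyLib.swapIso (kernel φ) _ ≪≫ HilbPolyLib.congrRight _ eK ≪≫ e₄) i ?_
    rcases eq_or_lt_of_le hi with rfl | hi2
    · obtain ⟨e₅⟩ := twist_unit (n := n) (R := k) (1 - ((1 : ℕ) : ℤ)) (by simp) (kernel ψ)
      refine SerreVanLib.subsingleton_HH_of_iso e₅ 1 ?_
      haveI : Subsingleton (Coh.HH (CohB1.ProjSpace n k) S.X₂ 1) := by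
        obtain ⟨e₆⟩ := twist_unit (n := n) (R := k) 0 rfl E
        exact SerreVanLib.subsingleton_HH_of_iso e₆.symm 1 (subsingleton_HH_tensor_free _ 1
          (subsingleton_HH_twist _ _ (fun h => by omega) (fun h => by omega)) b)
      refine subsingleton_of_forall_eq 0 fun x => (injective_one_iff (k := k) hS).2 hsec ?_
      exact Subsingleton.elim _ _
    · let U := (S.map (T (O' (1 - i)))).map (QCohLib.toAbF P)
      have hU : U.ShortExact := QCohLib.toAbF_shortExact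
        (HilbPolyLib.shortExact_tensor (PicPnLib.twist_inv n k (1 - i)) hS)
      obtain ⟨p, rfl⟩ : ∃ p, i = p + 1 := ⟨i - 1, by omega⟩
      haveI : Subsingleton (QCohLib.HU U.X₂ (p + 1) ⊤) := AmpleDevLib.hu_of_hh
        (subsingleton_HH_tensor_free _ (p + 1)
          (subsingleton_HH_twist _ _ (fun h => by omega) (fun h => by omega)) b)
      haveI : Subsingleton (QCohLib.HU U.X₃ p ⊤) := by
        refine AmpleDevLib.hu_of_hh ?_
        obtain ⟨e₇⟩ := twist_twist (1 - ((p + 1 : ℕ) : ℤ)) m (m - p) (by push_cast; ring) F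
        exact SerreVanLib.subsingleton_HH_of_iso
          (HilbPolyLib.congrRight _ (HilbPolyLib.swapIso F (O' m)) ≪≫ e₇ ≪≫
            HilbPolyLib.swapIso _ F) p (h p (by omega) (by omega))
      exact AmpleDevLib.hh_of_hu (QCohLib.subsingleton_X₁ hU)
  · obtain ⟨e₈⟩ := twist_twist m (-m) 0 (by ring) (kernel ψ)
    obtain ⟨e₉⟩ := twist_unit (n := n) (R := k) 0 rfl (kernel ψ)
    exact SerreVanLib.subsingleton_HH_of_iso
      (HilbPolyLib.swapIso (kernel φ) _ ≪≫ HilbPolyLib.congrRight _ eK ≪≫ e₈ ≪≫ e₉) 0 h0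

theorem isCoh_sigma (t : ℤ) (b : ℕ) : Coh.IsCoh (∐ fun _ : Fin b => Twist.twistProjSpace n k t) := by
  obtain ⟨e⟩ := exists_sigma_iso (O' t) b
  exact QCohLib.isCoh_of_iso e.symm (isCoh_tensor_free (PicPnLib.twist_inv n k t) b)

/-- The cohomology which a minimal linear resolution kills: `Hⁱ(F(m-1-i))` for `i < j`. -/
def Low (F : (CohB1.ProjSpace n k).Modules) (m : ℤ) (j : ℕ) : Prop :=
  ∀ i : ℕ, i < j → i ≤ n →
    Subsingleton (Coh.HH (CohB1.ProjSpace n k) (CohB1.tensorMod F (Twist.twistProjSpace n k (m - 1 - i))) i)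

theorem low_zero (F : (CohB1.ProjSpace n k).Modules) (m : ℤ) : Low k F m 0 := fun i hi _ => absurd hi i.not_lt_zero

theorem low_succ (F : (CohB1.ProjSpace n k).Modules) (m : ℤ) (j b : ℕ)
    (φ : (∐ fun _ : Fin b => Twist.twistProjSpace n k (-m)) ⟶ F) [Epi φ]
    (h0 : Subsingleton (Coh.HH (CohB1.ProjSpace n k) (CohB1.tensorMod (kernel φ) (Twist.twistProjSpace n k m)) 0))
    (hlow : Low k F m j) : Low k (kernel φ) (m + 1) (j + 1) := by
  intro i hi hin
  cases i with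
  | zero => simpa using h0
  | succ i =>
    let S : ShortComplex (CohB1.ProjSpace n k).Modules := ShortComplex.mk (kernel.ι φ) φ (kernel.condition φ)
    have hS : S.ShortExact := ShortComplex.ShortExact.mk (ShortComplex.exact_kernel φ)
    have hU : (S.map (T (O' (m - 1 - i)))).ShortExact := HilbPolyLib.shortExact_tensor (PicPnLib.twist_inv n k _) hS
    obtain ⟨e⟩ := exists_sigma_iso (O' (-m)) b
    obtain ⟨e'⟩ := twist_twist (m - 1 - i) (-m) (-1 - (i : ℤ)) (by ring) (FlatMod.freeMod P b)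
    have h2 := SerreVanLib.subsingleton_HH_of_iso (HilbPolyLib.congrRight _ e ≪≫ e') (i + 1)
      (subsingleton_HH_tensor_free _ (i + 1)
        (subsingleton_HH_twist _ _ (fun h => by omega) (fun h => by omega)) b)
    have h3 := SerreVanLib.subsingleton_HH_of_iso (HilbPolyLib.swapIso (O' (m - 1 - i)) F) i
      (hlow i (by omega) (by omega))
    rw [show m + 1 - 1 - ((i + 1 : ℕ) : ℤ) = m - 1 - i by push_cast; ring]
    exact SerreVanLib.subsingleton_HH_of_iso (HilbPolyLib.swapIso (kernel φ) _) (i + 1) (subsingleton_X₁_succ hU h2 h3)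

theorem isZero_of_tensor (t : ℤ) (F : (CohB1.ProjSpace n k).Modules)
    (h : IsZero (CohB1.tensorMod F (Twist.twistProjSpace n k t))) : IsZero F := by
  obtain ⟨e⟩ := twist_twist (-t) t 0 (by ring) F
  obtain ⟨e'⟩ := twist_unit (n := n) (R := k) 0 rfl F
  exact (Functor.map_isZero (T (O' (-t))) (h.of_iso (HilbPolyLib.swapIso (O' t) F))).of_iso (e'.symm ≪≫ e.symm)

/-- After `n + 1` steps nothing is left. -/
theorem isZero_of_low (F : (CohB1.ProjSpace n k).Modules) (hF : Coh.IsCoh F) (m : ℤ) (j : ℕ) (hj : n < j)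
    (h : Low k F m j) : IsZero F := by
  refine isZero_of_tensor k (m - 1) F ((IsZero.iff_id_eq_zero _).2 ?_)
  refine MiscFlat6.cancel_of_isGloballyGenerated (isGloballyGenerated_of_regular k F hF.1 (m - 1)
    (fun i hi hin => h i (by omega) hin)) _ fun u => ?_
  have h0 : Subsingleton (Coh.HH (CohB1.ProjSpace n k) (CohB1.tensorMod F (O' (m - 1))) 0) := by
    simpa using h 0 (by omega) (Nat.zero_le n)
  haveI := (DegPullLib.e0 (CohB1.tensorMod F (O' (m - 1)))).symm.injective.subsingleton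
  exact Subsingleton.elim _ _

/-- A stage of a minimal linear resolution. -/
structure Stage (j : ℕ) where
  K : (CohB1.ProjSpace n k).Modules
  m : ℤ
  coh : Coh.IsCoh K
  reg : Curv2.IsMRegular k n K m
  low : Low k K m j

/-- The next stage, with the intermediate module empty when nothing is left. -/
theorem exists_next [IsLocallyNoetherian (CohB1.ProjSpace n k)] {j : ℕ} (s : Stage (n := n) k j) :
    ∃ (b : ℕ) (φ : (∐ fun _ : Fin b => Twist.twistProjSpace n k (-s.m)) ⟶ s.K) (t : Stage (n := n) k (j + 1)),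
      Epi φ ∧ t.m = s.m + 1 ∧ Nonempty (t.K ≅ kernel φ) ∧ (IsZero s.K → b = 0) := by
  by_cases hz : IsZero s.K
  · have hzero : ∀ {M : (CohB1.ProjSpace n k).Modules} (p : ℕ) (t : ℤ), IsZero M →
        Subsingleton (Coh.HH (CohB1.ProjSpace n k) (CohB1.tensorMod M (O' t)) p) := fun {M} p t hM =>
      subsingleton_HH_of_zero (Functor.map_isZero ((DCoh.tensorBi (X := CohB1.ProjSpace n k)).flip.obj (O' t)) hM) p
    have hS : IsZero (∐ fun _ : Fin 0 => Twist.twistProjSpace n k (-s.m)) := by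
      rw [IsZero.iff_id_eq_zero]
      exact Sigma.hom_ext _ _ fun i => i.elim0
    have hk : IsZero (kernel (0 : (∐ fun _ : Fin 0 => Twist.twistProjSpace n k (-s.m)) ⟶ s.K)) :=
      hS.of_iso kernelZeroIsoSource
    exact ⟨0, 0, ⟨_, s.m + 1, DevissLib.isCoh_of_isZero hk, fun i _ _ => hzero i _ hk, fun i _ _ => hzero i _ hk⟩,
      ⟨fun _ _ _ => hz.eq_of_src _ _⟩, rfl, ⟨Iso.refl _⟩, fun _ => rfl⟩
  · obtain ⟨b, φ, hφ, hreg, h0⟩ := exists_step_min k s.K s.coh s.m s.reg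
    have hE : Coh.IsCoh (∐ fun _ : Fin b => Twist.twistProjSpace n k (-s.m)) := isCoh_sigma k _ b
    exact ⟨b, φ, ⟨_, s.m + 1, QCohLib.isCoh_kernel φ hE s.coh.1, hreg, low_succ k s.K s.m j b φ h0 s.low⟩,
      hφ, rfl, ⟨Iso.refl _⟩, fun h => absurd h hz⟩

end PnCohLib

namespace PnCohLib

variable {n : ℕ} (k : Type u) [Field k]

theorem isLocallyNoetherian_projSpace : IsLocallyNoetherian (CohB1.ProjSpace n k) := by
  haveI : IsProper (CohB1.ProjSpace.toSpec n k) := ProjDegLib.toSpec_isProper k n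
  exact LocallyOfFiniteType.isLocallyNoetherian (CohB1.ProjSpace.toSpec n k)

open Classical in
/-- The stages of a chosen minimal resolution. -/
def stages [IsLocallyNoetherian (CohB1.ProjSpace n k)] (s₀ : Stage (n := n) k 0) : ∀ j : ℕ, Stage (n := n) k j
  | 0 => s₀
  | j + 1 => (exists_next k (stages s₀ j)).choose_spec.choose_spec.choose

/-- **Hilbert's syzygy theorem for coherent sheaves on projective space.** -/
theorem exists_resolution (F : (CohB1.ProjSpace n k).Modules) (hF : Coh.IsCoh F) :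
    ∃ (C : ChainComplex (CohB1.ProjSpace n k).Modules ℕ) (π : C.X 0 ⟶ F) (w : C.d 1 0 ≫ π = 0),
      (∀ i : ℕ, n < i → IsZero (C.X i)) ∧
      (∀ i : ℕ, ∃ (b : ℕ) (d : Fin b → ℤ), Nonempty (C.X i ≅ ∐ fun j : Fin b => Twist.twistProjSpace n k (d j))) ∧
      (∀ i : ℕ, 1 ≤ i → IsZero (C.homology i)) ∧ Epi π ∧ (ShortComplex.mk (C.d 1 0) π w).Exact := by
  classical
  haveI := isLocallyNoetherian_projSpace (n := n) k
  obtain ⟨m₀, hm⟩ := exists_regular k F hF
  let s₀ : Stage (n := n) k 0 := ⟨F, m₀, hF, hm m₀ le_rfl, low_zero k F m₀⟩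
  let st := stages k s₀
  let b : ℕ → ℕ := fun j => (exists_next k (st j)).choose
  let L : ℕ → (CohB1.ProjSpace n k).Modules := fun j => ∐ fun _ : Fin (b j) => Twist.twistProjSpace n k (-(st j).m)
  let q : ∀ j, L j ⟶ (st j).K := fun j => (exists_next k (st j)).choose_spec.choose
  have hsp : ∀ j, Epi (q j) ∧ (st (j + 1)).m = (st j).m + 1 ∧ Nonempty ((st (j + 1)).K ≅ kernel (q j)) ∧
      (IsZero (st j).K → b j = 0) := fun j => (exists_next k (st j)).choose_spec.choose_spec.choose_spec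
  let ι : ∀ j, (st (j + 1)).K ⟶ L j := fun j => (hsp j).2.2.1.some.hom ≫ kernel.ι (q j)
  haveI hι : ∀ j, Mono (ι j) := fun j => inferInstance
  haveI hq : ∀ j, Epi (q j) := fun j => (hsp j).1
  have hιq : ∀ j, ι j ≫ q j = 0 := fun j => by simp [ι]
  have hex : ∀ j, (ShortComplex.mk (ι j) (q j) (hιq j)).Exact := fun j =>
    (ShortComplex.exact_iff_of_iso (ShortComplex.isoMk (hsp j).2.2.1.some (Iso.refl _) (Iso.refl _)
      (by simp [ι]) (by simp) : ShortComplex.mk (ι j) (q j) (hιq j) ≅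
        ShortComplex.mk (kernel.ι (q j)) (q j) (kernel.condition _))).2 (ShortComplex.exact_kernel (q j))
  let d : ∀ j, L (j + 1) ⟶ L j := fun j => q (j + 1) ≫ ι j
  have sq : ∀ j, d (j + 1) ≫ d j = 0 := fun j => by
    simp only [d, Category.assoc, reassoc_of% (hιq (j + 1)), zero_comp, comp_zero]
  let C := ChainComplex.of L d sq
  have hd : ∀ j, C.d (j + 1) j = d j := fun j => ChainComplex.of_d L d j
  have hsc : ∀ {A B D : (CohB1.ProjSpace n k).Modules} (j : ℕ) (g : L j ⟶ D) (a : A ⟶ (st (j + 1)).K) [Epi a]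
      (f : A ⟶ L j) (_ : f = a ≫ ι j) (g' : (st j).K ⟶ D) [Mono g'] (_ : g = q j ≫ g') (w : f ≫ g = 0),
      (ShortComplex.mk f g w).Exact := fun {A B D} j g a _ f hf g' _ hg w => by
    subst hf hg
    have h1 : (ShortComplex.mk (a ≫ ι j) (q j) (by simp [hιq j])).Exact :=
      (ShortComplex.exact_iff_of_epi_of_isIso_of_mono
        ({ τ₁ := a, τ₂ := 𝟙 _, τ₃ := 𝟙 _, comm₁₂ := by simp, comm₂₃ := by simp } :
          ShortComplex.mk (a ≫ ι j) (q j) (by simp [hιq j]) ⟶ ShortComplex.mk (ι j) (q j) (hιq j))).2 (hex j)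
    exact (ShortComplex.exact_iff_of_epi_of_isIso_of_mono
        ({ τ₁ := 𝟙 _, τ₂ := 𝟙 _, τ₃ := g', comm₁₂ := by simp, comm₂₃ := by simp } :
          ShortComplex.mk (a ≫ ι j) (q j) (by simp [hιq j]) ⟶ ShortComplex.mk (a ≫ ι j) (q j ≫ g') w)).1 h1
  refine ⟨C, q 0, by rw [hd]; show (q 1 ≫ ι 0) ≫ q 0 = 0; rw [Category.assoc, hιq 0, comp_zero], fun i hi => ?_, fun i => ⟨b i, fun _ => -(st i).m, ⟨Iso.refl _⟩⟩, ?_, hq 0, ?_⟩
  · have h0 : b i = 0 := (hsp i).2.2.2 (isZero_of_low k _ (st i).coh _ i hi (st i).low)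
    show IsZero (L i)
    refine (IsZero.iff_id_eq_zero _).2 (Sigma.hom_ext _ _ fun a => absurd a.isLt (by omega))
  · intro i hi
    obtain ⟨j, rfl⟩ : ∃ j, i = j + 1 := ⟨i - 1, by omega⟩
    refine HomologicalComplex.ExactAt.isZero_homology ((C.exactAt_iff' (j + 2) (j + 1) j (by simp) (by simp)).2 ?_)
    exact hsc (B := L j) (j + 1) _ (q (j + 2)) _ (hd (j + 1)) (ι j) (hd j) _
  · exact hsc (B := F) 0 _ (q 1) _ (hd 0) (𝟙 (st 0).K) (Category.comp_id _).symm _

end PnCohLib
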