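import Groth.Agent.PnCohLib.Twist
import Groth.Agent.CurvLib.Divisor
import Groth.Agent.CurvLib.SupportVanish
import Groth.Agent.HilbPolyLib.Twist
import Groth.Agent.GenusZeroLib.PSpace
import Groth.Agent.PnCohLib.HypSec
import Groth.Agent.PnCohLib.Syz

/-!
# Cohomology of a hypersurface in projective space
-/

set_option autoImplicit false
universe u

open CategoryTheory CategoryTheory.Limits AlgebraicGeometry TopologicalSpace

noncomputable section

namespace PnCohLib

theorem dim_closed_le {X : Type*} [TopologicalSpace X] [IrreducibleSpace X] {T : Set X} (hT : IsClosed T)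
    (hne : T ≠ Set.univ) {d : ℕ} (h : topologicalKrullDim X ≤ (d + 1 : ℕ)) : topologicalKrullDim T ≤ d := by
  refine iSup_le fun p => ?_
  let q := p.map (IrreducibleCloseds.map _ continuous_subtype_val)
    (IrreducibleCloseds.map_strictMono_of_isInducing Topology.IsInducing.subtypeVal)
  let top : IrreducibleCloseds X := ⟨Set.univ, IrreducibleSpace.isIrreducible_univ X, isClosed_univ⟩
  have hlt : q.last < top := by
    refine lt_of_le_of_ne (Set.subset_univ _) fun heq => hne (Set.eq_univ_of_univ_subset ?_)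
    have h1 : (q.last : Set X) ⊆ T := closure_minimal (by rintro _ ⟨z, -, rfl⟩; exact z.2) hT
    exact (congrArg (fun z : IrreducibleCloseds X => (z : Set X)) heq).ge.trans h1
  have h3 := (Order.LTSeries.length_le_krullDim (q.snoc top hlt)).trans h
  have h4 : (q.snoc top hlt).length ≤ d + 1 := by exact_mod_cast h3
  have h5 : p.length ≤ d := by
    have : (q.snoc top hlt).length = p.length + 1 := rfl
    omega
  exact_mod_cast h5

variable {N : ℕ} (k : Type u) [Field k]

theorem finrank_zero_twist (hN : 1 ≤ N) (t : ℤ) :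
    Module.finrank k (Coh.HH (CohB1.ProjSpace N k) (Twist.twistProjSpace N k t) 0) = Nat.choose (t + N).toNat N := by
  rcases le_or_gt 0 t with h | h
  · obtain ⟨m, rfl⟩ := Int.eq_ofNat_of_zero_le h
    obtain ⟨e⟩ := exists_HH_zero (n := N) (R := k) hN m
    rw [e.finrank_eq, Module.finrank_eq_nat_card_basis Finsupp.basisSingleOne, card_deg,
      show ((m : ℤ) + N).toNat = m + N by omega, add_comm m N, Nat.choose_symm_add]
  · haveI := subsingleton_HH_twist (n := N) (R := k) t 0 (by omega) (by omega)
    rw [Module.finrank_zero_of_subsingleton, Nat.choose_eq_zero_of_lt (by omega)]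

theorem finrank_top_twist (hN : 1 ≤ N) (t : ℤ) :
    Module.finrank k (Coh.HH (CohB1.ProjSpace N k) (Twist.twistProjSpace N k t) N) = Nat.choose (-t - 1).toNat N := by
  rcases le_or_gt t (-((N : ℤ) + 1)) with h | h
  · obtain ⟨m, rfl⟩ : ∃ m : ℕ, t = -((N : ℤ) + 1 + m) := ⟨(-t - (N + 1)).toNat, by omega⟩
    obtain ⟨e⟩ := exists_HH_top (n := N) (R := k) m
    rw [e.finrank_eq, Module.finrank_eq_nat_card_basis Finsupp.basisSingleOne, card_deg,
      show (-(-((N : ℤ) + 1 + m)) - 1).toNat = m + N by omega, add_comm m N, Nat.choose_symm_add]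
  · haveI := subsingleton_HH_twist (n := N) (R := k) t N (by omega) (by omega)
    rw [Module.finrank_zero_of_subsingleton, Nat.choose_eq_zero_of_lt (by omega)]

theorem isZero_idealMod_bot {X : Scheme.{u}} (I : X.IdealSheafData) (h : I = ⊥) : IsZero (ClSub.idealMod I) := by
  haveI : IsIso I.subschemeι := (Scheme.isIso_subschemeι_iff_eq_bot I).2 h
  haveI : IsIso (ClSub.toSubscheme I) := Scheme.Modules.Hom.isIso_iff_isIso_app.2 fun U =>
    (ConcreteCategory.isIso_iff_bijective _).2
      ((ConcreteCategory.isIso_iff_bijective (I.subschemeι.app U)).1 inferInstance)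
  exact isZero_kernel_of_mono _

/-- The quotient by a principal ideal has no cohomology in the top degree. -/
theorem subsingleton_top_hypersurface (d : ℕ) (c : ℤ) (I : (CohB1.ProjSpace (d + 1) k).IdealSheafData)
    (hI : Nonempty (ClSub.idealMod I ≅ Twist.twistProjSpace (d + 1) k c)) (t : ℤ) (p : ℕ) (hp : d < p) :
    Subsingleton (Coh.HH (CohB1.ProjSpace (d + 1) k)
      (CohB1.tensorMod (Twist.twistProjSpace (d + 1) k t) (ClSub.quotMod I)) p) := by
  haveI := GenusZeroLib.isIntegral_projSpace k (d + 1)
  haveI := isLocallyNoetherian_projSpace (n := d + 1) k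
  haveI : IsProper (CohB1.ProjSpace.toSpec (d + 1) k) := ProjDegLib.toSpec_isProper k (d + 1)
  haveI : IsProper (CohB1.ProjSpace (d + 1) k ↘ Spec (CommRingCat.of k)) := ProjDegLib.toSpec_isProper k (d + 1)
  haveI := CurvLib.isNoetherian k (X := CohB1.ProjSpace (d + 1) k)
  refine CurvLib.subsingleton_HH_of_support _ I.support.isClosed
    ((HilbPolyLib.support_tensor (PicPnLib.twist_inv _ k t) _).le.trans (CurvLib.support_quotMod_subset I))
    (dim_closed_le I.support.isClosed (fun h => ?_) (le_of_eq ?_)) p hp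
  · have h0 : I = ⊥ := Scheme.IdealSheafData.support_eq_top_iff.1 (SetLike.coe_injective h)
    have hz := (isZero_idealMod_bot I h0).of_iso hI.some.symm
    obtain ⟨e⟩ := PicPnLib.twist_add (d + 1) k (-((d : ℤ) + 2) - c) c
    have hz' : IsZero (Twist.twistProjSpace (d + 1) k (-((d : ℤ) + 2) - c + c)) :=
      ((CurvLib.tensorLeft' (Twist.twistProjSpace (d + 1) k (-((d : ℤ) + 2) - c))).map_isZero hz).of_iso e.symm
    haveI := subsingleton_HH_of_zero hz' (d + 1)
    have h1 := finrank_top_twist (N := d + 1) k (by omega) (-((d : ℤ) + 2) - c + c)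
    rw [Module.finrank_zero_of_subsingleton,
      show (-(-((d : ℤ) + 2) - c + c) - 1).toNat = d + 1 by omega, Nat.choose_self] at h1
    exact zero_ne_one h1
  · rw [GenusZeroLib.dim_projSpace k (d + 1)]

theorem subsingleton_top_of_eq {M : ℕ} (d : ℕ) (hM : M = d + 1) (c : ℤ) (I : (CohB1.ProjSpace M k).IdealSheafData)
    (hI : Nonempty (ClSub.idealMod I ≅ Twist.twistProjSpace M k c)) (t : ℤ) (p : ℕ) (hp : d < p) :
    Subsingleton (Coh.HH (CohB1.ProjSpace M k)
      (CohB1.tensorMod (Twist.twistProjSpace M k t) (ClSub.quotMod I)) p) := by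
  subst hM
  exact subsingleton_top_hypersurface k d c I hI t p hp

end PnCohLib
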