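import Groth.Agent.HilbPolyLib.Twist
import Groth.Agent.KFlatLib.PullTensor
import Groth.Agent.RichLib.ModFlatGlobal

/-!
# Twisting by invertible modules keeps flatness
-/

set_option autoImplicit false
set_option maxHeartbeats 1000000
set_option backward.isDefEq.respectTransparency false
set_option linter.style.haveILetI false

universe u

open CategoryTheory CategoryTheory.Limits AlgebraicGeometry TopologicalSpace
open HilbPolyLib

namespace PnCohLib

/-- Twisting by an invertible module keeps flatness. -/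
theorem isFlatOver_tensor {P T : Scheme.{u}} (f : P ⟶ T) {A M : P.Modules} (hA : FlatMod.IsFlatOver f A)
    (hM : PicF.IsInvertible M) : FlatMod.IsFlatOver f (CohB1.tensorMod A M) := by
  intro x
  obtain ⟨U, hx, ⟨i⟩⟩ := hM x
  haveI := KFlatLib.isIso_pullθ U.ι A M
  let e : (Scheme.Modules.pullback U.ι).obj (CohB1.tensorMod A M) ≅ (Scheme.Modules.pullback U.ι).obj A :=
    @asIso _ _ _ _ (KFlatLib.pullθ U.ι A M) this ≪≫
      congrRight _ (((Scheme.Modules.restrictFunctorIsoPullback U.ι).app M).symm ≪≫ i) ≪≫ swapIso _ _ ≪≫ unitLeft _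
  have h := (RichLib.ModFlat.isFlatOverAt_comp_source U.ι f (CohB1.tensorMod A M) ⟨x, hx⟩)
  rw [RichLib.ModFlat.isFlatOverAt_iso _ e, RichLib.ModFlat.isFlatOverAt_comp_source U.ι f A ⟨x, hx⟩] at h
  exact h.1 (hA _)

end PnCohLib
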