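import Groth.Agent.PnCohLib.FlatSections
import Groth.Agent.CohBCLib.Cons
import Groth.Agent.RpushLib.Sections
import Groth.Agent.SerreVanLib.Rpush
import Groth.Agent.AmpleThLib.VeryAmple
import Groth.Agent.PicPnLib.BaseChange
import Groth.Agent.RGFlatLib.EtaleFlat
import Groth.Agent.PnCohLib.FlatTensor
import Groth.Agent.PerfLib.Restrict

/-!
# Flatness of a coherent module on a projective scheme over a Noetherian base through its twists
-/

set_option autoImplicit false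
universe u

open CategoryTheory CategoryTheory.Limits AlgebraicGeometry TopologicalSpace Opposite
open AmpleLib AmpleThLib

noncomputable section

namespace PnCohLib

section Push

variable {X Y : Scheme.{u}} (f : X ⟶ Y)

/-- Functions on the base as functions on a preimage. -/
abbrev overHom (W : Y.Opens) : Γ(Y, W) →+* Γ((f ⁻¹ᵁ W : Scheme.{u}), (⊤ : (f ⁻¹ᵁ W : Scheme.{u}).Opens)) :=
  (((f ⁻¹ᵁ W).ι ≫ f).appLE W ⊤ (fun z _ => z.2)).hom

theorem flat_global_of_push {W : Y.Opens} (hW : IsAffineOpen W) (G : X.Modules)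
    (hG : FlatMod.IsFinLocFree ((Coh.push f).obj G)) (M : (f ⁻¹ᵁ W : Scheme.{u}).Modules)
    (e : M ≅ G.restrict (f ⁻¹ᵁ W).ι) :
    letI := modA (overHom f W) M ⊤
    Module.Flat Γ(Y, W) Γ(M, (⊤ : (f ⁻¹ᵁ W : Scheme.{u}).Opens)) := by
  letI := modA (overHom f W) M ⊤
  haveI := CohBCLib.flat_sections_of_isFinLocFree _ hG hW
  let U := f ⁻¹ᵁ W
  let a : Γ(M, (⊤ : (U : Scheme.{u}).Opens)) →+ Γ((Coh.push f).obj G, W) :=
    ((G.presheaf.map (eqToHom U.ι_image_top.symm).op).hom.comp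
      (show Γ(M, (⊤ : (U : Scheme.{u}).Opens)) →+ Γ(G, U.ι ''ᵁ ⊤) from (e.hom.app ⊤).hom))
  have ha : ∀ x, a x = G.presheaf.map (eqToHom U.ι_image_top.symm).op (show Γ(G, U.ι ''ᵁ ⊤) from e.hom.app ⊤ x) :=
    fun x => rfl
  have hbij : Function.Bijective a :=
    (ConcreteCategory.bijective_of_isIso (G.presheaf.map (eqToHom U.ι_image_top.symm).op)).comp
      ((ConcreteCategory.isIso_iff_bijective (e.hom.app (⊤ : (U : Scheme.{u}).Opens))).1 inferInstance)
  refine Module.Flat.of_linearEquiv (LinearEquiv.ofBijective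
    ({ a with map_smul' := fun r x => ?_ } : Γ(M, (⊤ : (U : Scheme.{u}).Opens)) →ₗ[Γ(Y, W)] Γ((Coh.push f).obj G, W)) hbij)
  show a (r • x) = (f.app W r) • (show Γ(G, U) from a x)
  rw [ha, ha, modA_smul, QCohLib.app_smul]
  refine (Scheme.Modules.map_smul G (eqToHom U.ι_image_top.symm)
    (show Γ(X, U.ι ''ᵁ ⊤) from (U.ι.appIso ⊤).inv _) (show Γ(G, U.ι ''ᵁ ⊤) from e.hom.app ⊤ x)).trans ?_
  refine congrArg (fun z : Γ(X, U) =>
    z • G.presheaf.map (eqToHom U.ι_image_top.symm).op (show Γ(G, U.ι ''ᵁ ⊤) from e.hom.app ⊤ x)) ?_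
  rw [← CommRingCat.comp_apply, ← CommRingCat.comp_apply, ← CommRingCat.comp_apply]
  refine congrArg (fun h : Γ(Y, W) ⟶ Γ(X, U) => h r) ?_
  rw [Scheme.Hom.appLE, Scheme.Hom.comp_app, Scheme.Opens.ι_appIso, Scheme.Opens.ι_app]
  simp only [Iso.refl_inv, Category.id_comp, Category.assoc, Scheme.Opens.toScheme_presheaf_map, ← Functor.map_comp]
  refine (Category.assoc (f.app W) _ _).trans ((congrArg (f.app W ≫ ·) ?_).trans (Category.comp_id _))
  have key : ∀ {a b c : (X.Opens)ᵒᵖ} (p : op (f ⁻¹ᵁ W) ⟶ a) (q : a ⟶ b) (r : b ⟶ c) (s : c ⟶ op (f ⁻¹ᵁ W)),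
      X.presheaf.map p ≫ X.presheaf.map q ≫ X.presheaf.map r ≫ X.presheaf.map s = 𝟙 _ := fun p q r s => by
    rw [← Functor.map_comp, ← Functor.map_comp, ← Functor.map_comp, Subsingleton.elim (p ≫ q ≫ r ≫ s) (𝟙 _),
      CategoryTheory.Functor.map_id]
  exact key _ _ _ _

/-- Finite local freeness of the direct images of high twists gives flatness. -/
theorem isFlatOver_of_push [IsNoetherian Y] [QuasiCompact f] [QuasiSeparated f] (L : X.Modules) (hL : PicF.IsInvertible L)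
    (ha : ∀ W : Y.Opens, IsAffineOpen W → CohB1.IsAmple (L.restrict (f ⁻¹ᵁ W).ι))
    (F : X.Modules) (hF : Coh.IsCoh F)
    (h : ∃ n₀ : ℕ, ∀ n, n₀ ≤ n → FlatMod.IsFinLocFree ((Coh.push f).obj (CohB1.tensorMod F (CohB1.tensorPow L n)))) :
    FlatMod.IsFlatOver f F := by
  intro x
  obtain ⟨W, hW, hx⟩ := QCohLib.exists_affine_nhd (f x)
  let U := f ⁻¹ᵁ W
  let FU := F.restrict U.ι
  haveI : Coh.IsQCoh F := hF.1
  suffices FlatMod.IsFlatOverAt (U.ι ≫ f) FU ⟨x, hx⟩ by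
    rw [RichLib.ModFlat.isFlatOverAt_iso _ ((Scheme.Modules.restrictFunctorIsoPullback U.ι).app F),
      RichLib.ModFlat.isFlatOverAt_comp_source U.ι f F ⟨x, hx⟩] at this
    exact this
  have hA := ha W hW
  have hLU := hA.1
  haveI : CompactSpace (U : Scheme.{u}) := hA.2.1
  haveI := AmpleThLib.quasiSeparatedSpace_of_isAmple hA
  obtain ⟨d, V, hd, ⟨t, ht⟩, hxV, hVa⟩ := ((isAmple_iff (hL := hLU)).mp hA).2 ⟨x, hx⟩
  subst ht
  have hle : ∀ T : (U : Scheme.{u}).Opens, T ≤ (U.ι ≫ f) ⁻¹ᵁ W := fun T z _ => z.2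
  let T := TwistLib.genSet (tensorPow_isInvertible hLU d) t
  haveI hflat : letI := modA (overHom f W) FU T; Module.Flat Γ(Y, W) Γ(FU, T) := by
    refine flat_sections_genSet (overHom f W) (tensorPow_isInvertible hLU d) FU t ?_
    obtain ⟨n₀, hn₀⟩ := h
    refine ⟨n₀, fun N hN => ?_⟩
    obtain ⟨φ, -⟩ := exists_powIso hLU d N
    obtain ⟨e⟩ := SerreVanLib.nonempty_restrict_pow_iso U F hL (d * N)
    exact flat_global_of_push f hW _ (hn₀ (d * N) (le_trans hN (Nat.le_mul_of_pos_left N hd))) _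
      (HilbPolyLib.congrRight FU φ ≪≫ e.symm)
  letI : Algebra Γ(Y, W) Γ((U : Scheme.{u}), T) := ((U.ι ≫ f).appLE W T (hle T)).hom.toAlgebra
  letI : Module Γ(Y, W) Γ(FU, T) := Module.compHom _ ((U.ι ≫ f).appLE W T (hle T)).hom
  haveI : IsScalarTower Γ(Y, W) Γ((U : Scheme.{u}), T) Γ(FU, T) := IsScalarTower.of_algebraMap_smul fun _ _ => rfl
  haveI : Module.Flat Γ(Y, W) Γ(FU, T) := by
    have hh : ((U : Scheme.{u}).presheaf.map (homOfLE (le_top : T ≤ ⊤)).op).hom.comp (overHom f W) =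
        ((U.ι ≫ f).appLE W T (hle T)).hom := by
      rw [← CommRingCat.hom_comp, Scheme.Hom.appLE_map]
    convert hflat using 2
    show Module.compHom _ _ = Module.compHom _ _
    rw [hh]
  exact RGFlatLib.isFlatOverAt_of_flat_sections (U.ι ≫ f) FU hW hVa (hle T) rfl hxV

/-- Flatness gives finite local freeness of the direct images of high twists. -/
theorem exists_push_finLocFree [IsNoetherian Y] [IsProper f] (L : X.Modules) (hL : PicF.IsInvertible L)
    (ha : ∀ W : Y.Opens, IsAffineOpen W → CohB1.IsAmple (L.restrict (f ⁻¹ᵁ W).ι))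
    (F : X.Modules) (hF : Coh.IsCoh F) (hfl : FlatMod.IsFlatOver f F) :
    ∃ n₀ : ℕ, ∀ n, n₀ ≤ n → FlatMod.IsFinLocFree ((Coh.push f).obj (CohB1.tensorMod F (CohB1.tensorPow L n))) := by
  obtain ⟨n₀, hn₀⟩ := SerreVanLib.exists_vanishing_rpush f L hL ha F hF
  refine ⟨n₀, fun n hn => ?_⟩
  have hP := tensorPow_isInvertible hL n
  let G := CohB1.tensorMod F (CohB1.tensorPow L n)
  have hG : Coh.IsCoh G := SerreVanLib.isCoh_tensor hF hP
  have hGfl : FlatMod.IsFlatOver f G := PnCohLib.isFlatOver_tensor f hfl hP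
  haveI := hG.1
  refine Groth.Agent.PerfLib.isFinLocFree_of_iso (CohBCLib.rpushZero f G) fun y => ?_
  obtain ⟨W, hW, x, rfl⟩ := CohBCLib.exists_point y
  haveI := CohBCLib.isNoetherianRing_sections hW
  obtain ⟨U, hU⟩ := CohBCLib.exists_univ_overW f G hW hG hGfl
  have hh : ∀ i : ℤ, i ≤ -1 → Module.Flat Γ(Y, W) (U.P.homology i) := fun i hi => by
    obtain ⟨p, rfl⟩ : ∃ p : ℕ, i = -((p + 1 : ℕ) : ℤ) := ⟨(-i - 1).toNat, by omega⟩
    obtain ⟨e⟩ := CohBCLib.nonempty_sections_equiv f G hW hG U (p + 1)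
    obtain ⟨e'⟩ := RpushLib.nonempty_toAb_rpush_iso f G (p + 1)
    have hz : IsZero (Coh.toAb ((Coh.Rpush f (p + 1)).obj G)) := (hn₀ n hn (p + 1) (by omega)).of_iso e'
    haveI : Subsingleton Γ((Coh.Rpush f (p + 1)).obj G, W) := by
      refine subsingleton_of_forall_eq 0 fun s => ?_
      exact congrArg (fun g : Coh.toAb ((Coh.Rpush f (p + 1)).obj G) ⟶ Coh.toAb ((Coh.Rpush f (p + 1)).obj G) =>
        g.hom.app (op W) s) ((IsZero.iff_id_eq_zero _).1 hz)
    haveI := e.toEquiv.subsingleton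
    infer_instance
  have h2 := CohBCLib.flat_W_of_homology_flat U.P U.fin (-(U.N : ℤ)) U.below (-1) hh (-1) le_rfl
  obtain ⟨V, hV, eV⟩ := CohBCLib.exists_free_nhd_rpush f G hG hW hU 0 (by simpa using U.flat_W_zero)
    (by simpa using h2) x
  exact ⟨V, _, hV, eV⟩

end Push

section Proj

variable {r : ℕ} {X Y : Scheme.{u}} (i : X ⟶ CohB1.ProjSpaceOver r Y)

theorem pow_pullback_twist : ∀ n : ℕ,
    Nonempty (CohB1.tensorPow ((Scheme.Modules.pullback i).obj (Twist.twistOver r Y 1)) n ≅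
      (Scheme.Modules.pullback i).obj (Twist.twistOver r Y (n : ℤ)))
  | 0 => by
    obtain ⟨e⟩ := PicPnLib.twistOver_zero r Y
    exact ⟨(KFlatLib.pullUnitIso i).symm ≪≫ (Scheme.Modules.pullback i).mapIso e.symm⟩
  | n + 1 => by
    obtain ⟨e⟩ := pow_pullback_twist n
    obtain ⟨e'⟩ := PicPnLib.twistOver_add r Y (n : ℤ) 1
    haveI := KFlatLib.isIso_pullθ i (Twist.twistOver r Y (n : ℤ)) (Twist.twistOver r Y 1)
    exact ⟨HilbPolyLib.congrLeft e _ ≪≫
      (@asIso _ _ _ _ (KFlatLib.pullθ i (Twist.twistOver r Y (n : ℤ)) (Twist.twistOver r Y 1)) this).symm ≪≫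
      (Scheme.Modules.pullback i).mapIso (e' ≪≫ eqToIso (by push_cast; rfl))⟩

theorem isAmple_twist_restrict [IsImmersion i] [QuasiCompact (i ≫ CohB1.ProjSpaceOver.toBase r Y)]
    {W : Y.Opens} (hW : IsAffineOpen W) :
    CohB1.IsAmple (((Scheme.Modules.pullback i).obj (Twist.twistOver r Y 1)).restrict
      ((i ≫ CohB1.ProjSpaceOver.toBase r Y) ⁻¹ᵁ W).ι) := by
  let f := i ≫ CohB1.ProjSpaceOver.toBase r Y
  let U := f ⁻¹ᵁ W
  let q : (U : Scheme.{u}) ⟶ Spec (CommRingCat.of Γ(Y, W)) := RpushLib.overW f hW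
  let c : (U : Scheme.{u}) ⟶ CohB1.ProjSpace r (ULift.{u} ℤ) := U.ι ≫ i ≫ pullback.fst _ _
  let i' : (U : Scheme.{u}) ⟶ CohB1.ProjSpaceOver r (Spec (CommRingCat.of Γ(Y, W))) :=
    pullback.lift c q (specULiftZIsTerminal.hom_ext _ _)
  let m : CohB1.ProjSpaceOver r (Spec (CommRingCat.of Γ(Y, W))) ⟶ CohB1.ProjSpaceOver r Y :=
    pullback.lift (pullback.fst _ _) (pullback.snd _ _ ≫ hW.fromSpec) (specULiftZIsTerminal.hom_ext _ _)
  have hm : i' ≫ m = U.ι ≫ i := by
    apply pullback.hom_ext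
    · exact (Category.assoc i' m _).trans ((congrArg (i' ≫ ·) (pullback.lift_fst _ _ _)).trans
        ((pullback.lift_fst _ _ _).trans (Category.assoc _ _ _).symm))
    · exact (Category.assoc i' m _).trans ((congrArg (i' ≫ ·) (pullback.lift_snd _ _ _)).trans
        ((Category.assoc _ _ _).symm.trans ((congrArg (· ≫ hW.fromSpec) (pullback.lift_snd _ _ _)).trans
          ((CohBCLib.isPullback_overW f hW).w.symm.trans (Category.assoc _ _ _).symm))))
  haveI : IsImmersion (i' ≫ m) := by rw [hm]; infer_instance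
  haveI : IsImmersion i' := IsImmersion.of_comp i' m
  haveI : QuasiCompact q := by
    haveI : QuasiCompact (f ∣_ W) := IsZariskiLocalAtTarget.restrict ‹_› W
    dsimp only [q, RpushLib.overW]
    infer_instance
  have hL : PicF.IsInvertible (((Scheme.Modules.pullback i).obj (Twist.twistOver r Y 1)).restrict U.ι) :=
    AmpleThLib.restrict_isInvertible (AmpleDevLib.isInvertible_pb i (PicPnLib.twistOver_inv r Y 1)) U.ι
  have hfst : i' ≫ pullback.fst _ _ = (U.ι ≫ i) ≫ pullback.fst _ _ :=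
    (pullback.lift_fst _ _ _).trans (Category.assoc _ _ _).symm
  exact AmpleThLib.isAmple_of_isRelVeryAmplePn q hL ⟨r, i', inferInstance, pullback.lift_snd _ _ _,
    ⟨(Scheme.Modules.restrictFunctorIsoPullback U.ι).app _ ≪≫
      (Scheme.Modules.pullbackComp U.ι i).app _ ≪≫ (Scheme.Modules.pullbackComp (U.ι ≫ i) _).app _ ≪≫
      (Scheme.Modules.pullbackCongr hfst.symm).app _ ≪≫ ((Scheme.Modules.pullbackComp i' _).app _).symm⟩⟩

end Proj

end PnCohLib
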