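import Groth.Agent.PnCohLib.Serre
import Groth.Agent.PicPnLib.BaseChange
import Groth.Agent.StratLib.Light

/-!
# Serre vanishing for a closed subscheme of projective space over a Noetherian ring
-/

set_option autoImplicit false
universe u

open CategoryTheory CategoryTheory.Limits AlgebraicGeometry

noncomputable section

namespace PnCohLib

theorem powTwist {r : ℕ} {X Y : Scheme.{u}} (i : X ⟶ CohB1.ProjSpaceOver r Y) : ∀ n : ℕ,
    Nonempty (CohB1.tensorPow ((Scheme.Modules.pullback i).obj (Twist.twistOver r Y 1)) n ≅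
      (Scheme.Modules.pullback i).obj (Twist.twistOver r Y (n : ℤ)))
  | 0 => by
    obtain ⟨e⟩ := PicPnLib.twistOver_zero r Y
    exact ⟨(KFlatLib.pullUnitIso i).symm ≪≫ (Scheme.Modules.pullback i).mapIso e.symm⟩
  | n + 1 => by
    obtain ⟨e⟩ := powTwist i n
    obtain ⟨e'⟩ := PicPnLib.twistOver_add r Y (n : ℤ) 1
    haveI := KFlatLib.isIso_pullθ i (Twist.twistOver r Y (n : ℤ)) (Twist.twistOver r Y 1)
    exact ⟨HilbPolyLib.congrLeft e _ ≪≫
      (@asIso _ _ _ _ (KFlatLib.pullθ i (Twist.twistOver r Y (n : ℤ)) (Twist.twistOver r Y 1)) this).symm ≪≫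
      (Scheme.Modules.pullback i).mapIso (e' ≪≫ eqToIso (by push_cast; rfl))⟩

/-- Serre vanishing for the twists of a coherent module on a closed subscheme. -/
theorem exists_vanishing_embedded {A : Type u} [CommRing A] [IsNoetherianRing A] {r : ℕ} {X : Scheme.{u}}
    (i : X ⟶ CohB1.ProjSpace r A) [IsClosedImmersion i] (F : X.Modules) (hF : Coh.IsCoh F) :
    ∃ N : ℤ, ∀ n : ℤ, N ≤ n → ∀ p : ℕ, 0 < p →
      Subsingleton (Coh.HH X (CohB1.tensorMod F ((Scheme.Modules.pullback i).obj (Twist.twistProjSpace r A n))) p) := by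
  obtain ⟨j, hj, hd⟩ := PicPnLib.exists_square (n := r) (R := A) (𝟙 (Spec (CommRingCat.of A)))
  haveI : IsIso j := hj.isIso_fst_of_isIso
  let g := i ≫ j
  have hg : ∀ d : ℤ, Nonempty ((Scheme.Modules.pullback g).obj (Twist.twistOver r _ d) ≅
      (Scheme.Modules.pullback i).obj (Twist.twistProjSpace r A d)) := fun d =>
    ⟨((Scheme.Modules.pullbackComp i j).app _).symm ≪≫ (Scheme.Modules.pullback i).mapIso (hd d).some⟩
  haveI : IsProper (CohB1.ProjSpace.toSpec r A) := StratLib.isProper_toSpec r A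
  have hP : RelAmple.IsRelVeryAmplePn (i ≫ CohB1.ProjSpace.toSpec r A)
      ((Scheme.Modules.pullback g).obj (Twist.twistOver r _ 1)) :=
    ⟨r, g, inferInstance, (Category.assoc i j _).trans (congrArg (i ≫ ·) (hj.w.trans (Category.comp_id _))),
      ⟨Iso.refl _⟩⟩
  obtain ⟨d₀, hd₀⟩ := SerreVanLib.exists_vanishing_veryAmple (i ≫ CohB1.ProjSpace.toSpec r A) hP F hF
  refine ⟨d₀, fun n hn p hp => ?_⟩
  obtain ⟨m, rfl⟩ := Int.eq_ofNat_of_zero_le ((Int.natCast_nonneg d₀).trans hn)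
  obtain ⟨e⟩ := powTwist g m
  exact SerreVanLib.subsingleton_HH_of_iso (HilbPolyLib.congrRight F ((hg _).some.symm ≪≫ e.symm)) p
    (hd₀ m (Int.ofNat_le.1 hn) p hp)

end PnCohLib
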