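import Groth.Agent.PnCohLib.Syz
import Groth.Agent.PerfCompLib.Theta
import Groth.Agent.CycK0Lib.Sigma

/-!
# The splitting criterion of Horrocks on projective space
-/

set_option autoImplicit false
universe u

open CategoryTheory CategoryTheory.Limits AlgebraicGeometry TopologicalSpace Opposite

noncomputable section

namespace PnCohLib

section Gen

variable {X : Scheme.{u}}

/-- Tensoring twice is tensoring once, naturally. -/
def tensorTensor (A B : X.Modules) :
    CurvLib.tensorLeft' B ⋙ CurvLib.tensorLeft' A ≅ CurvLib.tensorLeft' (CohB1.tensorMod A B) :=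
  (((ModSiteLib.assocBi X.sheaf).app A).app B).symm

variable {k : Type u} [Field k] [X.Over (Spec (CommRingCat.of k))]

theorem hMap_zero (M N : X.Modules) (p : ℕ) (y : Coh.HH X M p) : CurvLib.hMap (k := k) (0 : M ⟶ N) p y = 0 := by
  rw [CurvLib.hMap_apply, Functor.map_zero]
  show Abelian.Ext.comp y (Abelian.Ext.mk₀ 0) (add_zero p) = 0
  rw [Abelian.Ext.mk₀_zero, Abelian.Ext.comp_zero]

/-- `φ ↦ H^p(φ)(y)` as a homomorphism. -/
def hMapEval {M : X.Modules} (N : X.Modules) (p : ℕ) (y : Coh.HH X M p) : (M ⟶ N) →+ Coh.HH X N p where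
  toFun φ := CurvLib.hMap (k := k) φ p y
  map_zero' := hMap_zero M N p y
  map_add' f g := by
    rw [CurvLib.hMap_apply, CurvLib.hMap_apply, CurvLib.hMap_apply, Functor.map_add]
    show Abelian.Ext.comp y (Abelian.Ext.mk₀ _) (add_zero p) = _
    rw [Abelian.Ext.mk₀_add, Abelian.Ext.comp_add]
    rfl

/-- A class on the image of a finite biproduct is the sum of its components. -/
theorem hMap_sum_components {r : ℕ} (M : Fin r → X.Modules) (T : X.Modules ⥤ X.Modules) [T.Additive] (p : ℕ)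
    (x : Coh.HH X (T.obj (⨁ M)) p) :
    x = ∑ j, CurvLib.hMap (k := k) (T.map (biproduct.ι M j)) p (CurvLib.hMap (k := k) (T.map (biproduct.π M j)) p x) := by
  have h : hMapEval (k := k) _ p x (T.map (∑ j, biproduct.π M j ≫ biproduct.ι M j)) = x := by
    rw [biproduct.total, CategoryTheory.Functor.map_id]
    show CurvLib.hMap (k := k) (𝟙 _) p x = x
    rw [CurvLib.hMap_apply, CategoryTheory.Functor.map_id]
    exact Sheaf.H.map_id_apply x
  rw [Functor.map_sum, map_sum] at h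
  refine h.symm.trans (Finset.sum_congr rfl fun j _ => ?_)
  show CurvLib.hMap (k := k) (T.map (biproduct.π M j ≫ biproduct.ι M j)) p x = _
  rw [Functor.map_comp, CurvLib.hMap_comp]

include k in
theorem subsingleton_HH_biproduct {r : ℕ} (M : Fin r → X.Modules) (T : X.Modules ⥤ X.Modules) [T.Additive] (p : ℕ)
    (h : ∀ j, Subsingleton (Coh.HH X (T.obj (M j)) p)) : Subsingleton (Coh.HH X (T.obj (⨁ M)) p) :=
  subsingleton_of_forall_eq 0 fun x => by
    rw [hMap_sum_components (k := k) M T p x]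
    refine Finset.sum_eq_zero fun j _ => ?_
    rw [(h j).elim (CurvLib.hMap (k := k) (T.map (biproduct.π M j)) p x) 0, map_zero]

/-- Tensoring one step further: sections keep lifting. -/
theorem surjective_conj_tensor {B F : X.Modules} (L₁ L L' : X.Modules)
    (τ : CurvLib.tensorLeft' L ⋙ CurvLib.tensorLeft' L₁ ≅ CurvLib.tensorLeft' L') (φ : B ⟶ F)
    (hmult : ∀ w : Γ(KFlatLib.tens (CohB1.tensorMod F L) L₁, (⊤ : X.Opens)),
      ∃ s, KFlatLib.shApp (CohB1.tensorMod F L) L₁ ⊤ s = w)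
    (h : ∀ w : Γ(CohB1.tensorMod L F, (⊤ : X.Opens)), ∃ v, ((CurvLib.tensorLeft' L).map φ).app ⊤ v = w)
    (w : Γ(CohB1.tensorMod L' F, (⊤ : X.Opens))) : ∃ v, ((CurvLib.tensorLeft' L').map φ).app ⊤ v = w := by
  let ψ : CohB1.tensorMod L B ⟶ CohB1.tensorMod F L :=
    (CurvLib.tensorLeft' L).map φ ≫ (HilbPolyLib.swapIso L F).hom
  have hψ : ∀ b, ∃ a, ψ.app ⊤ a = b := fun b => by
    obtain ⟨v, hv⟩ := h ((HilbPolyLib.swapIso L F).inv.app ⊤ b)
    refine ⟨v, ?_⟩
    show (HilbPolyLib.swapIso L F).hom.app ⊤ (((CurvLib.tensorLeft' L).map φ).app ⊤ v) = b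
    rw [hv]
    exact congrArg (fun z : CohB1.tensorMod F L ⟶ CohB1.tensorMod F L => z.app ⊤ b)
      (HilbPolyLib.swapIso L F).inv_hom_id
  have h1 := surjective_tensor_app (L := L₁) ψ hψ hmult
  obtain ⟨u, hu⟩ := h1 (((CurvLib.tensorLeft' L₁).map (HilbPolyLib.swapIso L F).hom).app ⊤ ((τ.inv.app F).app ⊤ w))
  refine ⟨(τ.hom.app B).app ⊤ u, ?_⟩
  have e : τ.hom.app B ≫ (CurvLib.tensorLeft' L').map φ = (CurvLib.tensorLeft' L₁).map ψ ≫
      (CurvLib.tensorLeft' L₁).map (HilbPolyLib.swapIso L F).inv ≫ τ.hom.app F := by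
    rw [← CategoryTheory.Functor.map_comp_assoc, Category.assoc]
    erw [Iso.hom_inv_id, Category.comp_id]
    exact (τ.hom.naturality φ).symm
  refine (congrArg (fun z : CohB1.tensorMod L₁ (CohB1.tensorMod L B) ⟶ _ => z.app ⊤ u) e).trans ?_
  show (τ.hom.app F).app ⊤ (((CurvLib.tensorLeft' L₁).map (HilbPolyLib.swapIso L F).inv).app ⊤
    (((CurvLib.tensorLeft' L₁).map ψ).app ⊤ u)) = w
  rw [hu]
  have e2 : τ.inv.app F ≫ (CurvLib.tensorLeft' L₁).map (HilbPolyLib.swapIso L F).hom ≫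
      (CurvLib.tensorLeft' L₁).map (HilbPolyLib.swapIso L F).inv ≫ τ.hom.app F = 𝟙 _ := by
    rw [← CategoryTheory.Functor.map_comp_assoc]
    erw [Iso.hom_inv_id, CategoryTheory.Functor.map_id, Category.id_comp]
    exact τ.inv_hom_id_app F
  exact congrArg (fun z : (CurvLib.tensorLeft' L').obj F ⟶ _ => z.app ⊤ w) e2

theorem hMap_comp_eq_zero {r : ℕ} (M : Fin r → X.Modules) (T : X.Modules ⥤ X.Modules) [T.Additive] (p : ℕ)
    {B C : X.Modules} (f : T.obj (⨁ M) ⟶ B) (g : B ⟶ C) (x : Coh.HH X (T.obj (⨁ M)) p)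
    (h : ∀ (j : Fin r) (z : Coh.HH X (T.obj (M j)) p), CurvLib.hMap (k := k) (T.map (biproduct.ι M j) ≫ f ≫ g) p z = 0) :
    CurvLib.hMap (k := k) g p (CurvLib.hMap (k := k) f p x) = 0 := by
  rw [hMap_sum_components (k := k) M T p x, map_sum, map_sum]
  exact Finset.sum_eq_zero fun j _ => by rw [← CurvLib.hMap_comp, ← CurvLib.hMap_comp, h]

theorem hMap_eq_zero_of_components {r : ℕ} (M : Fin r → X.Modules) (T : X.Modules ⥤ X.Modules) [T.Additive] (p : ℕ)
    {A : X.Modules} (a : A ⟶ T.obj (⨁ M)) (z : Coh.HH X A p)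
    (h : ∀ l, CurvLib.hMap (k := k) (a ≫ T.map (biproduct.π M l)) p z = 0) : CurvLib.hMap (k := k) a p z = 0 := by
  rw [hMap_sum_components (k := k) M T p (CurvLib.hMap (k := k) a p z)]
  exact Finset.sum_eq_zero fun l _ => by rw [← CurvLib.hMap_comp (φ := a), h, map_zero]

theorem surjective_of_shortExact {S : ShortComplex X.Modules} (hS : S.ShortExact) (p : ℕ)
    (h : Subsingleton (Coh.HH X S.X₁ (p + 1))) (y : Coh.HH X S.X₃ p) :
    ∃ x, CurvLib.hMap (k := k) S.g p x = y := by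
  refine LinearMap.mem_range.1 ?_
  rw [CurvLib.exact₃ hS p, LinearMap.mem_ker]
  exact Subsingleton.elim _ _

theorem surjective_comp {A B C : X.Modules} (f : A ⟶ B) (g : B ⟶ C)
    (h : ∀ w : Γ(C, (⊤ : X.Opens)), ∃ v, (f ≫ g).app ⊤ v = w) : ∀ w : Γ(C, (⊤ : X.Opens)), ∃ v, g.app ⊤ v = w :=
  fun w => (h w).elim fun v hv => ⟨f.app ⊤ v, hv⟩

theorem surjective_desc_unitHom (M : X.Modules) {b : ℕ} (s : Fin b → Γ(M, (⊤ : X.Opens)))
    (c : Fin b → Γ(X, (⊤ : X.Opens))) :
    ∃ v, (biproduct.desc fun a => QCohLib.unitHom M (s a)).app ⊤ v = ∑ a, c a • s a := by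
  refine ⟨∑ a, (biproduct.ι (fun _ : Fin b => Coh.structureModule X) a).app ⊤ (c a), ?_⟩
  rw [map_sum]
  refine Finset.sum_congr rfl fun a _ => ?_
  refine (congrArg (fun f : Coh.structureModule X ⟶ M => f.app ⊤ (c a))
    (biproduct.ι_desc (fun a => QCohLib.unitHom M (s a)) a)).trans ?_
  exact (QCohLib.unitHom_app M (s a) ⊤ (c a)).trans (congrArg (c a • ·) (QCohLib.toSections_top M (s a)))

/-- Global generators of `T₂ F` give maps to `F` which are surjective on sections after `T₂`. -/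
theorem exists_desc_surjective (T₁ T₂ : X.Modules ⥤ X.Modules) [T₁.Additive] (ζ₁ : T₂ ⋙ T₁ ≅ 𝟭 _) (ζ₂ : T₁ ⋙ T₂ ≅ 𝟭 _)
    {L : X.Modules} (u : L ≅ T₁.obj (Coh.structureModule X)) (F : X.Modules) {b : ℕ}
    (σ : Fin b → (Coh.structureModule X ⟶ T₂.obj F))
    (hσ : ∀ w, ∃ v, (biproduct.desc σ).app ⊤ v = w) :
    ∃ g : Fin b → (L ⟶ F), ∀ w : Γ(T₂.obj F, (⊤ : X.Opens)), ∃ v, (T₂.map (biproduct.desc g)).app ⊤ v = w := by
  let g₀ := T₁.map (biproduct.desc σ) ≫ ζ₁.hom.app F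
  let C : (⨁ fun _ : Fin b => L) ⟶ T₁.obj (⨁ fun _ : Fin b => Coh.structureModule X) :=
    biproduct.desc fun a => u.hom ≫ T₁.map (biproduct.ι (fun _ : Fin b => Coh.structureModule X) a)
  let D : T₁.obj (⨁ fun _ : Fin b => Coh.structureModule X) ⟶ ⨁ fun _ : Fin b => L :=
    biproduct.lift fun a => T₁.map (biproduct.π (fun _ : Fin b => Coh.structureModule X) a) ≫ u.inv
  refine ⟨fun a => u.hom ≫ T₁.map (biproduct.ι (fun _ : Fin b => Coh.structureModule X) a) ≫ g₀, fun w => ?_⟩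
  have hDC : D ≫ C = 𝟙 _ := by
    rw [biproduct.lift_desc]
    simp only [Category.assoc, Iso.inv_hom_id_assoc, ← Functor.map_comp, ← Functor.map_sum, biproduct.total,
      CategoryTheory.Functor.map_id]
  have hg : g₀ = D ≫ biproduct.desc fun a =>
      u.hom ≫ T₁.map (biproduct.ι (fun _ : Fin b => Coh.structureModule X) a) ≫ g₀ := by
    rw [show (biproduct.desc fun a => u.hom ≫ T₁.map (biproduct.ι (fun _ : Fin b => Coh.structureModule X) a) ≫ g₀)
      = C ≫ g₀ from biproduct.hom_ext' _ _ fun a => by simp [C], ← Category.assoc, hDC, Category.id_comp]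
  let θ : T₂.obj F ≅ T₂.obj F := (ζ₂.app (T₂.obj F)).symm ≪≫ T₂.mapIso (ζ₁.app F)
  obtain ⟨v, hv⟩ := hσ (θ.inv.app ⊤ w)
  refine ⟨(T₂.map D).app ⊤ ((ζ₂.inv.app _).app ⊤ v), ?_⟩
  have e : ζ₂.inv.app _ ≫ T₂.map g₀ = biproduct.desc σ ≫ θ.hom := by
    rw [Functor.map_comp, ← Category.assoc]
    exact (congrArg (· ≫ T₂.map (ζ₁.hom.app F)) (ζ₂.inv.naturality (biproduct.desc σ)).symm).trans (Category.assoc _ _ _)
  refine Eq.trans ?_ ((congrArg (fun z : _ ⟶ T₂.obj F => z.app ⊤ v) e).trans ?_)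
  · exact (congrArg (fun z : T₂.obj (T₁.obj (⨁ fun _ : Fin b => Coh.structureModule X)) ⟶ T₂.obj F =>
      z.app ⊤ ((ζ₂.inv.app _).app ⊤ v)) ((congrArg T₂.map hg).trans (T₂.map_comp _ _))).symm
  · show θ.hom.app ⊤ ((biproduct.desc σ).app ⊤ v) = w
    rw [hv]
    exact congrArg (fun z : T₂.obj F ⟶ T₂.obj F => z.app ⊤ w) θ.inv_hom_id

theorem endUnit_apply {N : X.Modules} (h : Coh.structureModule X ⟶ N) (V : X.Opens) (r : Γ(X, V)) :
    h.app V r = r • N.presheaf.map (homOfLE (le_top : V ≤ ⊤)).op (h.app ⊤ (1 : Γ(X, (⊤ : X.Opens)))) := by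
  rw [← QCohLib.app_map, ← QCohLib.app_smul]
  refine congrArg (h.app V) ?_
  show r = r * X.presheaf.map (homOfLE (le_top : V ≤ ⊤)).op (1 : Γ(X, (⊤ : X.Opens)))
  rw [map_one, mul_one]

theorem hom_unit_eq_zero {N : X.Modules} (h : Coh.structureModule X ⟶ N)
    (hσ : h.app ⊤ (1 : Γ(X, (⊤ : X.Opens))) = 0) : h = 0 :=
  Scheme.Modules.hom_ext _ _ fun V => AddCommGrpCat.hom_ext (AddMonoidHom.ext fun r =>
    (endUnit_apply h V r).trans (by rw [hσ, map_zero, smul_zero]; rfl))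

theorem isIso_endUnit (h : Coh.structureModule X ⟶ Coh.structureModule X)
    (hc : IsUnit (id (h.app ⊤ (1 : Γ(X, (⊤ : X.Opens)))) : Γ(X, (⊤ : X.Opens)))) : IsIso h := by
  refine Scheme.Modules.Hom.isIso_iff_isIso_app.2 fun V => (ConcreteCategory.isIso_iff_bijective _).2 ?_
  obtain ⟨w, hw⟩ : IsUnit (X.presheaf.map (homOfLE (le_top : V ≤ ⊤)).op
      (id (h.app ⊤ (1 : Γ(X, (⊤ : X.Opens)))) : Γ(X, (⊤ : X.Opens)))) := hc.map _
  have hval : ∀ r : Γ(X, V), h.app V r = (r * (w : Γ(X, V)) : Γ(X, V)) := fun r => by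
    rw [hw]
    exact endUnit_apply h V r
  refine ⟨fun (r : Γ(X, V)) (r' : Γ(X, V)) h' => ?_,
    fun (r : Γ(X, V)) => ⟨(r * (↑w⁻¹ : Γ(X, V)) : Γ(X, V)), ?_⟩⟩
  · exact w.isUnit.mul_right_cancel ((hval r).symm.trans (h'.trans (hval r')))
  · exact (hval _).trans (Units.inv_mul_cancel_right r w)

theorem eq_zero_conj {A B A' B' : X.Modules} (f : A ⟶ B) (a : A ≅ A') (b : B ≅ B')
    (h : a.inv ≫ f ≫ b.hom = 0) : f = 0 :=
  (cancel_mono b.hom).1 ((cancel_epi a.inv).1 (h.trans (by simp)))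

theorem isIso_conj {A B A' B' : X.Modules} (f : A ⟶ B) (a : A ≅ A') (b : B ≅ B')
    (h : IsIso (a.inv ≫ f ≫ b.hom)) : IsIso f := by
  haveI := IsIso.of_isIso_comp_left a.inv (f ≫ b.hom)
  exact IsIso.of_isIso_comp_right f b.hom

theorem injective_succ_of_surjective {S : ShortComplex X.Modules} (hS : S.ShortExact) (p : ℕ)
    (h : Function.Surjective (CurvLib.hMap (k := k) S.g p)) :
    Function.Injective (CurvLib.hMap (k := k) S.f (p + 1)) := by
  rw [← LinearMap.ker_eq_bot, ← CurvLib.exact₁ hS p, LinearMap.range_eq_bot]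
  ext x
  have h1 : x ∈ LinearMap.range (CurvLib.hMap (k := k) S.g p) := h x
  rwa [CurvLib.exact₃ hS p, LinearMap.mem_ker] at h1

theorem surjective_conj {A B A' B' : X.Modules} (f : A ⟶ B) (g : A' ⟶ B') (a : A ≅ A') (b : B ≅ B')
    (hc : f ≫ b.hom = a.hom ≫ g) (h : ∀ w : Γ(B, (⊤ : X.Opens)), ∃ v, f.app ⊤ v = w) :
    ∀ w : Γ(B', (⊤ : X.Opens)), ∃ v, g.app ⊤ v = w := fun w => by
  obtain ⟨v, hv⟩ := h (b.inv.app ⊤ w)
  refine ⟨a.hom.app ⊤ v, (congrArg (fun z : A ⟶ B' => z.app ⊤ v) hc).symm.trans ?_⟩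
  show b.hom.app ⊤ (f.app ⊤ v) = w
  rw [hv]
  exact congrArg (fun z : B' ⟶ B' => z.app ⊤ w) b.inv_hom_id

end Gen

variable {n : ℕ} (k : Type u) [Field k]

local notation "P" => CohB1.ProjSpace n k
local notation "O'" => Twist.twistProjSpace n k
local notation "T" => CurvLib.tensorLeft'

theorem exists_twistNat (a b c : ℤ) (h : a + b = c) : Nonempty (T (O' b) ⋙ T (O' a) ≅ T (O' c)) := by
  subst h
  obtain ⟨e⟩ := PicPnLib.twist_add n k a b
  exact ⟨tensorTensor _ _ ≪≫ (DCoh.tensorBi (X := CohB1.ProjSpace n k)).mapIso e⟩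

theorem exists_unitNat : Nonempty (T (O' 0) ≅ 𝟭 (CohB1.ProjSpace n k).Modules) := by
  obtain ⟨e⟩ := PicPnLib.twist_zero n k
  exact ⟨(DCoh.tensorBi (X := CohB1.ProjSpace n k)).mapIso e ≪≫ PerfCompLib.tensUnitNat⟩

/-- Sections lift after twisting by `t`. -/
def Lift {B F : (CohB1.ProjSpace n k).Modules} (φ : B ⟶ F) (t : ℤ) : Prop :=
  ∀ w : Γ(CohB1.tensorMod (Twist.twistProjSpace n k t) F, (⊤ : (CohB1.ProjSpace n k).Opens)),
    ∃ v, ((CurvLib.tensorLeft' (Twist.twistProjSpace n k t)).map φ).app ⊤ v = w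

theorem lift_succ {B F : (CohB1.ProjSpace n k).Modules} (φ : B ⟶ F) (hF : Coh.IsQCoh F) (t : ℤ)
    (hreg : Curv2.IsMRegular k n F t) (h : Lift k φ t) : Lift k φ (t + 1) := by
  obtain ⟨τ⟩ := exists_twistNat (n := n) k 1 t (t + 1) (by ring)
  exact fun w => surjective_conj_tensor _ _ _ τ φ (fun u => surjective_mult k F hF t hreg u) h w

/-- A composite lifts only if its last factor does. -/
theorem lift_of_comp {A B F : (CohB1.ProjSpace n k).Modules} (a : A ⟶ B) (φ : B ⟶ F) (t : ℤ)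
    (h : Lift k (a ≫ φ) t) : Lift k φ t := fun w => (h w).elim fun v hv =>
  ⟨((T (O' t)).map a).app ⊤ v, (congrArg (fun z : CohB1.tensorMod (O' t) A ⟶ _ => z.app ⊤ v)
    ((T (O' t)).map_comp a φ)).symm.trans hv⟩

theorem exists_lift_at (F : (CohB1.ProjSpace n k).Modules) (hF : Coh.IsCoh F) (t : ℤ) :
    ∃ (b : ℕ) (g : Fin b → (Twist.twistProjSpace n k (-t) ⟶ F)), Lift k (biproduct.desc g) t := by
  obtain ⟨b, s, hs⟩ := exists_global_gens (CohB1.tensorMod (O' t) F)
    (HilbPolyLib.isCoh_tensor (PicPnLib.twist_inv n k t) hF)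
  obtain ⟨τ⟩ := exists_twistNat (n := n) k (-t) t 0 (by ring)
  obtain ⟨τ'⟩ := exists_twistNat (n := n) k t (-t) 0 (by ring)
  obtain ⟨υ⟩ := exists_unitNat (n := n) k
  obtain ⟨g, hg⟩ := exists_desc_surjective (T (O' (-t))) (T (O' t)) (τ ≪≫ υ) (τ' ≪≫ υ)
    (PicPnLib.unitRight (O' (-t))).symm F (fun a => QCohLib.unitHom (CohB1.tensorMod (O' t) F) (s a))
    (fun w => by
      obtain ⟨c, rfl⟩ := hs w
      exact surjective_desc_unitHom _ s c)
  exact ⟨b, g, hg⟩

/-- A finite family of twisted generators: sections lift in every degree. -/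
theorem exists_lift_all (F : (CohB1.ProjSpace n k).Modules) (hF : Coh.IsCoh F) (m : ℤ)
    (hreg : ∀ t, m ≤ t → Curv2.IsMRegular k n F t)
    (hlow : ∃ t₀ : ℤ, ∀ t, t ≤ t₀ → Subsingleton (Coh.HH (CohB1.ProjSpace n k) (CohB1.tensorMod F (Twist.twistProjSpace n k t)) 0)) :
    ∃ (r : ℕ) (d : Fin r → ℤ) (g : ∀ j, Twist.twistProjSpace n k (-d j) ⟶ F),
      (∀ j, d j ≤ m) ∧ ∀ t, Lift k (biproduct.desc g) t := by
  obtain ⟨t₀, ht₀⟩ := hlow
  choose b g hg using fun t => exists_lift_at k F hF t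
  let ι : Type := Σ i : ↥(Finset.Icc (min t₀ m) m), Fin (b i.1)
  let e := (Fintype.equivFin ι).symm
  refine ⟨Fintype.card ι, fun j => (e j).1.1, fun j => g _ (e j).2, fun j => (Finset.mem_Icc.1 (e j).1.2).2, ?_⟩
  let φ := biproduct.desc fun j => g (e j).1.1 (e j).2
  have hin : ∀ t, min t₀ m ≤ t → t ≤ m → Lift k φ t := fun t h1 h2 => by
    let i : ↥(Finset.Icc (min t₀ m) m) := ⟨t, Finset.mem_Icc.2 ⟨h1, h2⟩⟩
    have hfac : ∀ (q : ι), ∃ h : Twist.twistProjSpace n k (-q.1.1) ⟶ ⨁ fun j => Twist.twistProjSpace n k (-(e j).1.1),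
        h ≫ φ = g q.1.1 q.2 := fun q => by
      obtain ⟨j, rfl⟩ := e.surjective q
      exact ⟨biproduct.ι (fun j => Twist.twistProjSpace n k (-(e j).1.1)) j, biproduct.ι_desc _ _⟩
    choose h hh using fun a : Fin (b t) => hfac ⟨i, a⟩
    refine lift_of_comp k (biproduct.desc h) φ t ?_
    rw [show biproduct.desc h ≫ φ = biproduct.desc (g t) from
      biproduct.hom_ext' _ _ fun a => by rw [biproduct.ι_desc_assoc, hh, biproduct.ι_desc]]
    exact hg t
  intro t
  by_cases h1 : t < min t₀ m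
  · haveI := ht₀ t (le_trans h1.le (min_le_left _ _))
    haveI : Subsingleton (Coh.HH (CohB1.ProjSpace n k) (CohB1.tensorMod (O' t) F) 0) :=
      SerreVanLib.subsingleton_HH_of_iso (HilbPolyLib.swapIso _ _) 0 (ht₀ t (le_trans h1.le (min_le_left _ _)))
    haveI := (DegPullLib.e0 (CohB1.tensorMod (O' t) F)).symm.injective.subsingleton
    exact fun w => ⟨0, Subsingleton.elim (α := Γ(CohB1.tensorMod (O' t) F, (⊤ : (CohB1.ProjSpace n k).Opens))) _ _⟩
  suffices ∀ e : ℕ, ∀ t, min t₀ m ≤ t → t ≤ m + e → Lift k φ t from this (t - m).toNat t (not_lt.1 h1) (by omega)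
  intro e
  induction e with
  | zero => exact fun t h1 h2 => hin t h1 (by simpa using h2)
  | succ e ih =>
    intro t h1 h2
    by_cases h3 : t ≤ m + e
    · exact ih t h1 h3
    · rw [show t = m + e + 1 by omega]
      exact lift_succ k φ hF.1 _ (hreg _ (by omega)) (ih _ (le_trans (min_le_right _ _) (by omega)) le_rfl)

theorem isZero_of_map_isZero (t : ℤ) (F : (CohB1.ProjSpace n k).Modules) (h : IsZero ((T (O' t)).obj F)) : IsZero F :=
  isZero_of_tensor k t F (h.of_iso (HilbPolyLib.swapIso F (O' t)))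

theorem eq_zero_of_map (t : ℤ) {A B : (CohB1.ProjSpace n k).Modules} (f : A ⟶ B)
    (h : (T (O' t)).map f = 0) : f = 0 := by
  obtain ⟨τ⟩ := exists_twistNat (n := n) k (-t) t 0 (by ring)
  obtain ⟨υ⟩ := exists_unitNat (n := n) k
  have h1 := (τ ≪≫ υ).hom.naturality f
  have h2 : (T (O' t) ⋙ T (O' (-t))).map f = 0 := (congrArg (T (O' (-t))).map h).trans (Functor.map_zero _ _ _)
  rw [h2, zero_comp] at h1
  exact (cancel_epi ((τ ≪≫ υ).hom.app A)).1 (h1.symm.trans comp_zero.symm)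

theorem isIso_of_map (t : ℤ) {A B : (CohB1.ProjSpace n k).Modules} (f : A ⟶ B)
    (h : IsIso ((T (O' t)).map f)) : IsIso f := by
  obtain ⟨τ⟩ := exists_twistNat (n := n) k (-t) t 0 (by ring)
  obtain ⟨υ⟩ := exists_unitNat (n := n) k
  haveI : IsIso ((T (O' t) ⋙ T (O' (-t))).map f) := inferInstanceAs (IsIso ((T (O' (-t))).map ((T (O' t)).map f)))
  exact (NatIso.isIso_map_iff (τ ≪≫ υ) f).1 this

theorem eq_zero_or_isIso (hn : 1 ≤ n) (a b : ℤ) (h : O' a ⟶ O' b) (hab : b ≤ a) : h = 0 ∨ (b = a ∧ IsIso h) := by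
  obtain ⟨ea⟩ := PicPnLib.twist_add n k (-a) a
  obtain ⟨eb⟩ := PicPnLib.twist_add n k (-a) b
  obtain ⟨e₀⟩ := PicPnLib.twist_zero n k
  let α : (T (O' (-a))).obj (O' a) ≅ Coh.structureModule (CohB1.ProjSpace n k) :=
    ea ≪≫ eqToIso (by rw [neg_add_cancel]) ≪≫ e₀
  rcases hab.lt_or_eq with hlt | rfl
  · refine Or.inl (eq_zero_of_map k (-a) h ?_)
    haveI := subsingleton_HH_twist (n := n) (R := k) (-a + b) 0 (fun hc => by omega) (fun hc => by omega)
    haveI := (DegPullLib.e0 (O' (-a + b))).symm.injective.subsingleton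
    exact eq_zero_conj _ α eb (hom_unit_eq_zero _ (Subsingleton.elim _ _))
  · let β : CohB1.tensorMod (O' (-b)) (O' b) ≅ Coh.structureModule (CohB1.ProjSpace n k) :=
      eb ≪≫ eqToIso (by rw [neg_add_cancel]) ≪≫ e₀
    by_cases hc : (α.inv ≫ (T (O' (-b))).map h ≫ β.hom).app ⊤ (1 : Γ(CohB1.ProjSpace n k, (⊤ : (CohB1.ProjSpace n k).Opens))) = 0
    · exact Or.inl (eq_zero_of_map k (-b) h (eq_zero_conj _ α β (hom_unit_eq_zero _ hc)))
    · exact Or.inr ⟨rfl, isIso_of_map k (-b) h (isIso_conj _ α β (isIso_endUnit _ (isUnit_global k _ hc)))⟩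

theorem lift_twist_biproduct {r : ℕ} (d : Fin r → ℤ) (t : ℤ) (p : ℕ)
    (h : ∀ j, ¬ (p = 0 ∧ 0 ≤ t + -d j) ∧ ¬ (p = n ∧ t + -d j ≤ -((n : ℤ) + 1))) :
    Subsingleton (Coh.HH (CohB1.ProjSpace n k)
      (CohB1.tensorMod (Twist.twistProjSpace n k t) (⨁ fun j => Twist.twistProjSpace n k (-d j))) p) :=
  subsingleton_HH_biproduct (k := k) _ (T (O' t)) p fun j => by
    obtain ⟨e⟩ := PicPnLib.twist_add n k t (-d j)
    exact SerreVanLib.subsingleton_HH_of_iso e p (subsingleton_HH_twist _ p (h j).1 (h j).2)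

theorem isCoh_biproduct {r : ℕ} (d : Fin r → ℤ) :
    Coh.IsCoh (⨁ fun j => Twist.twistProjSpace n k (-d j)) := by
  haveI := isLocallyNoetherian_projSpace (n := n) k
  have h : Coh.IsCoh (∐ fun j : ULift.{u} (Fin r) => Twist.twistProjSpace n k (-d j.down)) :=
    CycK0Lib.isCoh_sigma (locallyFinite_of_finite _) fun j => CurvLib.isCoh_of_isInvertible (PicPnLib.twist_inv n k _)
  exact QCohLib.isCoh_of_iso ((Sigma.whiskerEquiv (g := fun j : Fin r => Twist.twistProjSpace n k (-d j)) Equiv.ulift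
      fun _ => Iso.refl _ :
    (∐ fun j : ULift.{u} (Fin r) => Twist.twistProjSpace n k (-d j.down)) ≅
      ∐ fun j : Fin r => Twist.twistProjSpace n k (-d j)) ≪≫ (biproduct.isoCoproduct _).symm) h

/-- Sections lifting in a regular degree make an epimorphism. -/
theorem epi_of_lift (F : (CohB1.ProjSpace n k).Modules) (hF : Coh.IsCoh F) (m : ℤ) (hm : Curv2.IsMRegular k n F m)
    {B : (CohB1.ProjSpace n k).Modules} (φ : B ⟶ F) (h : Lift k φ m) : Epi φ := by
  haveI : Epi ((T (O' m)).map φ) := by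
    refine Preadditive.epi_of_cancel_zero _ fun q hq => ?_
    have := MiscFlat6.cancel_of_isGloballyGenerated (isGloballyGenerated_of_regular k F hF.1 m hm)
        ((HilbPolyLib.swapIso F (O' m)).hom ≫ q) fun u => by
      obtain ⟨v, hv⟩ := h ((HilbPolyLib.swapIso F (O' m)).hom.app ⊤ u)
      show q.app ⊤ ((HilbPolyLib.swapIso F (O' m)).hom.app ⊤ u) = 0
      rw [← hv]
      exact congrArg (fun f : CohB1.tensorMod (O' m) B ⟶ _ => f.app ⊤ v) hq
    exact (cancel_epi (HilbPolyLib.swapIso F (O' m)).hom).1 (this.trans comp_zero.symm)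
  refine Preadditive.epi_of_cancel_zero _ fun q hq => eq_zero_of_map k m q ?_
  refine (cancel_epi ((T (O' m)).map φ)).1 ?_
  rw [← Functor.map_comp, hq, Functor.map_zero, comp_zero]

/-- Top cohomology is right exact. -/
theorem surjective_top {Q K : (CohB1.ProjSpace n k).Modules} (hK : Coh.IsQCoh K) (hQ : Coh.IsQCoh Q) (ψ : Q ⟶ K)
    [Epi ψ] (t : ℤ) : Function.Surjective (CurvLib.hMap (k := k) ((T (O' t)).map ψ) n) := fun y => by
  let S : ShortComplex (CohB1.ProjSpace n k).Modules := ShortComplex.mk (kernel.ι ψ) ψ (kernel.condition ψ)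
  have hS : (S.map (T (O' t))).ShortExact := HilbPolyLib.shortExact_tensor (PicPnLib.twist_inv n k t)
    (ShortComplex.ShortExact.mk (ShortComplex.exact_kernel ψ))
  haveI := hQ
  haveI := hK
  haveI : Subsingleton (Coh.HH (CohB1.ProjSpace n k) (S.map (T (O' t))).X₁ (n + 1)) :=
    SerreVanLib.subsingleton_HH_of_iso (HilbPolyLib.swapIso (O' t) (kernel ψ)) (n + 1)
      (subsingleton_HH_of_big k (kernel ψ) (QCohLib.isQCoh_kernel ψ) t (n + 1) (Nat.lt_succ_self n))
  exact surjective_of_shortExact (k := k) hS n this y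

/-- In a minimal family no generator is redundant. -/
theorem not_minimal (F : (CohB1.ProjSpace n k).Modules) {r : ℕ} (d : Fin r → ℤ)
    (g : ∀ j, Twist.twistProjSpace n k (-d j) ⟶ F) (hlift : ∀ t, Lift k (biproduct.desc g) t)
    (hmin : ∀ {s : ℕ}, s < r → ¬ ∃ (d : Fin s → ℤ) (g : ∀ j, Twist.twistProjSpace n k (-d j) ⟶ F),
      ∀ t, Lift k (biproduct.desc g) t)
    (l : Fin r) {A : (CohB1.ProjSpace n k).Modules} (u : A ⟶ ⨁ fun j => Twist.twistProjSpace n k (-d j))
    (hu : u ≫ biproduct.desc g = 0) (hiso : IsIso (u ≫ biproduct.π _ l)) : False := by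
  classical
  obtain ⟨s, rfl⟩ : ∃ s, r = s + 1 := ⟨r - 1, by have := l.isLt; omega⟩
  let M := fun j => Twist.twistProjSpace n k (-d j)
  let M' := fun i => M (l.succAbove i)
  refine hmin (Nat.lt_succ_self s) ⟨fun i => d (l.succAbove i), fun i => g (l.succAbove i), fun t => ?_⟩
  let v : M l ⟶ ⨁ M := inv (u ≫ biproduct.π M l) ≫ u
  have hv : v ≫ biproduct.π M l = 𝟙 _ := by simp [v]
  have hvg : v ≫ biproduct.desc g = 0 := (Category.assoc _ _ _).trans ((congrArg _ hu).trans comp_zero)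
  let inc : (⨁ M') ⟶ ⨁ M := biproduct.desc fun i => biproduct.ι M (l.succAbove i)
  let pr : (⨁ M) ⟶ ⨁ M' := biproduct.lift fun i => biproduct.π M (l.succAbove i)
  let ρ : (⨁ M) ⟶ ⨁ M' := (𝟙 _ - biproduct.π M l ≫ v) ≫ pr
  have hinc : pr ≫ inc = 𝟙 _ - biproduct.π M l ≫ biproduct.ι M l := by
    refine biproduct.hom_ext _ _ fun j => ?_
    simp only [pr, inc, biproduct.lift_desc, Preadditive.sum_comp, Category.assoc, Preadditive.sub_comp,
      Category.id_comp]
    rcases Fin.eq_self_or_eq_succAbove l j with hj | ⟨i, hj⟩ <;> rw [hj]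
    · rw [biproduct.ι_π_self, Category.comp_id, sub_self]
      refine Finset.sum_eq_zero fun i _ => ?_
      rw [biproduct.ι_π_ne M (Fin.succAbove_ne l i), comp_zero]
    · rw [biproduct.ι_π_ne M (Fin.succAbove_ne l i).symm, comp_zero, sub_zero, Finset.sum_eq_single i]
      · rw [biproduct.ι_π_self, Category.comp_id]
      · intro i' _ hi'
        rw [biproduct.ι_π_ne M (fun h => hi' (Fin.succAbove_right_injective h)), comp_zero]
      · simp
  have hρ : ρ ≫ inc ≫ biproduct.desc g = biproduct.desc g := by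
    have hone : (𝟙 _ - biproduct.π M l ≫ v) ≫ biproduct.π M l = 0 := by
      rw [Preadditive.sub_comp, Category.id_comp, Category.assoc, hv, Category.comp_id, sub_self]
    simp only [ρ, Category.assoc, reassoc_of% hinc]
    rw [Preadditive.sub_comp (𝟙 _) (biproduct.π M l ≫ biproduct.ι M l), Category.id_comp, Preadditive.comp_sub,
      Category.assoc, reassoc_of% hone, zero_comp, sub_zero, Preadditive.sub_comp, Category.id_comp, Category.assoc,
      hvg, comp_zero, sub_zero]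
  have hdesc : inc ≫ biproduct.desc g = biproduct.desc fun i => g (l.succAbove i) :=
    biproduct.hom_ext' _ _ fun i => by simp [inc, M, M']
  rw [← hdesc]
  refine lift_of_comp k ρ _ t ?_
  rw [hρ]
  exact hlift t

/-- The conditions of the criterion. -/
def Acm (F : (CohB1.ProjSpace n k).Modules) : Prop :=
  (∃ t₀ : ℤ, ∀ t : ℤ, t ≤ t₀ →
    Subsingleton (Coh.HH (CohB1.ProjSpace n k) (CohB1.tensorMod F (Twist.twistProjSpace n k t)) 0)) ∧
  ∀ (t : ℤ) (i : ℕ), 1 ≤ i → i < n →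
    Subsingleton (Coh.HH (CohB1.ProjSpace n k) (CohB1.tensorMod F (Twist.twistProjSpace n k t)) i)

theorem exists_low {r : ℕ} (d : Fin r → ℤ) : ∃ t₀ : ℤ, ∀ t : ℤ, t ≤ t₀ → ∀ j, t + -d j < 0 :=
  ⟨-(∑ j, |d j|) - 1, fun t ht j => by
    have h1 : |d j| ≤ ∑ i, |d i| :=
      Finset.single_le_sum (f := fun i => |d i|) (fun i _ => abs_nonneg (d i)) (Finset.mem_univ j)
    have h2 := neg_le_abs (d j)
    omega⟩

theorem acm_of_sum (hn : 1 ≤ n) {r : ℕ} (d : Fin r → ℤ) (F : (CohB1.ProjSpace n k).Modules)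
    (e : F ≅ ⨁ fun j => Twist.twistProjSpace n k (-d j)) : Acm k F := by
  obtain ⟨t₀, ht₀⟩ := exists_low d
  refine ⟨⟨t₀, fun t ht => ?_⟩, fun t i hi hin => ?_⟩
  · exact SerreVanLib.subsingleton_HH_of_iso (HilbPolyLib.swapIso F _ ≪≫ HilbPolyLib.congrRight _ e) 0
      (lift_twist_biproduct (n := n) k d t 0 fun j => ⟨fun h => by have := ht₀ t ht j; omega, fun h => by omega⟩)
  · exact SerreVanLib.subsingleton_HH_of_iso (HilbPolyLib.swapIso F _ ≪≫ HilbPolyLib.congrRight _ e) i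
      (lift_twist_biproduct (n := n) k d t i fun j => ⟨fun h => by omega, fun h => by omega⟩)

/-- **Horrocks' criterion**: the conditions force a sum of twists. -/
theorem exists_iso_of_acm (hn : 1 ≤ n) (F : (CohB1.ProjSpace n k).Modules) (hF : Coh.IsCoh F) (hA : Acm k F) :
    ∃ (r : ℕ) (d : Fin r → ℤ), Nonempty (F ≅ ⨁ fun j => Twist.twistProjSpace n k (-d j)) := by
  classical
  let X := CohB1.ProjSpace n k
  obtain ⟨m₀, hm₀⟩ := exists_regular k F hF
  have hex : ∃ r : ℕ, ∃ (d : Fin r → ℤ) (g : ∀ j, Twist.twistProjSpace n k (-d j) ⟶ F),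
      ∀ t, Lift k (biproduct.desc g) t := by
    obtain ⟨r, d, g, -, h⟩ := exists_lift_all k F hF m₀ hm₀ hA.1
    exact ⟨r, d, g, h⟩
  obtain ⟨d, g, hlift⟩ := Nat.find_spec hex
  let r := Nat.find hex
  let B : X.Modules := ⨁ fun j => Twist.twistProjSpace n k (-d j)
  let φ : B ⟶ F := biproduct.desc g
  haveI hepi : Epi φ := epi_of_lift k F hF m₀ (hm₀ m₀ le_rfl) φ (hlift m₀)
  haveI : IsLocallyNoetherian (CohB1.ProjSpace n k) := isLocallyNoetherian_projSpace k
  have hB : Coh.IsCoh B := isCoh_biproduct k d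
  let K := kernel φ
  have hK : Coh.IsCoh K := QCohLib.isCoh_kernel φ hB hF.1
  let S : ShortComplex X.Modules := ShortComplex.mk (kernel.ι φ) φ (kernel.condition φ)
  have hS : S.ShortExact := ShortComplex.ShortExact.mk (ShortComplex.exact_kernel φ)
  have hSt : ∀ t, (S.map (T (O' t))).ShortExact := fun t =>
    HilbPolyLib.shortExact_tensor (PicPnLib.twist_inv n k t) hS
  have hlowK : ∃ t₀ : ℤ, ∀ t, t ≤ t₀ → Subsingleton (Coh.HH X (CohB1.tensorMod K (O' t)) 0) := by
    obtain ⟨t₀, ht₀⟩ := exists_low d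
    refine ⟨t₀, fun t ht => ?_⟩
    haveI : Subsingleton (Coh.HH X (S.map (T (O' t))).X₂ 0) :=
      lift_twist_biproduct (n := n) k d t 0 fun j => ⟨fun h => by have := ht₀ t ht j; omega, fun h => by omega⟩
    exact SerreVanLib.subsingleton_HH_of_iso (HilbPolyLib.swapIso K _) 0
      ((CurvLib.injective₀ (k := k) (hSt t)).subsingleton)
  have hinj : ∀ t, Function.Injective (CurvLib.hMap (k := k) (S.map (T (O' t))).f n) := fun t => by
    suffices ∀ q, q + 1 = n → Function.Injective (CurvLib.hMap (k := k) (S.map (T (O' t))).f (q + 1)) by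
      obtain ⟨q, hq⟩ : ∃ q, q + 1 = n := ⟨n - 1, by omega⟩
      exact hq ▸ this q hq
    intro q hq
    refine injective_succ_of_surjective (hSt t) q fun x => ?_
    rcases Nat.eq_zero_or_pos q with rfl | hq0
    · obtain ⟨a, ha⟩ := hlift t (DegPullLib.e0 (S.map (T (O' t))).X₃ x)
      exact ⟨(DegPullLib.e0 (S.map (T (O' t))).X₂).symm a, (DegPullLib.e0 (S.map (T (O' t))).X₃).injective (by
        rw [e0_map, AddEquiv.apply_symm_apply]; exact ha)⟩
    · haveI : Subsingleton (Coh.HH X (S.map (T (O' t))).X₃ q) :=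
        SerreVanLib.subsingleton_HH_of_iso (HilbPolyLib.swapIso _ F) q (hA.2 t q (by omega) (by omega))
      exact ⟨0, Subsingleton.elim _ _⟩
  suffices hK0 : IsZero K by
    haveI : Mono φ := Preadditive.mono_of_kernel_zero (hK0.eq_of_src _ _)
    haveI := isIso_of_mono_of_epi φ
    exact ⟨r, d, ⟨(asIso φ).symm⟩⟩
  by_contra hK0
  obtain ⟨tK, htK⟩ := exists_regular k K hK
  have hexm : ∃ m : ℤ, Curv2.IsMRegular k n K m := ⟨tK, htK tK le_rfl⟩
  have hbdd : ∀ m : ℤ, Curv2.IsMRegular k n K m → hlowK.choose < m := fun m hm => by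
    by_contra hle
    refine hK0 (isZero_of_tensor k m K ((IsZero.iff_id_eq_zero _).2 ?_))
    haveI := hlowK.choose_spec m (not_lt.1 hle)
    haveI := (DegPullLib.e0 (CohB1.tensorMod K (O' m))).symm.injective.subsingleton
    exact MiscFlat6.cancel_of_isGloballyGenerated (isGloballyGenerated_of_regular k K hK.1 m hm) _
      fun u => Subsingleton.elim _ _
  obtain ⟨m, hm, hmin⟩ := Int.exists_least_of_bdd ⟨hlowK.choose, fun z hz => (hbdd z hz).le⟩ hexm
  refine absurd (hmin (m - 1) ?_) (by omega)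
  intro i hi hin
  obtain ⟨s, e, q, he, hq⟩ := exists_lift_all k K hK m (fun t ht => by
    have := regular_ge k K hK.1 m hm (t - m).toNat
    rwa [Int.toNat_of_nonneg (by omega), add_sub_cancel] at this) hlowK
  refine SerreVanLib.subsingleton_HH_of_iso (HilbPolyLib.swapIso K _) i ?_
  rcases Nat.lt_or_ge i n with hi' | hi'
  · obtain ⟨p, rfl⟩ : ∃ p, i = p + 1 := ⟨i - 1, by omega⟩
    have h2 := lift_twist_biproduct (n := n) k d (m - 1 - ((p + 1 : ℕ) : ℤ)) (p + 1) fun j => ⟨fun h => by omega, fun h => by omega⟩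
    rcases Nat.eq_zero_or_pos p with rfl | hp0
    · refine subsingleton_of_forall_eq 0 fun x => (injective_one_iff (k := k) (hSt _)).2 (hlift _) ?_
      exact Subsingleton.elim (h := h2) _ _
    · exact subsingleton_X₁_succ (hSt _) h2
        (SerreVanLib.subsingleton_HH_of_iso (HilbPolyLib.swapIso _ F) p (hA.2 _ p (by omega) (by omega)))
  · obtain rfl : n = i := (le_antisymm hin hi').symm
    let t : ℤ := m - 1 - (n : ℕ)
    let Q : X.Modules := ⨁ fun j => Twist.twistProjSpace n k (-e j)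
    let ψ : Q ⟶ K := biproduct.desc q
    refine subsingleton_of_forall_eq 0 fun y => hinj t (Eq.trans ?_ (map_zero _).symm)
    haveI hψ : Epi ψ := epi_of_lift k K hK m hm ψ (hq m)
    obtain ⟨x, rfl⟩ : ∃ x, CurvLib.hMap (k := k) ((T (O' t)).map ψ) n x = y :=
      surjective_top k hK.1 (isCoh_biproduct k e).1 ψ t y
    refine hMap_comp_eq_zero (k := k) (fun j => Twist.twistProjSpace n k (-e j)) (T (O' t)) n _ _ x fun j z => ?_
    by_cases hej : e j < m
    · obtain ⟨ε⟩ := PicPnLib.twist_add n k t (-e j)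
      haveI : Subsingleton (Coh.HH X ((T (O' t)).obj (Twist.twistProjSpace n k (-e j))) n) :=
        SerreVanLib.subsingleton_HH_of_iso ε n
          (subsingleton_HH_twist _ n (fun h => by omega) (fun h => by simp only [t] at h; omega))
      rw [Subsingleton.elim z 0, map_zero]
    have hje : e j = m := le_antisymm (he j) (not_lt.1 hej)
    let w : Twist.twistProjSpace n k (-e j) ⟶ B := q j ≫ kernel.ι φ
    have hw : (T (O' t)).map (biproduct.ι (fun j => Twist.twistProjSpace n k (-e j)) j) ≫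
        (T (O' t)).map ψ ≫ (S.map (T (O' t))).f = (T (O' t)).map w :=
      ((congrArg (_ ≫ ·) ((T (O' t)).map_comp ψ (kernel.ι φ)).symm).trans
        ((T (O' t)).map_comp _ _).symm).trans (congrArg (T (O' t)).map (biproduct.ι_desc_assoc _ _ _))
    refine (congrArg (fun f => CurvLib.hMap (k := k) f n z) hw).trans ?_
    refine hMap_eq_zero_of_components (k := k) (fun l => Twist.twistProjSpace n k (-d l)) (T (O' t)) n _ z fun l => ?_
    refine (congrArg (fun f => CurvLib.hMap (k := k) f n z) ((T (O' t)).map_comp _ _).symm).trans ?_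
    by_cases hdl : d l < m
    · obtain ⟨ε⟩ := PicPnLib.twist_add n k t (-d l)
      haveI : Subsingleton (Coh.HH X ((T (O' t)).obj (Twist.twistProjSpace n k (-d l))) n) :=
        SerreVanLib.subsingleton_HH_of_iso ε n
          (subsingleton_HH_twist _ n (fun h => by omega) (fun h => by simp only [t] at h; omega))
      exact Subsingleton.elim _ _
    rcases eq_zero_or_isIso k hn (-e j) (-d l) (w ≫ biproduct.π _ l) (by omega) with h0 | ⟨-, hiso⟩
    · rw [h0, Functor.map_zero, hMap_zero]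
    · exact (not_minimal k F d g hlift (Nat.find_min hex) l (u := w)
        ((Category.assoc _ _ _).trans ((congrArg _ (kernel.condition φ)).trans comp_zero)) hiso).elim

end PnCohLib
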