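import Groth.Agent.PnCohLib.Mult

/-!
# Multiplication by forms of any degree on global sections in the regular range
-/

set_option autoImplicit false
universe u

open CategoryTheory CategoryTheory.Limits AlgebraicGeometry MvPolynomial TopologicalSpace Opposite
open GrTildeLib GradedCechLib PnTildeLib

noncomputable section

namespace PnCohLib

section Gen

variable {n : ℕ} {R : Type u} [CommRing R] {N : Type u} [AddCommGroup N] [Module (Poly n R) N] [Module R N]
  [IsScalarTower R (Poly n R) N] (ℳ : ℕ → Submodule R N) [SetLike.GradedSMul (CohB1.polyGrading n R) ℳ]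
  [DirectSum.Decomposition ℳ]

theorem val_globalOf {i : ℕ} (p : CohB1.polyGrading n R i) (x : (⊤ : (Proj (CohB1.polyGrading n R)).Opens)) :
    TwistLib.val (Twist.globalOf (CohB1.polyGrading n R) p) x =
      algebraMap (Poly n R) (Twist.Loc (CohB1.polyGrading n R) x.1) p.1 := by
  refine Eq.trans ?_ (Localization.mk_one_eq_algebraMap _)
  rfl

/-- The products of sections of degree `m` with forms of degree `e`. -/
def prodSet (m : ℤ) (e : ℕ) (q : ℤ) (hq : m + (e : ℤ) = q) :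
    Set Γ(tl (n := n) ℳ q, (⊤ : (CohB1.ProjSpace n R).Opens)) :=
  {z | ∃ (u : Γ(tl (n := n) ℳ m, (⊤ : (CohB1.ProjSpace n R).Opens))) (p : CohB1.polyGrading n R e),
    GrTildeLib.mulSec (ℳ := ℳ) (V := (⊤ : (Proj (CohB1.polyGrading n R)).Opens)) hq u (Twist.globalOf (CohB1.polyGrading n R) p) = z}

theorem mem_closure_mulSec (m : ℤ) (h : CechReg (posGrading (n := n) ℳ) m) :
    ∀ (e : ℕ) (q' : ℤ) (hm : m + (e : ℤ) = q') (σ : Γ(tl (n := n) ℳ q', (⊤ : (CohB1.ProjSpace n R).Opens))), σ ∈ AddSubgroup.closure (prodSet ℳ m e q' hm) := by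
  intro e
  induction e with
  | zero =>
    intro q' hm σ
    obtain rfl : m = q' := by simpa using hm
    refine AddSubgroup.subset_closure ⟨σ, ⟨1, SetLike.GradedOne.one_mem⟩, GrTildeLib.sec_ext fun x => ?_⟩
    exact (GrTildeLib.val_mulSec _ _ _ _).trans
      ((congr_arg₂ (· • ·) ((val_globalOf _ _).trans (map_one _)) rfl).trans (one_smul _ _))
  | succ e ih =>
    intro q' hm σ
    obtain rfl : m + (e : ℤ) + 1 = q' := by rw [← hm]; push_cast; ring
    obtain ⟨u, hu⟩ := exists_sum_mulSec ℳ (m + e) (h.add e) σ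
    rw [hu]
    refine AddSubgroup.sum_mem _ fun a _ => ?_
    let f : Γ(tl (n := n) ℳ (m + e), (⊤ : (CohB1.ProjSpace n R).Opens)) →+
        Γ(tl (n := n) ℳ (m + e + 1), (⊤ : (CohB1.ProjSpace n R).Opens)) :=
      AddMonoidHom.mk' (fun z => GrTildeLib.mulSec (ℳ := ℳ) (V := (⊤ : (Proj (CohB1.polyGrading n R)).Opens))
        (p := m + e) (n := 1) (q := m + e + 1) rfl z (coordSec a)) fun z z' => GrTildeLib.sec_ext fun x => by
          refine (GrTildeLib.val_mulSec _ _ _ _).trans ?_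
          refine Eq.trans ?_ (GrTildeLib.val_add _ _ _).symm
          refine (congr_arg₂ (· • ·) rfl (GrTildeLib.val_add _ _ _)).trans ((smul_add _ _ _).trans ?_)
          exact congr_arg₂ (· + ·) (GrTildeLib.val_mulSec _ _ _ _).symm (GrTildeLib.val_mulSec _ _ _ _).symm
    have hmem : f (u a) ∈ (AddSubgroup.closure (prodSet ℳ m e _ rfl)).map f :=
      AddSubgroup.mem_map_of_mem f (ih _ rfl (u a))
    rw [AddMonoidHom.map_closure] at hmem
    refine AddSubgroup.closure_mono ?_ hmem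
    rintro z ⟨_, ⟨v, p, rfl⟩, rfl⟩
    refine ⟨v, ⟨p.1 * X a, SetLike.mul_mem_graded p.2 (GradedCechLib.X_mem n R a)⟩, GrTildeLib.sec_ext fun x => ?_⟩
    refine (GrTildeLib.val_mulSec _ _ _ _).trans ?_
    refine Eq.trans ?_ (GrTildeLib.val_mulSec (rfl : m + (e : ℤ) + 1 = _) _ (coordSec a) x).symm
    refine Eq.trans ?_ (congr_arg₂ (· • ·) (val_coordSec a _) (GrTildeLib.val_mulSec _ _ _ _)).symm
    refine (congr_arg₂ (· • ·) ((val_globalOf _ _).trans ((congrArg _ (mul_comm _ _)).trans (map_mul _ _ _))) rfl).trans ?_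
    exact (mul_smul _ _ _).trans (congr_arg₂ (· • ·) rfl (congr_arg₂ (· • ·) (val_globalOf _ _).symm rfl))

end Gen

section Field

variable {n : ℕ} (k : Type u) [Field k]

/-- **Multiplication is surjective on global sections in the regular range.** -/
theorem surjective_mult_pow (e : ℕ) (F : (CohB1.ProjSpace n k).Modules) (hF : Coh.IsQCoh F)
    (m : ℤ) (h : Curv2.IsMRegular k n F m)
    (w : Γ(CohB1.tensorMod (CohB1.tensorMod F (Twist.twistProjSpace n k m)) (Twist.twistProjSpace n k (e : ℤ)),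
      (⊤ : (CohB1.ProjSpace n k).Opens))) :
    ∃ s, KFlatLib.shApp (CohB1.tensorMod F (Twist.twistProjSpace n k m)) (Twist.twistProjSpace n k (e : ℤ)) ⊤ s = w := by
  classical
  obtain ⟨M, _, _, _, _, ℳ, _, _, ⟨e₀⟩⟩ := exists_tilde F hF
  have hiso : ∀ t : ℤ, Nonempty (CohB1.tensorMod F (Twist.twistProjSpace n k t) ≅ tl (n := n) ℳ t) := fun t => by
    obtain ⟨e₁⟩ := GrTildeLib.twistBy_iso (𝒜 := CohB1.polyGrading n k) (ℳ := ℳ) (p := 0) (n := t)
      (zero_add t) (PnTildeLib.hcov (n := n) (k := k))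
    exact ⟨(PicGrp.tensorModIso e₀.symm (Iso.refl (Twist.twistProjSpace n k t))).trans e₁⟩
  have hreg : CechReg (posGrading (n := n) ℳ) m := fun i hi hin => by
    obtain ⟨e⟩ := hiso (m - i)
    exact isZero_H_of_subsingleton _ _ i (subsingleton_HH_of_iso e.symm i (h i hi hin))
  obtain ⟨ε⟩ := hiso m
  let A : (Proj (CohB1.polyGrading n k)).Modules := CohB1.tensorMod F (Twist.twistProjSpace n k m)
  let e' : A ≅ GrTilde.tilde (CohB1.polyGrading n k) ℳ m := ε
  let bl : ∀ V : (Proj (CohB1.polyGrading n k)).Opens, Γ(A, V) → Γ(Twist.twist (CohB1.polyGrading n k) (e : ℤ), V) →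
      Γ(GrTilde.tilde (CohB1.polyGrading n k) ℳ (m + e), V) :=
    fun V u g => GrTildeLib.mulSec rfl (e'.hom.app V u) g
  obtain ⟨φ, hφ⟩ := GrTildeLib.exists_tens_hom bl
    (fun V u u' g => GrTildeLib.sec_ext fun x => by simp only [bl, map_add, val_mulSec, val_add, smul_add])
    (fun V u g g' => GrTildeLib.sec_ext fun x => by simp only [bl, val_mulSec, val_add, twistVal_add, add_smul])
    (fun V r u g => GrTildeLib.sec_ext fun x => by
      simp only [bl, Scheme.Modules.Hom.app_smul, val_mulSec, val_smul]; exact smul_comm _ _ _)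
    (fun V r u g => GrTildeLib.sec_ext fun x => by simp only [bl, val_mulSec, val_smul, TwistLib.val_smul, mul_smul])
    (fun V W hVW u g => GrTildeLib.sec_ext fun x => by
      simp only [bl, AmpleLib.res]
      rw [QCohLib.app_map e'.hom (homOfLE hVW) u]
      rfl)
  haveI : IsIso φ := GrTildeLib.isIso_of_bilin φ fun x => by
    obtain ⟨g, hg, hgx⟩ := PnTildeLib.hcov (n := n) (k := k) x
    refine ⟨Proj.basicOpen _ g, hgx, (unitPow hg (e : ℤ)).sec, (unitPow hg (e : ℤ)).genOn.genAt hgx, fun V hV => ?_⟩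
    simp only [hφ, bl]
    exact (mulSec_gen_bijective rfl _ V hV).comp ((ConcreteCategory.isIso_iff_bijective (e'.hom.app V)).1 inferInstance)
  have hb := (ConcreteCategory.isIso_iff_bijective (φ.app (⊤ : (Proj (CohB1.polyGrading n k)).Opens))).1 inferInstance
  refine AddSubgroup.closure_induction (p := fun z _ => ∀ w, φ.app ⊤ w = z → ∃ s,
      KFlatLib.shApp A (Twist.twist (CohB1.polyGrading n k) (e : ℤ)) ⊤ s = w) (fun z hz w hw => ?_)
    (fun w hw => ⟨0, (map_zero _).trans (hb.1 (hw.trans (map_zero _).symm)).symm⟩)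
    (fun z z' _ _ hz hz' w hw => ?_) (fun z _ hz w hw => ?_)
    (mem_closure_mulSec ℳ m hreg e (m + e) rfl (φ.app ⊤ w)) w rfl
  · obtain ⟨u, p, rfl⟩ := hz
    obtain ⟨u', hu'⟩ := ((ConcreteCategory.isIso_iff_bijective (e'.hom.app (⊤ : (Proj (CohB1.polyGrading n k)).Opens))).1
      inferInstance).2 u
    refine ⟨KFlatLib.tm (DCoh.toP.obj A : KFlatLib.PM (Proj (CohB1.polyGrading n k)).presheaf)
      (DCoh.toP.obj (Twist.twist (CohB1.polyGrading n k) (e : ℤ)) : KFlatLib.PM (Proj (CohB1.polyGrading n k)).presheaf)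
      u' (Twist.globalOf (CohB1.polyGrading n k) p), hb.1 ?_⟩
    refine ((hφ ⊤ u' (Twist.globalOf (CohB1.polyGrading n k) p)).trans ?_).trans hw.symm
    simp only [bl, hu']
  · obtain ⟨w₁, rfl⟩ := hb.2 z
    obtain ⟨w₂, rfl⟩ := hb.2 z'
    obtain ⟨s₁, h₁⟩ := hz w₁ rfl
    obtain ⟨s₂, h₂⟩ := hz' w₂ rfl
    exact ⟨s₁ + s₂, (map_add _ _ _).trans ((congr_arg₂ (· + ·) h₁ h₂).trans (hb.1 ((map_add _ _ _).trans hw.symm)))⟩
  · obtain ⟨w₁, rfl⟩ := hb.2 z
    obtain ⟨s₁, h₁⟩ := hz w₁ rfl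
    exact ⟨-s₁, (map_neg _ _).trans ((congrArg (- ·) h₁).trans (hb.1 ((map_neg _ _).trans hw.symm)))⟩

end Field

end PnCohLib
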