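import Groth.Agent.MiscFlat6.TensorExtend
import Groth.Agent.KFlatLib.PushTensor
import Groth.Agent.StabLib.Simple
import Groth.Agent.HilbPolyLib.Twist
import Mathlib.RingTheory.Flat.EquationalCriterion

/-!
# Flatness of the sections on a locus from flatness of the global sections of twists
-/

set_option autoImplicit false
universe u

open CategoryTheory CategoryTheory.Limits AlgebraicGeometry TopologicalSpace Opposite
open AmpleLib AmpleThLib MiscFlat6 TwistLib

noncomputable section

namespace PnCohLib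

variable {X : Scheme.{u}}

theorem shT_add_left {M N : X.Modules} {W : X.Opens} (a b : Γ(M, W)) (g : Γ(N, W)) :
    shT (a + b) g = shT a g + shT b g :=
  (congrArg (KFlatLib.shApp M N W) (TensorProduct.add_tmul (R := Γ(X, W)) a b g)).trans (map_add _ _ _)

theorem shT_smul_left {M N : X.Modules} {W : X.Opens} (r : Γ(X, W)) (a : Γ(M, W)) (g : Γ(N, W)) :
    shT (r • a) g = r • shT a g := by
  have h := AmpleLib.shT_smul (M := M) (N := N) r 1 a g
  rwa [one_smul, mul_one] at h

/-- Tensoring with a generator, as a linear map. -/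
def shTLin {M N : X.Modules} {W : X.Opens} (g : Γ(N, W)) : Γ(M, W) →ₗ[Γ(X, W)] Γ(CohB1.tensorMod M N, W) where
  toFun a := shT a g
  map_add' a b := shT_add_left a b g
  map_smul' r a := shT_smul_left r a g

theorem shT_right_injective {M N : X.Modules} {W : X.Opens} {g : Γ(N, W)} (hg : GenOn N g) :
    Function.Injective fun a : Γ(M, W) => shT a g := by
  refine (injective_iff_map_eq_zero (shTLin (M := M) g)).2 fun a ha => ?_
  refine TopCat.Presheaf.section_ext (⟨M.presheaf, M.isSheaf⟩ : TopCat.Sheaf AddCommGrpCat X.toTopCat) W a 0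
    fun x hx => ?_
  let R := X.presheaf.stalk x
  let eN : R ≃ₗ[R] N.presheaf.stalk x :=
    LinearEquiv.ofBijective (LinearMap.toSpanSingleton R _ (N.presheaf.germ W x hx g)) (hg.genAt hx)
  have h1 : KFlatLib.stalkTensorLin M N x
      (M.presheaf.germ W x hx a ⊗ₜ N.presheaf.germ W x hx g) = 0 := by
    rw [KFlatLib.stalkTensorLin_germ]
    show (CohB1.tensorMod M N).presheaf.germ W x hx (shT a g) = 0
    rw [show shT a g = 0 from ha, map_zero]
  have h2 := (KFlatLib.stalkTensorLin_bijective M N x).1 (h1.trans (map_zero _).symm)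
  have h3 := congrArg (fun z => TensorProduct.rid R (M.presheaf.stalk x)
    (TensorProduct.congr (LinearEquiv.refl R _) eN.symm z)) h2
  have h4 : eN.symm (N.presheaf.germ W x hx g) = 1 := by
    rw [LinearEquiv.symm_apply_eq]
    exact (one_smul R (N.presheaf.germ W x hx g)).symm
  have h5 : TensorProduct.rid R (M.presheaf.stalk x) (TensorProduct.congr (LinearEquiv.refl R _) eN.symm
      (M.presheaf.germ W x hx a ⊗ₜ N.presheaf.germ W x hx g)) = M.presheaf.germ W x hx a := by
    rw [TensorProduct.congr_tmul, TensorProduct.rid_tmul, h4, one_smul]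
    rfl
  refine h5.symm.trans (h3.trans ?_)
  simp only [map_zero]

/-- Tensoring a map with a module on the right. -/
def whisk {A B : X.Modules} (π : A ⟶ B) (Q : X.Modules) : CohB1.tensorMod A Q ⟶ CohB1.tensorMod B Q :=
  ((DCoh.tensorBi (X := X)).flip.obj Q).map π

theorem whisk_shT {A B : X.Modules} (π : A ⟶ B) (Q : X.Modules) {W : X.Opens} (a : Γ(A, W)) (g : Γ(Q, W)) :
    (whisk π Q).app W (shT a g) = shT (π.app W a) g := by
  have h := KFlatLib.tensorBi_map_shApp π (𝟙 Q) W a g
  rw [CategoryTheory.Functor.map_id, Category.comp_id] at h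
  exact h

theorem whisk_smulHom (M Q : X.Modules) (c : Coh.Γtop X) :
    whisk (StabLib.smulHom M c) Q = StabLib.smulHom (CohB1.tensorMod M Q) c := by
  refine KFlatLib.tens_hom_ext fun U m n => ?_
  show (whisk (StabLib.smulHom M c) Q).app U (shT m n) = (StabLib.smulHom (CohB1.tensorMod M Q) c).app U (shT m n)
  rw [whisk_shT, StabLib.smulHom_app, StabLib.smulHom_app, shT_smul_left]

variable {A : Type u} [CommRing A] (φ : A →+* Γ(X, (⊤ : X.Opens)))

/-- The action of the base on sections over an open. -/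
abbrev modA (M : X.Modules) (T : X.Opens) : Module A Γ(M, T) :=
  Module.compHom _ ((X.presheaf.map (homOfLE (le_top : T ≤ ⊤)).op).hom.comp φ)

theorem modA_smul (M : X.Modules) (T : X.Opens) (a : A) (m : Γ(M, T)) :
    (letI := modA φ M T; a • m) = X.presheaf.map (homOfLE (le_top : T ≤ ⊤)).op (φ a) • m := rfl

/-- **Flatness on a locus from flatness of the global sections of high twists.** -/
theorem flat_sections_genSet [CompactSpace X] [QuasiSeparatedSpace X] {P : X.Modules} (hP : PicF.IsInvertible P)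
    (M : X.Modules) [Coh.IsQCoh M] (t : Γ(P, (⊤ : X.Opens)))
    (h : ∃ N₀ : ℕ, ∀ N, N₀ ≤ N →
      letI := modA φ (CohB1.tensorMod M (CohB1.tensorPow P N)) ⊤
      Module.Flat A Γ(CohB1.tensorMod M (CohB1.tensorPow P N), (⊤ : X.Opens))) :
    letI := modA φ M (genSet hP t)
    Module.Flat A Γ(M, genSet hP t) := by
  let T := genSet hP t
  letI := modA φ M (genSet hP t)
  refine Module.Flat.of_forall_isTrivialRelation fun {l a m} hrel => ?_
  let F' : X.Modules := ⨁ fun _ : Fin l => M
  let s : F' ⟶ M := biproduct.desc fun i => StabLib.smulHom M (φ (a i))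
  haveI hqF : Coh.IsQCoh F' := by
    haveI : Coh.IsQCoh (∐ fun _ : ULift.{u} (Fin l) => M) := QCohLib.isQCoh_sigma _ fun _ => inferInstance
    exact QCohLib.isQCoh_of_iso ((Sigma.whiskerEquiv Equiv.ulift fun _ => Iso.refl M :
      (∐ fun _ : ULift.{u} (Fin l) => M) ≅ ∐ fun _ : Fin l => M) ≪≫ (biproduct.isoCoproduct fun _ : Fin l => M).symm)
  haveI : Coh.IsQCoh (kernel s) := QCohLib.isQCoh_kernel s
  let mt : Γ(F', T) := ∑ i, (biproduct.ι (fun _ : Fin l => M) i).app T (m i)
  have hπ : ∀ j, (biproduct.π (fun _ : Fin l => M) j).app T mt = m j := fun j => by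
    rw [map_sum, Finset.sum_eq_single j]
    · exact congrArg (fun f : M ⟶ M => f.app T (m j)) (biproduct.ι_π_self (fun _ : Fin l => M) j)
    · intro i _ hij
      exact congrArg (fun f : M ⟶ M => f.app T (m i)) (biproduct.ι_π_ne (fun _ : Fin l => M) hij)
    · simp
  have hs : s.app T mt = 0 := by
    rw [map_sum]
    refine Eq.trans (Finset.sum_congr rfl fun i _ => ?_) hrel
    exact (congrArg (fun f : M ⟶ M => f.app T (m i))
      (biproduct.ι_desc (fun i => StabLib.smulHom M (φ (a i))) i)).trans (StabLib.smulHom_app M _ T (m i))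
  obtain ⟨y, hy⟩ := QCohLib.exists_of_app_eq_zero (S := ShortComplex.mk (kernel.ι s) s (kernel.condition s))
    (ShortComplex.exact_kernel s) inferInstance mt hs
  obtain ⟨N₁, hN₁⟩ := exists_extend_tensor hP (kernel s) t y
  obtain ⟨N₀, hN₀⟩ := h
  let N := max N₀ N₁
  obtain ⟨u, hu⟩ := hN₁ N (le_max_right _ _)
  let Q := CohB1.tensorPow P N
  let g : Γ(Q, T) := res Q le_top (pS t N)
  have hg : GenOn Q g := by
    show GenOn _ (res _ le_top (pS t N))
    rw [pS_res]
    exact pS_genOn (TwistLib.genSet_genOn hP t) N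
  let π : Fin l → (kernel s ⟶ M) := fun j => kernel.ι s ≫ biproduct.π (fun _ : Fin l => M) j
  let v : Fin l → Γ(CohB1.tensorMod M Q, (⊤ : X.Opens)) := fun j => (whisk (π j) Q).app ⊤ u
  letI := modA φ (CohB1.tensorMod M Q) ⊤
  haveI : Module.Flat A Γ(CohB1.tensorMod M Q, (⊤ : X.Opens)) := hN₀ N (le_max_left _ _)
  have hsum : ∑ j, π j ≫ StabLib.smulHom M (φ (a j)) = 0 := by
    simp only [π, Category.assoc, ← Preadditive.comp_sum]
    have : (∑ j, biproduct.π (fun _ : Fin l => M) j ≫ StabLib.smulHom M (φ (a j))) = s :=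
      (biproduct.desc_eq ..).symm
    rw [this, kernel.condition]
  have hv : ∑ j, a j • v j = 0 := by
    have h1 : ∀ j, a j • v j = (whisk (π j ≫ StabLib.smulHom M (φ (a j))) Q).app ⊤ u := fun j => by
      show _ = (((DCoh.tensorBi (X := X)).flip.obj Q).map (π j ≫ _)).app ⊤ u
      rw [Functor.map_comp]
      refine Eq.trans ?_ (congrArg (fun f : CohB1.tensorMod M Q ⟶ CohB1.tensorMod M Q => f.app ⊤ (v j))
        (whisk_smulHom M Q (φ (a j)))).symm
      exact (StabLib.smulHom_app _ (φ (a j)) ⊤ (v j)).symm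
    let ev : (CohB1.tensorMod (kernel s) Q ⟶ CohB1.tensorMod M Q) →+ Γ(CohB1.tensorMod M Q, (⊤ : X.Opens)) :=
      AddMonoidHom.mk' (fun f => f.app ⊤ u) fun f f' => rfl
    haveI : ((DCoh.tensorBi (X := X)).flip.obj Q).Additive := inferInstance
    calc ∑ j, a j • v j = ∑ j, ev (whisk (π j ≫ StabLib.smulHom M (φ (a j))) Q) := Finset.sum_congr rfl fun j _ => h1 j
      _ = ev (whisk (∑ j, π j ≫ StabLib.smulHom M (φ (a j))) Q) := by
        rw [← map_sum]; exact congrArg ev (Functor.map_sum _ _ _).symm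
      _ = 0 := by rw [hsum]; exact congrArg ev (Functor.map_zero ((DCoh.tensorBi (X := X)).flip.obj Q) _ _)
  obtain ⟨d, b, w, hvw, hb⟩ := Module.Flat.isTrivialRelation_of_sum_smul_eq_zero hv
  choose z hz using fun j => shT_right_surjective M hg (res _ (le_top : T ≤ ⊤) (w j))
  refine ⟨d, b, z, fun i => shT_right_injective (M := M) hg ?_, hb⟩
  have h2 : res (CohB1.tensorMod M Q) (le_top : T ≤ ⊤) (v i) = shT (m i) g := by
    show (CohB1.tensorMod M Q).presheaf.map (homOfLE (le_top : T ≤ ⊤)).op ((whisk (π i) Q).app ⊤ u) = _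
    rw [← QCohLib.app_map]
    refine (congrArg ((whisk (π i) Q).app T) hu).trans ((whisk_shT (π i) Q y g).trans ?_)
    exact congrArg (fun z => shT z g)
      ((congrArg ((biproduct.π (fun _ : Fin l => M) i).app T) hy).trans (hπ i))
  refine h2.symm.trans ?_
  rw [hvw i]
  refine (map_sum ((CohB1.tensorMod M Q).presheaf.map (homOfLE (le_top : T ≤ ⊤)).op).hom _ _).trans ?_
  refine Eq.trans (Finset.sum_congr rfl fun j _ => ?_) (map_sum (shTLin (M := M) g) (fun j => b i j • z j) _).symm
  show res (CohB1.tensorMod M Q) (le_top : T ≤ ⊤) (b i j • w j) = shT (b i j • z j) g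
  rw [modA_smul, modA_smul, shT_smul_left, hz, res_smul]
  refine congrArg (fun r : Γ(X, T) => r • _) ?_
  rw [← CommRingCat.comp_apply, ← Functor.map_comp]
  rfl

end PnCohLib
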