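import Groth.Agent.PnCohLib.Syz
import Groth.Agent.KHeartLib.Classes
import Groth.Agent.DegPullLib.H0

/-!
# The Grothendieck group of coherent sheaves on projective space
-/

set_option autoImplicit false
universe u

open CategoryTheory CategoryTheory.Limits AlgebraicGeometry TopologicalSpace Opposite
open Groth.Agent.KHeartLib ZeroObject

noncomputable section

namespace PnCohLib

section Gen

variable {X : Scheme.{u}}

theorem exists_free_seq (L : X.Modules) (hL : PicF.IsInvertible L) (b : ℕ) :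
    ∃ (f : L ⟶ CohB1.tensorMod L (FlatMod.freeMod X (b + 1)))
      (g : CohB1.tensorMod L (FlatMod.freeMod X (b + 1)) ⟶ CohB1.tensorMod L (FlatMod.freeMod X b))
      (w : f ≫ g = 0), (ShortComplex.mk f g w).ShortExact := by
  let S : ShortComplex X.Modules := ShortComplex.mk
    ((biprod.inl : Coh.structureModule X ⟶ _ ⊞ FlatMod.freeMod X b) ≫ (CurvLib.freeModSucc X b).inv)
    ((CurvLib.freeModSucc X b).hom ≫ biprod.snd) (by simp)
  have hS : S.ShortExact := ShortComplex.Splitting.shortExact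
    { r := (CurvLib.freeModSucc X b).hom ≫ biprod.fst
      s := biprod.inr ≫ (CurvLib.freeModSucc X b).inv
      f_r := by simp [S]
      s_g := by simp [S]
      id := by
        dsimp [S]
        rw [Category.assoc, Category.assoc, ← Preadditive.comp_add, ← Category.assoc biprod.fst,
          ← Category.assoc biprod.snd, ← Preadditive.add_comp, biprod.total]
        simp }
  let U := S.map (CurvLib.tensorLeft' L)
  have hU : U.ShortExact := HilbPolyLib.shortExact_tensor hL hS
  let e : U.X₁ ≅ L := PicPnLib.unitRight L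
  have w : (e.inv ≫ U.f) ≫ U.g = 0 := (Category.assoc _ _ _).trans ((congrArg (e.inv ≫ ·) U.zero).trans comp_zero)
  exact ⟨e.inv ≫ U.f, U.g, w, ShortComplex.shortExact_of_iso
    (ShortComplex.isoMk (S₂ := ShortComplex.mk (e.inv ≫ U.f) U.g w) e (Iso.refl _) (Iso.refl _)
      (by show e.hom ≫ e.inv ≫ U.f = U.f ≫ 𝟙 _; rw [Iso.hom_inv_id_assoc, Category.comp_id])
      (by show 𝟙 _ ≫ U.g = U.g ≫ 𝟙 _; rw [Category.id_comp, Category.comp_id])) hU⟩

theorem finrank_structure {k : Type u} [Field k] [X.Over (Spec (CommRingCat.of k))]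
    (hb : Function.Bijective (Coh.toGlobal (X ↘ Spec (CommRingCat.of k)))) :
    Module.finrank k (Coh.HH X (Coh.structureModule X) 0) = 1 := by
  let t : k →+* Γ(X, (⊤ : X.Opens)) := Coh.toGlobal (X ↘ Spec (CommRingCat.of k))
  let E := DegPullLib.e0 (Coh.structureModule X)
  let a : k ≃+ Coh.HH X (Coh.structureModule X) 0 :=
    (RingEquiv.ofBijective t hb).toAddEquiv.trans (E.symm : Γ(X, (⊤ : X.Opens)) ≃+ Coh.HH X (Coh.structureModule X) 0)
  have ha : ∀ r, E (a r) = t r := fun r => E.apply_symm_apply _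
  have e : k ≃ₗ[k] Coh.HH X (Coh.structureModule X) 0 :=
    { a with
      map_smul' := fun r x => E.injective (by
        show E (a (r • x)) = E (HSMul.hSMul (α := Coh.Γtop X) (Coh.toGlobal (X ↘ Spec (CommRingCat.of k)) r) (a x))
        refine Eq.trans ?_ (DegPullLib.e0_smul (Coh.structureModule X) _ (a x)).symm
        refine (ha (r • x)).trans ?_
        refine (map_mul t r x).trans ?_
        exact congrArg (fun z : Γ(X, (⊤ : X.Opens)) => t r * z) (ha x).symm) }
  rw [← e.finrank_eq, Module.finrank_self]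

end Gen

variable {n : ℕ} (k : Type u) [Field k]

local notation "O'" => Twist.twistProjSpace n k

/-- Coherence on projective space as a property of objects. -/
abbrev cohP : ObjectProperty (CohB1.ProjSpace n k).Modules := fun M => Coh.IsCoh M

/-- The class of a module. -/
abbrev cl (M : (CohB1.ProjSpace n k).Modules) : KZero.K0sub (cohP (n := n) k) := KZero.clSub (cohP (n := n) k) M

instance : (cohP (n := n) k).IsClosedUnderIsomorphisms := ⟨fun e h => QCohLib.isCoh_of_iso e h⟩

instance : (cohP (n := n) k).ContainsZero :=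
  ⟨⟨0, isZero_zero _, DevissLib.isCoh_of_isZero (isZero_zero _)⟩⟩

theorem isCoh_twist (t : ℤ) : Coh.IsCoh (Twist.twistProjSpace n k t) :=
  CurvLib.isCoh_of_isInvertible (PicPnLib.twist_inv n k t)

theorem isCoh_twist_tensor (t : ℤ) {M : (CohB1.ProjSpace n k).Modules} (hM : Coh.IsCoh M) :
    Coh.IsCoh (CohB1.tensorMod (Twist.twistProjSpace n k t) M) :=
  HilbPolyLib.isCoh_tensor (PicPnLib.twist_inv n k t) hM

theorem cl_congr {M N : (CohB1.ProjSpace n k).Modules} (e : M ≅ N) : cl k M = cl k N := clSub_congr _ e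

theorem cl_sigma (t : ℤ) : ∀ b : ℕ, cl k (∐ fun _ : Fin b => Twist.twistProjSpace n k t) = b • cl k (O' t)
  | 0 => by
    rw [zero_smul]
    exact clSub_eq_zero _ (isCoh_sigma k t 0) ((IsZero.iff_id_eq_zero _).2 (Sigma.hom_ext _ _ fun i => i.elim0))
  | b + 1 => by
    obtain ⟨f, g, w, hS⟩ := exists_free_seq (O' t) (PicPnLib.twist_inv n k t) b
    obtain ⟨e⟩ := exists_sigma_iso (n := n) (R := k) (O' t) (b + 1)
    obtain ⟨e'⟩ := exists_sigma_iso (n := n) (R := k) (O' t) b
    rw [cl_congr k e]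
    refine (clSub_add _ _ hS (isCoh_twist k t) (isCoh_tensor_free (PicPnLib.twist_inv n k t) _)
      (isCoh_tensor_free (PicPnLib.twist_inv n k t) _)).trans ?_
    show cl k (O' t) + cl k (CohB1.tensorMod (O' t) (FlatMod.freeMod (CohB1.ProjSpace n k) b)) = _
    rw [← cl_congr k e', cl_sigma t b, succ_nsmul']

theorem stage_mem [IsLocallyNoetherian (CohB1.ProjSpace n k)] : ∀ (e j : ℕ) (s : Stage (n := n) k j), n + 1 ≤ j + e →
    cl k s.K ∈ Submodule.span ℤ {x | ∃ i : ℕ, i + j ≤ n ∧ cl k (O' (-(s.m + i))) = x}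
  | 0, j, s, h => by
    rw [show cl k s.K = 0 from clSub_eq_zero _ s.coh (isZero_of_low k _ s.coh _ j (by omega) s.low)]
    exact zero_mem _
  | e + 1, j, s, h => by
    by_cases hj : n < j
    · rw [show cl k s.K = 0 from clSub_eq_zero _ s.coh (isZero_of_low k _ s.coh _ j hj s.low)]
      exact zero_mem _
    obtain ⟨b, φ, t, hφ, htm, ⟨et⟩, -⟩ := exists_next k s
    let S : ShortComplex (CohB1.ProjSpace n k).Modules := ShortComplex.mk (kernel.ι φ) φ (kernel.condition φ)
    have hS : S.ShortExact := ShortComplex.ShortExact.mk (ShortComplex.exact_kernel φ)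
    have h1 : cl k (∐ fun _ : Fin b => Twist.twistProjSpace n k (-s.m)) = cl k (kernel φ) + cl k s.K :=
      clSub_add _ S hS (QCohLib.isCoh_of_iso et t.coh) (isCoh_sigma k _ b) s.coh
    rw [cl_sigma, ← cl_congr k et] at h1
    rw [show cl k s.K = b • cl k (O' (-s.m)) - cl k t.K by rw [h1]; abel]
    have hg : cl k (O' (-s.m)) ∈ {x | ∃ i : ℕ, i + j ≤ n ∧ cl k (O' (-(s.m + i))) = x} := ⟨0, by omega, by simp⟩
    refine sub_mem (nsmul_mem (Submodule.subset_span hg) b) ?_
    refine Submodule.span_mono ?_ (stage_mem e (j + 1) t (by omega))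
    rintro x ⟨i, hi, rfl⟩
    exact ⟨i + 1, by omega, by rw [htm, show s.m + ((i + 1 : ℕ) : ℤ) = s.m + 1 + i by push_cast; ring]⟩

/-- The family of twists in a window. -/
abbrev win (c : ℤ) : Fin (n + 1) → KZero.K0sub (cohP (n := n) k) := fun i => cl k (O' (c - (i : ℕ)))

theorem mem_window (F : (CohB1.ProjSpace n k).Modules) (hF : Coh.IsCoh F) (m : ℤ) (h : Curv2.IsMRegular k n F m) :
    cl k F ∈ Submodule.span ℤ (Set.range (win (n := n) k (-m))) := by
  haveI := isLocallyNoetherian_projSpace (n := n) k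
  refine Submodule.span_mono ?_ (stage_mem k (n + 1) 0 ⟨F, m, hF, h, low_zero k F m⟩ (by omega))
  rintro x ⟨i, hi, rfl⟩
  exact ⟨⟨i, by omega⟩, by simp only [win]; congr 2; ring⟩

theorem exists_twistHom (e : ℤ) : ∃ τ : KZero.K0sub (cohP (n := n) k) →+ KZero.K0sub (cohP (n := n) k),
    ∀ M, Coh.IsCoh M → τ (cl k M) = cl k (CohB1.tensorMod (O' e) M) :=
  exists_lift_sub _ _ fun S hS h₁ h₂ h₃ =>
    clSub_add _ (S.map (CurvLib.tensorLeft' (O' e))) (HilbPolyLib.shortExact_tensor (PicPnLib.twist_inv n k e) hS)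
      (isCoh_twist_tensor k e h₁) (isCoh_twist_tensor k e h₂) (isCoh_twist_tensor k e h₃)

theorem euler_structure : Curv2.euler k (CohB1.ProjSpace n k) (Coh.structureModule (CohB1.ProjSpace n k)) = 1 := by
  let X := CohB1.ProjSpace n k
  obtain ⟨e₀⟩ := PicPnLib.twist_zero n k
  rw [CurvLib.euler_eq_finrank fun p hp => SerreVanLib.subsingleton_HH_of_iso e₀.symm p
    (subsingleton_HH_twist 0 p (fun h => by omega) (fun h => by omega))]
  exact_mod_cast finrank_structure (X := X) (k := k) GradedCechLib.toTop_bijective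

theorem euler_twist_zero (d : ℤ) (h₁ : -(n : ℤ) ≤ d) (h₂ : d < 0) :
    Curv2.euler k (CohB1.ProjSpace n k) (O' d) = 0 := by
  rw [CurvLib.euler_eq_sum (d := 0) fun p _ => subsingleton_HH_twist d p (fun h => by omega) (fun h => by omega)]
  simp

theorem exists_eulerHom (t : ℤ) : ∃ χ : KZero.K0sub (cohP (n := n) k) →+ ℤ,
    ∀ d : ℤ, χ (cl k (O' d)) = Curv2.euler k (CohB1.ProjSpace n k) (O' (t + d)) := by
  obtain ⟨χ, hχ⟩ := exists_lift_sub (cohP (n := n) k)
    (fun M => Curv2.euler k (CohB1.ProjSpace n k) (CohB1.tensorMod (O' t) M)) fun S hS h₁ h₂ h₃ => by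
      have hbig : ∀ {M : (CohB1.ProjSpace n k).Modules}, Coh.IsCoh M → ∀ p, n + 1 ≤ p →
          Subsingleton (Coh.HH (CohB1.ProjSpace n k) (CohB1.tensorMod (O' t) M) p) := fun hM p hp =>
        SerreVanLib.subsingleton_HH_of_iso (HilbPolyLib.swapIso _ _) p (subsingleton_HH_of_big k _ hM.1 t p (by omega))
      haveI hfin : ∀ {M : (CohB1.ProjSpace n k).Modules}, Coh.IsCoh M → ∀ p,
          Module.Finite k (Coh.HH (CohB1.ProjSpace n k) (CohB1.tensorMod (O' t) M) p) := fun hM p =>
        GradedCechLib.finite_HH _ (isCoh_twist_tensor k t hM) p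
      let U := S.map (CurvLib.tensorLeft' (O' t))
      haveI : ∀ i, Module.Finite k (Coh.HH (CohB1.ProjSpace n k) U.X₁ i) := hfin h₁
      haveI : ∀ i, Module.Finite k (Coh.HH (CohB1.ProjSpace n k) U.X₂ i) := hfin h₂
      haveI : ∀ i, Module.Finite k (Coh.HH (CohB1.ProjSpace n k) U.X₃ i) := hfin h₃
      exact CurvLib.euler_add (S := U) (HilbPolyLib.shortExact_tensor (PicPnLib.twist_inv n k t) hS)
        (hbig h₁) (hbig h₂) (hbig h₃)
  refine ⟨χ, fun d => (hχ _ (isCoh_twist k d)).trans ?_⟩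
  obtain ⟨e⟩ := PicPnLib.twist_add n k t d
  exact CurvLib.euler_congr e

theorem injective_window : Function.Injective (fun a : Fin (n + 1) → ℤ => ∑ i, a i • win (n := n) k 0 i) := by
  have h0 : ∀ a : Fin (n + 1) → ℤ, ∑ i, a i • win (n := n) k 0 i = 0 → a = 0 := fun a ha => by
    funext i
    induction i using WellFoundedLT.induction with
    | _ i ih =>
      obtain ⟨χ, hχ⟩ := exists_eulerHom (n := n) k (i : ℕ)
      have h := congrArg χ ha
      rw [map_zero, map_sum, Finset.sum_eq_single i] at h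
      · rw [map_zsmul, hχ, show ((i : ℕ) : ℤ) + (0 - (i : ℕ)) = 0 by ring] at h
        obtain ⟨e₀⟩ := PicPnLib.twist_zero n k
        rw [CurvLib.euler_congr e₀, euler_structure, smul_eq_mul, mul_one] at h
        exact h
      · intro l _ hl
        rw [map_zsmul, hχ]
        rcases lt_or_gt_of_ne hl with hlt | hgt
        · rw [ih l hlt]; simp
        · rw [euler_twist_zero k _ (by have := l.isLt; omega) (by have : (i : ℕ) < (l : ℕ) := hgt; omega), smul_zero]
      · simp
  intro a a' h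
  refine sub_eq_zero.1 (h0 (a - a') ?_)
  simp only [Pi.sub_apply, sub_smul, Finset.sum_sub_distrib]
  exact sub_eq_zero.2 h

theorem exists_relation : ∃ a : Fin (n + 1) → ℤ, IsUnit (a (Fin.last n)) ∧
    ∀ e : ℤ, cl k (O' e) = ∑ i, a i • cl k (O' (e - 1 - (i : ℕ))) := by
  obtain ⟨e₀⟩ := PicPnLib.twist_zero n k
  have hreg : Curv2.IsMRegular k n (O' 0) 1 := fun i hi hin => by
    obtain ⟨e⟩ := PicPnLib.twist_add n k 0 (1 - i)
    exact SerreVanLib.subsingleton_HH_of_iso e i (subsingleton_HH_twist _ _ (fun h => by omega) (fun h => by omega))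
  obtain ⟨a, ha⟩ := (Submodule.mem_span_range_iff_exists_fun ℤ).1 (mem_window k _ (isCoh_twist k 0) 1 hreg)
  refine ⟨a, ?_, fun e => ?_⟩
  · obtain ⟨χ, hχ⟩ := exists_eulerHom (n := n) k 0
    have h := congrArg χ ha
    rw [hχ, map_sum, CurvLib.euler_congr ((eqToIso (by rw [zero_add])) ≪≫ e₀), euler_structure,
      Finset.sum_eq_single (Fin.last n)] at h
    · rw [map_zsmul, smul_eq_mul] at h
      exact IsUnit.of_mul_eq_one _ h
    · intro l _ hl
      rw [map_zsmul, hχ]
      have : (l : ℕ) < n := Fin.val_lt_last hl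
      rw [euler_twist_zero k _ (by omega) (by omega), smul_zero]
    · simp
  · obtain ⟨τ, hτ⟩ := exists_twistHom (n := n) k e
    have htw : ∀ d : ℤ, τ (cl k (O' d)) = cl k (O' (e + d)) := fun d => by
      obtain ⟨i⟩ := PicPnLib.twist_add n k e d
      rw [hτ _ (isCoh_twist k d)]
      exact cl_congr k i
    have h := congrArg τ ha
    rw [map_sum, htw, add_zero] at h
    rw [← h]
    refine Finset.sum_congr rfl fun i _ => ?_
    rw [map_zsmul, htw]
    congr 3
    ring

theorem twist_mem (d : ℤ) : cl k (O' d) ∈ Submodule.span ℤ (Set.range (win (n := n) k 0)) := by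
  obtain ⟨a, hu, ha⟩ := exists_relation (n := n) k
  let W := Submodule.span ℤ (Set.range (win (n := n) k 0))
  suffices ∀ N : ℕ, (∀ i : Fin (n + 1), cl k (O' (-(N : ℤ) - (i : ℕ))) ∈ W) ∧
      ∀ i : Fin (n + 1), cl k (O' ((N : ℤ) - (i : ℕ))) ∈ W by
    rcases le_total 0 d with hd | hd
    · have := (this d.toNat).2 0
      rwa [Int.toNat_of_nonneg hd, Fin.val_zero, Nat.cast_zero, sub_zero] at this
    · have := (this (-d).toNat).1 0
      rwa [Int.toNat_of_nonneg (by omega), Fin.val_zero, Nat.cast_zero, sub_zero, neg_neg] at this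
  intro N
  induction N with
  | zero => exact ⟨fun i => Submodule.subset_span ⟨i, by simp [win]⟩, fun i => Submodule.subset_span ⟨i, by simp [win]⟩⟩
  | succ N ih =>
    constructor
    · intro i
      by_cases hi : (i : ℕ) < n
      · have := ih.1 ⟨(i : ℕ) + 1, by omega⟩
        rwa [show -((N + 1 : ℕ) : ℤ) - (i : ℕ) = -(N : ℤ) - (((i : ℕ) + 1 : ℕ) : ℤ) by push_cast; ring]
      have hin : (i : ℕ) = n := by have := i.isLt; omega
      obtain ⟨v, hv⟩ := hu
      have h := ha (-(N : ℤ))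
      rw [← Finset.add_sum_erase _ _ (Finset.mem_univ (Fin.last n))] at h
      have h2 : a (Fin.last n) • cl k (O' (-(N : ℤ) - 1 - (n : ℕ))) ∈ W := by
        rw [Fin.val_last] at h
        rw [eq_sub_of_add_eq h.symm]
        refine sub_mem (by simpa using ih.1 0) (sum_mem fun l hl => zsmul_mem ?_ _)
        have hl' : (l : ℕ) < n := Fin.val_lt_last (Finset.ne_of_mem_erase hl)
        have := ih.1 ⟨(l : ℕ) + 1, by omega⟩
        rwa [show -(N : ℤ) - 1 - (l : ℕ) = -(N : ℤ) - (((l : ℕ) + 1 : ℕ) : ℤ) by push_cast; ring]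
      have h3 := zsmul_mem h2 ((v⁻¹ : ℤˣ) : ℤ)
      rw [smul_smul, ← hv, Units.inv_mul, one_smul] at h3
      rwa [hin, show -((N + 1 : ℕ) : ℤ) - (n : ℕ) = -(N : ℤ) - 1 - (n : ℕ) by push_cast; ring]
    · intro i
      by_cases hi : (i : ℕ) = 0
      · rw [hi, Nat.cast_zero, sub_zero, ha]
        refine sum_mem fun l _ => zsmul_mem ?_ _
        rw [show ((N + 1 : ℕ) : ℤ) - 1 - (l : ℕ) = (N : ℤ) - (l : ℕ) by push_cast; ring]
        exact ih.2 l
      · have := ih.2 ⟨(i : ℕ) - 1, by omega⟩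
        rwa [show ((N + 1 : ℕ) : ℤ) - (i : ℕ) = (N : ℤ) - (((i : ℕ) - 1 : ℕ) : ℤ) by
          rw [Nat.cast_sub (by omega)]; push_cast; ring]

theorem surjective_window : Function.Surjective (fun a : Fin (n + 1) → ℤ => ∑ i, a i • win (n := n) k 0 i) := fun x => by
  refine (Submodule.mem_span_range_iff_exists_fun ℤ).1 ?_
  have hx : x ∈ AddSubgroup.closure {y | ∃ M, Coh.IsCoh M ∧ cl k M = y} := by
    rw [show AddSubgroup.closure {y | ∃ M, Coh.IsCoh M ∧ cl k M = y} = ⊤ from clSub_closure_eq_top (cohP (n := n) k)]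
    trivial
  refine AddSubgroup.closure_le (Submodule.span ℤ (Set.range (win (n := n) k 0))).toAddSubgroup |>.2 ?_ hx
  rintro y ⟨M, hM, rfl⟩
  obtain ⟨m₀, hm⟩ := exists_regular k M hM
  refine Submodule.span_le.2 ?_ (mem_window k M hM m₀ (hm m₀ le_rfl))
  rintro z ⟨i, rfl⟩
  exact twist_mem k _

end PnCohLib
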