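import Groth.Agent.GradedCechLib.Main
import Mathlib

/-!
# The Koszul complex of systems and the regularity step
-/

set_option autoImplicit false
universe u

open CategoryTheory CategoryTheory.Limits MvPolynomial GradedCechLib

noncomputable section

namespace PnCohLib

variable {R : Type u} [CommRing R] {m : ℕ} {N : Type u} [AddCommGroup N] [Module (MvPolynomial (Fin m) R) N]
  [Module R N] [IsScalarTower R (MvPolynomial (Fin m) R) N] (G : Grading R (Fin m) N)

local notation "P" => MvPolynomial (Fin m) R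

/-- The sign of inserting an index. -/
def sgn (a : Fin m) (S : Finset (Fin m)) : ℤ := (-1) ^ (S.filter (· < a)).card

theorem sgn_mul_self (a : Fin m) (S : Finset (Fin m)) : sgn a S * sgn a S = 1 := by
  rw [sgn, ← pow_add, ← two_mul, pow_mul, neg_one_sq, one_pow]

theorem sgn_insert {a b : Fin m} {S : Finset (Fin m)} (hb : b ∉ S) :
    sgn a (insert b S) = if b < a then -sgn a S else sgn a S := by
  rw [sgn, Finset.filter_insert]
  split_ifs with h
  · rw [Finset.card_insert_of_notMem (by simp [hb]), pow_succ, sgn, mul_neg_one]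
  · rfl

theorem sgn_pair {a b : Fin m} {S : Finset (Fin m)} (hab : a ≠ b) (ha : a ∉ S) (hb : b ∉ S) :
    sgn a S * sgn b (insert a S) + sgn b S * sgn a (insert b S) = 0 := by
  rw [sgn_insert ha, sgn_insert hb]
  rcases lt_or_gt_of_ne hab with h | h
  · rw [if_pos h, if_neg (not_lt.2 h.le)]; ring
  · rw [if_neg (not_lt.2 h.le), if_pos h]; ring

/-- The Koszul differential. -/
def kd (s : Finset (Fin m)) :
    (Finset (Fin m) → Loc R N s) →ₗ[P] (Finset (Fin m) → Loc R N s) :=
  LinearMap.pi fun S => ∑ a ∈ Sᶜ, ((sgn a S : P) * X a) • LinearMap.proj (insert a S)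

theorem kd_apply (s : Finset (Fin m)) (f : Finset (Fin m) → Loc R N s) (S : Finset (Fin m)) :
    kd s f S = ∑ a ∈ Sᶜ, ((sgn a S : P) * X a) • f (insert a S) := by
  show (∑ a ∈ Sᶜ, ((sgn a S : P) * X a) • (LinearMap.proj (insert a S) : (Finset (Fin m) → Loc R N s) →ₗ[P] Loc R N s)) f = _
  rw [LinearMap.sum_apply]
  rfl

theorem kd_kd (s : Finset (Fin m)) (f : Finset (Fin m) → Loc R N s) : kd s (kd s f) = 0 := by
  funext S
  rw [kd_apply, Pi.zero_apply]
  simp only [kd_apply, Finset.smul_sum, smul_smul]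
  rw [Finset.sum_sigma']
  refine Finset.sum_involution (fun x _ => ⟨x.2, x.1⟩) (fun x hx => ?_) (fun x hx _ => ?_) (fun x hx => ?_)
    fun x _ => rfl
  · simp only [Finset.mem_sigma, Finset.mem_compl, Finset.mem_insert, not_or] at hx
    obtain ⟨ha, hba, hb⟩ := hx
    rw [show insert x.1 (insert x.2 S) = insert x.2 (insert x.1 S) from Finset.insert_comm _ _ _,
      ← add_smul]
    refine (congrArg (· • f (insert x.2 (insert x.1 S))) ?_).trans (zero_smul P _)
    have h2 := congrArg (fun z : ℤ => (z : P)) (sgn_pair (Ne.symm hba) ha hb)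
    simp only [Int.cast_add, Int.cast_mul, Int.cast_zero] at h2
    linear_combination (X x.1 : P) * X x.2 * h2
  · simp only [Finset.mem_sigma, Finset.mem_compl, Finset.mem_insert, not_or] at hx
    intro h
    exact hx.2.1 (congrArg Sigma.fst h)
  · simp only [Finset.mem_sigma, Finset.mem_compl, Finset.mem_insert, not_or] at hx ⊢
    exact ⟨hx.2.2, Ne.symm hx.2.1, hx.1⟩

variable (d : ℤ)

/-- Koszul chains of degree `j`. -/
def kPiece (j : ℕ) (s : Finset (Fin m)) : Submodule R (Finset (Fin m) → Loc R N s) where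
  carrier := {f | ∀ S, f S ∈ locPiece G (d - j) s ∧ (S.card ≠ j → f S = 0)}
  zero_mem' S := ⟨zero_mem _, fun _ => rfl⟩
  add_mem' hf hg S := ⟨add_mem (hf S).1 (hg S).1, fun h => by rw [Pi.add_apply, (hf S).2 h, (hg S).2 h, add_zero]⟩
  smul_mem' r f hf S := ⟨Submodule.smul_mem _ r (hf S).1, fun h => by rw [Pi.smul_apply, (hf S).2 h, smul_zero]⟩

/-- Koszul cycles of degree `j`. -/
def zPiece (j : ℕ) (s : Finset (Fin m)) : Submodule R (Finset (Fin m) → Loc R N s) :=
  kPiece G d j s ⊓ LinearMap.ker ((kd s).restrictScalars R)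

theorem X_smul_locPiece {e : ℤ} {s : Finset (Fin m)} (a : Fin m) {z : Loc R N s} (hz : z ∈ locPiece G e s) :
    (X a : P) • z ∈ locPiece G (e + 1) s := by
  obtain ⟨l, y, hy, rfl⟩ := hz
  refine ⟨l, (X a : P) • y, ?_, ?_⟩
  · rw [show e + 1 + (l : ℤ) * s.card = e + (l : ℤ) * s.card + 1 by ring]
    exact G.X_smul_mem a _ _ hy
  · rw [frac, frac, LocalizedModule.smul'_mk]

theorem sgn_smul_mem {e : ℤ} {s : Finset (Fin m)} (a : Fin m) (S : Finset (Fin m)) {z : Loc R N s}
    (hz : z ∈ locPiece G e s) : (sgn a S : P) • z ∈ locPiece G e s := by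
  have hsc : ((sgn a S : R) : R) • z = (sgn a S : P) • z := by
    rw [← map_intCast (algebraMap R P) (sgn a S), algebraMap_smul]
  rw [← hsc]
  exact Submodule.smul_mem _ _ hz

theorem kd_mem {j : ℕ} {s : Finset (Fin m)} {f : Finset (Fin m) → Loc R N s} (hf : f ∈ kPiece G d (j + 1) s) :
    kd s f ∈ zPiece G d j s := by
  refine ⟨fun S => ⟨?_, fun hS => ?_⟩, kd_kd s f⟩
  · rw [kd_apply]
    refine sum_mem fun a _ => ?_
    rw [mul_smul]
    refine sgn_smul_mem G a S ?_
    have h := X_smul_locPiece G a (hf (insert a S)).1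
    rwa [show d - ((j + 1 : ℕ) : ℤ) + 1 = d - j by push_cast; ring] at h
  · rw [kd_apply]
    refine Finset.sum_eq_zero fun a ha => ?_
    rw [(hf (insert a S)).2 (by rw [Finset.card_insert_of_notMem (Finset.mem_compl.1 ha)]; omega), smul_zero]

theorem isUnit_X {s : Finset (Fin m)} {v : Fin m} (hv : v ∈ s) :
    IsUnit (algebraMap P (Module.End P (Loc R N s)) (X v)) := by
  have h := isUnit_xs_of_subset (R := R) (N := N) (Finset.singleton_subset_iff.2 hv)
    ⟨xs R {v}, Submonoid.mem_powers _⟩
  simpa [xs] using h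

theorem X_smul_injective {s : Finset (Fin m)} {v : Fin m} (hv : v ∈ s) {z z' : Loc R N s}
    (h : (X v : P) • z = (X v : P) • z') : z = z' :=
  ((Module.End.isUnit_iff _).1 (isUnit_X hv)).1 h

theorem exists_X_smul_eq {e : ℤ} {s : Finset (Fin m)} {v : Fin m} (hv : v ∈ s) {z : Loc R N s}
    (hz : z ∈ locPiece G e s) : ∃ w ∈ locPiece G (e - 1) s, (X v : P) • w = z := by
  obtain ⟨l, y, hy, rfl⟩ := hz
  have hc : ((s.erase v).card : ℤ) = s.card - 1 := by
    rw [Finset.card_erase_of_mem hv, Nat.cast_sub (Finset.card_pos.2 ⟨v, hv⟩)]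
    rfl
  refine ⟨frac s (xs R (s.erase v) • y) (l + 1), ⟨l + 1, _, ?_, rfl⟩, ?_⟩
  · have h := xs_smul_mem G (s.erase v) _ _ hy
    rw [hc] at h
    rwa [show e - 1 + ((l + 1 : ℕ) : ℤ) * s.card = e + (l : ℤ) * s.card + (s.card - 1) by push_cast; ring]
  · rw [frac, LocalizedModule.smul'_mk, ← mul_smul, show (X v : P) * xs R (s.erase v) = xs R s from
      Finset.mul_prod_erase s (fun i => (X i : P)) hv]
    conv_rhs => rw [← frac_mul s y l 1, pow_one]
    rfl

theorem exists_kd_eq {j : ℕ} {s : Finset (Fin m)} (hs : s.Nonempty) {g : Finset (Fin m) → Loc R N s}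
    (hg : g ∈ zPiece G d j s) : ∃ f ∈ kPiece G d (j + 1) s, kd s f = g := by
  obtain ⟨v, hv⟩ := hs
  choose w hw hwv using fun S => exists_X_smul_eq G hv (hg.1 S).1
  have hw0 : ∀ S, S.card ≠ j → w S = 0 := fun S hS => X_smul_injective hv (by rw [hwv, (hg.1 S).2 hS, smul_zero])
  refine ⟨fun S => if v ∈ S then (sgn v (S.erase v) : P) • w (S.erase v) else 0, fun S => ?_, funext fun S => ?_⟩
  · dsimp only
    by_cases h : v ∈ S
    · refine ⟨?_, fun hS => ?_⟩
      · rw [if_pos h, show d - ((j + 1 : ℕ) : ℤ) = d - j - 1 by push_cast; ring]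
        exact sgn_smul_mem G _ _ (hw _)
      · rw [if_pos h, hw0 _ (by have h1 := Finset.card_erase_add_one h; omega), smul_zero]
    · exact ⟨by rw [if_neg h]; exact zero_mem _, fun _ => if_neg h⟩
  refine X_smul_injective hv ?_
  rw [kd_apply, Finset.smul_sum]
  by_cases h : v ∈ S
  · have h0 : kd s g (S.erase v) = 0 := congrFun hg.2 (S.erase v)
    rw [kd_apply, Finset.compl_erase, Finset.sum_insert (by simp [h]), Finset.insert_erase h, add_eq_zero_iff_eq_neg] at h0
    have h1 : (X v : P) • g S = (sgn v (S.erase v) : P) • (((sgn v (S.erase v) : P) * X v) • g S) := by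
      rw [smul_smul, ← mul_assoc, ← Int.cast_mul, sgn_mul_self, Int.cast_one, one_mul]
    rw [h1, h0, smul_neg, Finset.smul_sum, ← Finset.sum_neg_distrib]
    refine Finset.sum_congr rfl fun a ha => ?_
    rw [Finset.mem_compl] at ha
    have hva : a ≠ v := fun e => ha (e ▸ h)
    rw [if_pos (Finset.mem_insert_of_mem h), Finset.erase_insert_of_ne hva, ← hwv (insert a (S.erase v)),
      smul_smul, smul_smul, smul_smul, smul_smul, ← neg_smul]
    congr 1
    have h2 := sgn_pair hva (fun h' => ha (Finset.mem_of_mem_erase h')) (Finset.notMem_erase v S)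
    rw [Finset.insert_erase h] at h2
    have h3 := sgn_mul_self v (insert a (S.erase v))
    have h4 := sgn_mul_self v (S.erase v)
    have key : sgn a S * sgn v (insert a (S.erase v)) = -(sgn v (S.erase v) * sgn a (S.erase v)) := by
      linear_combination (sgn v (S.erase v) * sgn v (insert a (S.erase v))) * h2 -
        (sgn v (S.erase v) * sgn a (S.erase v)) * h3 - (sgn a S * sgn v (insert a (S.erase v))) * h4
    have key' := congrArg (fun z : ℤ => (z : P)) key
    simp only [Int.cast_mul, Int.cast_neg] at key'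
    linear_combination (X a : P) * X v * key'
  · rw [Finset.sum_eq_single v (fun a ha hav => ?_) (fun hn => absurd (Finset.mem_compl.2 h) hn)]
    · rw [if_pos (Finset.mem_insert_self v S), Finset.erase_insert h, ← hwv S, smul_smul, smul_smul, smul_smul]
      congr 1
      rw [show (X v : P) * ((sgn v S : P) * X v) * (sgn v S : P) = ((sgn v S * sgn v S : ℤ) : P) * (X v * X v) by
        push_cast; ring, sgn_mul_self, Int.cast_one, one_mul]
    · rw [if_neg (by simp [h, Ne.symm hav]), smul_zero, smul_zero]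

/-- The transition map on chains. -/
def kRes {s t : Finset (Fin m)} (h : s ⊆ t) : (Finset (Fin m) → Loc R N s) →ₗ[P] (Finset (Fin m) → Loc R N t) :=
  LinearMap.pi fun S => (transLin h).comp (LinearMap.proj S)

theorem kd_kRes {s t : Finset (Fin m)} (h : s ⊆ t) (f : Finset (Fin m) → Loc R N s) :
    kd t (kRes h f) = kRes h (kd s f) := by
  funext S
  show kd t (kRes h f) S = transLin h (kd s f S)
  rw [kd_apply, kd_apply, map_sum]
  refine Finset.sum_congr rfl fun a _ => ?_
  rw [map_smul]
  rfl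

theorem kRes_mem_k {j : ℕ} {s t : Finset (Fin m)} (h : s ⊆ t) {f : Finset (Fin m) → Loc R N s}
    (hf : f ∈ kPiece G d j s) : kRes h f ∈ kPiece G d j t := fun S =>
  ⟨transLin_mem G _ h _ (hf S).1, fun hS => by
    show transLin h (f S) = 0
    rw [(hf S).2 hS, map_zero]⟩

theorem kRes_mem_z {j : ℕ} {s t : Finset (Fin m)} (h : s ⊆ t) {f : Finset (Fin m) → Loc R N s}
    (hf : f ∈ zPiece G d j s) : kRes h f ∈ zPiece G d j t :=
  ⟨kRes_mem_k G d h hf.1, by
    show kd t (kRes h f) = 0
    rw [kd_kRes, show kd s f = 0 from hf.2, map_zero]⟩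

theorem kRes_self {s : Finset (Fin m)} (f : Finset (Fin m) → Loc R N s) (h : s ⊆ s) : kRes h f = f := funext fun S => by
  refine LinearMap.congr_fun (IsLocalizedModule.ext (Submonoid.powers (xs R s))
    (LocalizedModule.mkLinearMap _ N) (isUnit_xs_of_subset (R := R) (le_refl s)) (j := transLin h) (k := LinearMap.id) ?_) _
  ext y
  exact transLin_mkLinearMap h y

theorem kRes_kRes {s t r : Finset (Fin m)} (h : s ⊆ t) (h' : t ⊆ r) (f : Finset (Fin m) → Loc R N s) :
    kRes h' (kRes h f) = kRes (h.trans h') f := funext fun S => by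
  refine LinearMap.congr_fun (IsLocalizedModule.ext (Submonoid.powers (xs R s))
    (LocalizedModule.mkLinearMap _ N) (isUnit_xs_of_subset (R := R) (h.trans h'))
    (j := (transLin h').comp (transLin h)) (k := transLin (h.trans h')) ?_) _
  ext y
  rw [LinearMap.comp_apply, LinearMap.comp_apply]
  rw [LinearMap.comp_apply, transLin_mkLinearMap, transLin_mkLinearMap, transLin_mkLinearMap]

/-- A stable family of submodules of chains as a system. -/
def subSys (Q : ∀ s : Finset (Fin m), Submodule R (Finset (Fin m) → Loc R N s))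
    (hQ : ∀ {s t : Finset (Fin m)} (h : s ⊆ t), ∀ f ∈ Q s, kRes (R := R) h f ∈ Q t) : Sys R (Fin m) where
  obj s := ModuleCat.of R (Q s)
  map {s t} f := ModuleCat.ofHom (((kRes (leOfHom f)).restrictScalars R).restrict (p := Q s) (q := Q t)
    fun z hz => hQ (leOfHom f) z hz)
  map_id s := ModuleCat.hom_ext (LinearMap.ext fun z => Subtype.ext (kRes_self z.1 (le_refl s)))
  map_comp f g := ModuleCat.hom_ext (LinearMap.ext fun z => Subtype.ext (kRes_kRes (leOfHom f) (leOfHom g) z.1).symm)

/-- Chains. -/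
def kSys (j : ℕ) : Sys R (Fin m) := subSys (kPiece G d j) fun h f hf => kRes_mem_k G d h hf

/-- Cycles. -/
def zSys (j : ℕ) : Sys R (Fin m) := subSys (zPiece G d j) fun h f hf => kRes_mem_z G d h hf

/-- Cycles into chains. -/
def zIncl (j : ℕ) : zSys G d j ⟶ kSys G d j where
  app s := show ModuleCat.of R (zPiece G d j s) ⟶ ModuleCat.of R (kPiece G d j s) from
    ModuleCat.ofHom (Submodule.inclusion inf_le_left)
  naturality _ _ _ := rfl

/-- The differential onto cycles. -/
def kdSys (j : ℕ) : kSys G d (j + 1) ⟶ zSys G d j where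
  app s := show ModuleCat.of R (kPiece G d (j + 1) s) ⟶ ModuleCat.of R (zPiece G d j s) from
    ModuleCat.ofHom (((kd s).restrictScalars R).restrict (p := kPiece G d (j + 1) s) (q := zPiece G d j s)
      fun f hf => kd_mem G d hf)
  naturality {s t} f := ModuleCat.hom_ext (LinearMap.ext fun z => Subtype.ext (kd_kRes (leOfHom f) _))

theorem exact3_kd (j : ℕ) : Exact3 (zIncl G d (j + 1)) (kdSys G d j) where
  inj s _ := fun z z' e => Subtype.ext (congrArg (fun w : kPiece G d (j + 1) s => w.1) e)
  surj s hs := fun z => by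
    obtain ⟨f, hf, hfz⟩ := exists_kd_eq G d hs z.2
    exact ⟨⟨f, hf⟩, Subtype.ext hfz⟩
  zero s x := Subtype.ext x.2.2
  exact s hs y hy := ⟨⟨y.1, y.2, congrArg Subtype.val hy⟩, rfl⟩

theorem exists_of_isZero {L : Sys R (Fin m)} {p : ℕ} (h : IsZero (H L (p + 1))) (c : Cochain L (p + 1))
    (hc : dd L (p + 1) c = 0) : ∃ b, dd L p b = c := by
  rw [← HomologicalComplex.exactAt_iff_isZero_homology, HomologicalComplex.exactAt_iff' _ p (p + 1) (p + 2) (by simp) (by simp),
    ShortComplex.moduleCat_exact_iff] at h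
  obtain ⟨b, hb⟩ := h c ((cx_d (L := L) (p + 1) c).trans hc)
  exact ⟨b, (cx_d (L := L) p b).symm.trans hb⟩

/-- A chain component as a map of systems. -/
def kProj (j : ℕ) (S : Finset (Fin m)) : kSys G d j ⟶ locSys G (d - j) where
  app s := show ModuleCat.of R (kPiece G d j s) ⟶ ModuleCat.of R (locPiece G (d - j) s) from
    ModuleCat.ofHom
      { toFun := fun f => ⟨f.1 S, (f.2 S).1⟩
        map_add' := fun _ _ => rfl
        map_smul' := fun _ _ => rfl }
  naturality _ _ _ := rfl

theorem dd_map {L L' : Sys R (Fin m)} (φ : L ⟶ L') (p : ℕ) (c : Cochain L p) (J : Fin (p + 2) → Fin m) :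
    dd L' p (fun I => (φ.app (rng I)).hom (c I)) J = (φ.app (rng J)).hom (dd L p c J) := by
  rw [dd_apply, dd_apply, map_sum]
  refine Finset.sum_congr rfl fun k _ => ?_
  rw [map_zsmul, app_res]

theorem isZero_kSys {j p : ℕ} (h : IsZero (H (locSys G (d - j)) (p + 1))) : IsZero (H (kSys G d j) (p + 1)) := by
  refine isZero_succ p fun c hc => ?_
  choose b hb using fun S : Finset (Fin m) => exists_of_isZero h
    (fun J => ((kProj G d j S).app (rng J)).hom (c J)) (funext fun J => by rw [dd_map, hc]; exact map_zero _)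
  let b' : Cochain (kSys G d j) p := fun J => ⟨fun S => if S.card = j then (b S J).1 else 0, fun S => by
    dsimp only
    by_cases hS : S.card = j
    · exact ⟨by rw [if_pos hS]; exact (b S J).2, fun hne => absurd hS hne⟩
    · exact ⟨by rw [if_neg hS]; exact zero_mem _, fun _ => if_neg hS⟩⟩
  refine ⟨b', funext fun J => Subtype.ext (funext fun S => ?_)⟩
  have h1 := congrArg Subtype.val (dd_map (kProj G d j S) p b' J)
  by_cases hS : S.card = j
  · refine h1.symm.trans ((congrArg (fun c' => (dd (locSys G (d - j)) p c' J).1) ?_).trans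
      (congrArg (fun c' => (c' J).1) (hb S)))
    funext I
    exact Subtype.ext (if_pos hS)
  · refine h1.symm.trans (Eq.trans ?_ ((c J).2 S |>.2 hS).symm)
    rw [show (fun I => ((kProj G d j S).app (rng I)).hom (b' I)) = 0 from funext fun I => Subtype.ext (if_neg hS),
      map_zero]
    rfl

/-- Reading off the component at the empty set. -/
def zeroProj : zSys G d 0 ⟶ locSys G (d - (0 : ℕ)) := zIncl G d 0 ≫ kProj G d 0 ∅

theorem zeroProj_bijective (s : Finset (Fin m)) : Function.Bijective ((zeroProj G d).app s).hom := by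
  constructor
  · intro f g e
    refine Subtype.ext (funext fun S => ?_)
    rcases S.eq_empty_or_nonempty with rfl | hS
    · exact congrArg Subtype.val e
    · rw [(f.2.1 S).2 (by simpa using hS.ne_empty), (g.2.1 S).2 (by simpa using hS.ne_empty)]
  · intro (z : locPiece G (d - (0 : ℕ)) s)
    let f : Finset (Fin m) → Loc R N s := fun S => if S = ∅ then z.1 else 0
    have hf : f ∈ kPiece G d 0 s := fun S => by
      by_cases hS : S = ∅
      · exact ⟨by simp only [f, if_pos hS]; exact z.2, fun hne => absurd (by simp [hS]) hne⟩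
      · exact ⟨by simp only [f, if_neg hS]; exact zero_mem _, fun _ => if_neg hS⟩
    refine ⟨⟨f, hf, funext fun S => ?_⟩, Subtype.ext (show f ∅ = z.1 from if_pos rfl)⟩
    show kd s f S = 0
    rw [kd_apply]
    exact Finset.sum_eq_zero fun a _ => by rw [show f (insert a S) = 0 from if_neg (Finset.insert_ne_empty _ _), smul_zero]

/-- The cohomology of the cycles in the regular range. -/
theorem isZero_zSys (q : ℕ)
    (h : ∀ j : ℕ, 1 ≤ q + j → q + j < m → IsZero (H (locSys G (d - (j + 1 : ℕ))) (q + j))) :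
    ∀ (j : ℕ), 1 ≤ q + j → IsZero (H (zSys G d j) (q + j)) := by
  have key : ∀ (fuel j : ℕ), 1 ≤ q + j → m ≤ q + j + fuel → IsZero (H (zSys G d j) (q + j)) := by
    intro fuel
    induction fuel with
    | zero => exact fun j _ hj => isZero_of_card_le _ _ (by simpa using hj)
    | succ k ih =>
      intro j h1 hj
      by_cases hm : m ≤ q + j
      · exact isZero_of_card_le _ _ (by simpa using hm)
      · refine isZero_right (exact3_kd G d j) (q + j) ?_ (ih (j + 1) (by omega) (by omega))
        obtain ⟨p, hp⟩ : ∃ p, q + j = p + 1 := ⟨q + j - 1, by omega⟩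
        rw [hp]
        exact isZero_kSys G d (hp ▸ h j h1 (by omega))
  exact fun j h1 => key m j h1 (by omega)

/-- The regularity step. -/
theorem isZero_step (q : ℕ) (hq : 1 ≤ q)
    (h : ∀ j : ℕ, q + j < m → IsZero (H (locSys G (d - (j + 1 : ℕ))) (q + j))) : IsZero (H (locSys G d) q) := by
  have e := (GradedCechLib.hIsoOfBijective (zeroProj G d) (fun s _ => zeroProj_bijective G d s) q)
  have h0 := (isZero_zSys G d q (fun j _ hj => h j hj) 0 (by omega)).of_iso e.symm
  rwa [Nat.cast_zero, sub_zero] at h0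

theorem dd_dd' {L : Sys R (Fin m)} (p : ℕ) (c : Cochain L p) : dd L (p + 1) (dd L p c) = 0 := by
  rw [← cx_d, ← cx_d]
  exact ConcreteCategory.congr_hom ((cx L).d_comp_d p (p + 1) (p + 2)) c

/-- Cocycles in degree zero come from one degree lower, in the regular range. -/
theorem exists_decomp (h : ∀ q : ℕ, 1 ≤ q → q < m → IsZero (H (locSys G (d - (q + 1 : ℕ))) q))
    {d' : ℤ} (hd : d - (0 : ℕ) = d') (c : Cochain (locSys G d') 0) (hc : dd (locSys G d') 0 c = 0) :
    ∃ b : Fin m → Cochain (locSys G (d - (1 : ℕ))) 0, (∀ a, dd (locSys G (d - (1 : ℕ))) 0 (b a) = 0) ∧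
      ∀ J, (c J).1 = ∑ a, (X a : P) • (b a J).1 := by
  subst hd
  have hz : IsZero (H (zSys G d 1) (0 + 1)) :=
    isZero_zSys G d 0 (fun j h1 h2 => by rw [zero_add] at h1 h2 ⊢; exact h j h1 h2) 1 (by omega)
  have hzero : ∀ J : Fin 1 → Fin m, ∃ z : (zSys G d 0).obj (rng J), ((zeroProj G d).app (rng J)).hom z = c J :=
    fun J => (zeroProj_bijective G d (rng J)).2 (c J)
  choose z hzc using hzero
  choose f hf using fun J : Fin 1 → Fin m => (exact3_kd G d 0).surj _ (rng_nonempty J) (z J)
  have hzd : dd (zSys G d 0) 0 z = 0 := funext fun J => (zeroProj_bijective G d _).1 (by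
    rw [Pi.zero_apply, map_zero, ← dd_map, show (fun I => ((zeroProj G d).app (rng I)).hom (z I)) = c from funext hzc, hc]
    rfl)
  choose w hw using fun J : Fin 2 → Fin m => (exact3_kd G d 0).exact _ (rng_nonempty J) (dd (kSys G d 1) 0 f J) (by
    rw [← dd_map, show (fun I => ((kdSys G d 0).app (rng I)).hom (f I)) = z from funext hf, hzd]
    rfl)
  have hwd : dd (zSys G d 1) 1 w = 0 := funext fun J => (exact3_kd G d 0).inj _ (rng_nonempty J) (by
    rw [Pi.zero_apply, map_zero, ← dd_map, show (fun I => ((zIncl G d 1).app (rng I)).hom (w I)) = dd (kSys G d 1) 0 f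
      from funext hw, dd_dd']
    rfl)
  obtain ⟨u, hu⟩ := exists_of_isZero (p := 0) hz w hwd
  let f' : Cochain (kSys G d 1) 0 := f - fun I => ((zIncl G d 1).app (rng I)).hom (u I)
  have hfd : dd (kSys G d 1) 0 f' = 0 := by
    refine funext fun J => ?_
    rw [map_sub, Pi.sub_apply, dd_map, hu, hw, sub_self]
    rfl
  refine ⟨fun a J => ((kProj G d 1 {a}).app (rng J)).hom (f' J), fun a => funext fun J => ?_, fun J => ?_⟩
  · rw [dd_map, hfd]
    exact map_zero _
  · have h1 : ((kdSys G d 0).app (rng J)).hom (f' J) = z J := by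
      show ((kdSys G d 0).app (rng J)).hom (f J - ((zIncl G d 1).app (rng J)).hom (u J)) = z J
      rw [map_sub, hf, (exact3_kd G d 0).zero, sub_zero]
    rw [← hzc J, ← h1]
    show kd (rng J) (f' J).1 ∅ = _
    rw [kd_apply, Finset.compl_empty]
    refine Finset.sum_congr rfl fun a _ => ?_
    rw [show sgn a (∅ : Finset (Fin m)) = 1 by simp [sgn], Int.cast_one, one_mul, insert_empty_eq]
    rfl

end PnCohLib
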