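import Groth.Agent.GradedCechLib.Finite
import Mathlib

/-!
# The Čech cohomology of the Laurent monomials of a given degree
-/

set_option autoImplicit false
universe u

open CategoryTheory CategoryTheory.Limits GradedCechLib

noncomputable section

namespace PnCohLib

variable (R : Type u) [CommRing R] (n : ℕ) (d : ℤ)

/-- Exponent vectors, indexed by the one generator. -/
abbrev Exps : Type := Fin 1 × (Fin (n + 1) → ℤ)

/-- Exponents allowed over a set. -/
abbrev AS : Finset (Fin (n + 1)) → Set (Exps n) := allowed (Fin 1) (fun _ => (0 : ℤ)) d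

/-- The system of Laurent monomials of degree `d`. -/
abbrev LS : Sys R (Fin (n + 1)) := suppSys R (Exps n) (AS n d) (allowed_mono (Fin 1) (fun _ => (0 : ℤ)) d)

/-- Exponents with all entries negative. -/
abbrev BS : Set (Exps n) := exceptional (Fin 1) (fun _ => (0 : ℤ)) d

/-- Exponents with all entries nonnegative. -/
def CS : Set (Exps n) := {ka | ∑ i, ka.2 i = d ∧ ∀ i, 0 ≤ ka.2 i}

variable {R n d}

theorem sum_eq_of_mem_BS {a : Exps n} (h : a ∈ BS n d) : ∑ i, a.2 i = d := h.1.trans (add_zero _)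

theorem BS_mem_univ {a : Exps n} (h : a ∈ BS n d) : a ∈ AS n d Finset.univ :=
  ⟨h.1, fun i hi => absurd (Finset.mem_univ i) hi⟩

theorem CS_mem {a : Exps n} (h : a ∈ CS n d) (s : Finset (Fin (n + 1))) : a ∈ AS n d s :=
  ⟨h.1.trans (add_zero _).symm, fun i _ => h.2 i⟩

theorem univ_of_mem_BS {a : Exps n} (h : a ∈ BS n d) {s : Finset (Fin (n + 1))} (hs : a ∈ AS n d s) :
    s = Finset.univ :=
  Finset.eq_univ_iff_forall.2 fun i => by
    by_contra hi
    exact absurd (hs.2 i hi) (not_le.2 (h.2 i))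

theorem le_of_mem_BS {a : Exps n} (h : a ∈ BS n d) : d ≤ -((n : ℤ) + 1) := by
  rw [← sum_eq_of_mem_BS h]
  calc ∑ i, a.2 i ≤ ∑ _i : Fin (n + 1), (-1 : ℤ) :=
        Finset.sum_le_sum fun i _ => by have := h.2 i; omega
    _ = _ := by simp

theorem rng_ne_univ {p : ℕ} (hp : p < n + 1) (J : Fin p → Fin (n + 1)) : rng J ≠ Finset.univ := fun h => by
  have h1 : (rng J).card ≤ p := Finset.card_image_le.trans (by simp)
  rw [h, Finset.card_univ, Fintype.card_fin] at h1
  omega

theorem val_eq_zero_of_mem_BS {p : ℕ} (c : Cochain (LS R n d) p) {J : Fin (p + 1) → Fin (n + 1)}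
    (hJ : rng J ≠ Finset.univ) {a : Exps n} (ha : a ∈ BS n d) :
    val (AS n d) (allowed_mono (Fin 1) (fun _ => (0 : ℤ)) d) c J a = 0 := by
  by_contra h
  exact hJ (univ_of_mem_BS ha (evS_mem _ _ _ _ h))

/-- Only the top and the bottom degree carry cohomology. -/
theorem isZero_H_pos (q : ℕ) (hq : 1 ≤ q) (h : q = n → -((n : ℤ) + 1) < d) : IsZero (H (LS R n d) q) := by
  rcases Nat.lt_or_ge n q with hn | hn
  · exact isZero_of_card_le _ q (by simpa using hn)
  obtain ⟨p, rfl⟩ : ∃ p, q = p + 1 := ⟨q - 1, by omega⟩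
  refine isZero_succ p fun c hc => ?_
  obtain ⟨b, hb⟩ := exists_bad_representative (AS n d) (allowed_mono (Fin 1) (fun _ => (0 : ℤ)) d) (BS n d)
    (exists_cone (Fin 1) (fun _ => (0 : ℤ)) d) p c hc
  refine ⟨b, (sub_eq_zero.1 (funext fun J => evS_injective _ _ _ (Finsupp.ext fun a => ?_))).symm⟩
  rw [Pi.zero_apply, map_zero, Finsupp.zero_apply]
  by_cases ha : a ∈ BS n d
  · rcases Nat.lt_or_ge (p + 1) n with hlt | hge
    · exact val_eq_zero_of_mem_BS _ (rng_ne_univ (by omega) J) ha
    · exact absurd (le_of_mem_BS ha) (not_le.2 (h (by omega)))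
  · exact hb J a ha

/-- A system is computed by a surjection on cocycles with the coboundaries as kernel. -/
theorem exists_H_equiv {ι : Type} [Fintype ι] [DecidableEq ι] (L : Sys R ι) (p : ℕ) {V : Type u} [AddCommGroup V]
    [Module R V] (ev : LinearMap.ker (dd L p) →ₗ[R] V) (hsurj : Function.Surjective ev)
    (hker : ∀ c, ev c = 0 ↔ (c : Cochain L p) ∈ LinearMap.range ((cx L).d ((ComplexShape.up ℕ).prev p) p).hom) :
    Nonempty (H L p ≃ₗ[R] V) := by
  let S := (cx L).sc' ((ComplexShape.up ℕ).prev p) p (p + 1)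
  let e₀ : H L p ≅ S.moduleCatLeftHomologyData.H :=
    (cx L).homologyIsoSc' _ p (p + 1) rfl (by simp) ≪≫ S.moduleCatHomologyIso
  have hk : ∀ c : Cochain L p, S.g.hom c = 0 ↔ dd L p c = 0 := fun c => by
    rw [show S.g.hom c = dd L p c from cx_d p c]
    rfl
  have hk₁ : ∀ c : LinearMap.ker S.g.hom, (show Cochain L p from c.1) ∈ LinearMap.ker (dd L p) :=
    fun c => (hk c.1).1 c.2
  let ev' : LinearMap.ker S.g.hom →ₗ[R] V :=
    { toFun := fun c => ev ⟨(show Cochain L p from c.1), hk₁ c⟩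
      map_add' := fun c c' => map_add ev ⟨(show Cochain L p from c.1), hk₁ c⟩ ⟨(show Cochain L p from c'.1), hk₁ c'⟩
      map_smul' := fun r c => map_smul ev r ⟨(show Cochain L p from c.1), hk₁ c⟩ }
  have hs' : Function.Surjective ev' := fun v => by
    obtain ⟨⟨c, hc⟩, rfl⟩ := hsurj v
    exact ⟨⟨c, (hk c).2 hc⟩, rfl⟩
  have hev : LinearMap.ker ev' = LinearMap.range S.moduleCatToCycles := by
    ext c
    exact (hker ⟨(show Cochain L p from c.1), hk₁ c⟩).trans
      ⟨fun ⟨b, hb⟩ => ⟨b, Subtype.ext hb⟩, fun ⟨b, hb⟩ => ⟨b, congrArg Subtype.val hb⟩⟩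
  exact ⟨e₀.toLinearEquiv.trans ((Submodule.quotEquivOfEq _ _ hev.symm).trans (ev'.quotKerEquivOfSurjective hs'))⟩

variable (R n d) in
/-- The value of a top cochain on the negative monomials. -/
def topVal : Cochain (LS R n d) n →ₗ[R] (BS n d →₀ R) :=
  (Finsupp.lsubtypeDomain (BS n d)).comp ((evS (AS n d) (allowed_mono (Fin 1) (fun _ => (0 : ℤ)) d)
    (rng (id : Fin (n + 1) → Fin (n + 1)))).comp (LinearMap.proj (id : Fin (n + 1) → Fin (n + 1))))

theorem topVal_apply (c : Cochain (LS R n d) n) (a : BS n d) :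
    topVal R n d c a = val (AS n d) (allowed_mono (Fin 1) (fun _ => (0 : ℤ)) d) c id a.1 := rfl

theorem topVal_eq_zero_of_range {c : Cochain (LS R n d) n}
    (h : c ∈ LinearMap.range ((cx (LS R n d)).d ((ComplexShape.up ℕ).prev n) n).hom) : topVal R n d c = 0 := by
  obtain ⟨b, rfl⟩ := h
  rcases n with _ | m
  · rw [HomologicalComplex.shape _ _ _ (by simp)]
    exact map_zero _
  · revert b
    rw [show (ComplexShape.up ℕ).prev (m + 1) = m by simp]
    intro (b : Cochain (LS R (m + 1) d) m)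
    rw [show ((cx (LS R (m + 1) d)).d m (m + 1)).hom b = dd (LS R (m + 1) d) m b from cx_d m b]
    ext a
    rw [topVal_apply, val_dd, Finsupp.finsetSum_apply, Finsupp.zero_apply]
    refine Finset.sum_eq_zero fun k _ => ?_
    rw [Finsupp.smul_apply, val_eq_zero_of_mem_BS b (rng_ne_univ (by omega) _) a.2, smul_zero]

/-- The sign of a tuple. -/
def eps (J : Fin (n + 1) → Fin (n + 1)) : R := Matrix.det (Matrix.of fun i j => if J i = j then (1 : R) else 0)

theorem eps_id : eps (R := R) (id : Fin (n + 1) → Fin (n + 1)) = 1 := by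
  rw [eps]
  convert Matrix.det_one (R := R) (n := Fin (n + 1)) using 2
  ext i j
  simp [Matrix.one_apply]

theorem rng_eq_univ_of_eps {J : Fin (n + 1) → Fin (n + 1)} (h : eps (R := R) J ≠ 0) :
    rng J = Finset.univ := by
  refine Finset.image_univ_of_surjective (Finite.injective_iff_surjective.1 fun i j hij => ?_)
  by_contra hne
  exact h (Matrix.det_zero_of_row_eq hne (funext fun x => by simp [hij]))

theorem sum_eps (J : Fin (n + 2) → Fin (n + 1)) :
    ∑ k : Fin (n + 2), ((-1 : ℤ) ^ (k : ℕ)) • eps (R := R) (J ∘ k.succAbove) = 0 := by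
  let A : Matrix (Fin (n + 2)) (Fin (n + 2)) R :=
    Matrix.of fun i => Fin.cons (1 : R) fun j => if J i = j then (1 : R) else 0
  have h1 : A.det = 0 := by
    have hv : A.mulVec (Fin.cons (1 : R) fun _ => -1) = 0 := funext fun i => by
      simp [A, Matrix.mulVec, dotProduct, Fin.sum_univ_succ]
    have h2 := congrArg (fun w => A.adjugate.mulVec w 0) hv
    simpa [Matrix.mulVec_mulVec, Matrix.adjugate_mul, Matrix.smul_mulVec] using h2
  rw [← h1, Matrix.det_succ_column_zero]
  refine Finset.sum_congr rfl fun k _ => ?_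
  rw [zsmul_eq_mul]
  simp [A, eps, Matrix.submatrix]

variable (R n d) in
/-- The alternating cochain of a family of negative monomials. -/
def topC (f : BS n d →₀ R) : Cochain (LS R n d) n := fun J =>
  ⟨eps (R := R) J • f.mapDomain Subtype.val, fun a ha => by
    rw [Finset.mem_coe, Finsupp.mem_support_iff, Finsupp.smul_apply] at ha
    have h1 : eps (R := R) J ≠ 0 := fun h => ha (by rw [h, zero_smul])
    have h2 : (f.mapDomain Subtype.val) a ≠ 0 := fun h => ha (by rw [h, smul_zero])
    have ha' : a ∈ BS n d := by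
      by_contra hb
      exact h2 (Finsupp.mapDomain_of_notMem_range _ _ fun ⟨x, hx⟩ => hb (hx ▸ x.2))
    rw [rng_eq_univ_of_eps h1]
    exact BS_mem_univ ha'⟩

theorem val_topC (f : BS n d →₀ R) (J : Fin (n + 1) → Fin (n + 1)) :
    val (AS n d) (allowed_mono (Fin 1) (fun _ => (0 : ℤ)) d) (topC R n d f) J =
      eps (R := R) J • f.mapDomain Subtype.val := rfl

theorem dd_topC (f : BS n d →₀ R) : dd (LS R n d) n (topC R n d f) = 0 := by
  refine funext fun J => evS_injective _ _ _ ?_
  rw [Pi.zero_apply, map_zero]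
  refine (val_dd _ _ n _ J).trans ?_
  simp only [val_topC, ← smul_assoc, ← Finset.sum_smul, sum_eps, zero_smul]

theorem topVal_topC (f : BS n d →₀ R) : topVal R n d (topC R n d f) = f := by
  ext a
  rw [topVal_apply, val_topC, eps_id, one_smul, Finsupp.mapDomain_apply Subtype.val_injective]

theorem val_swap {c : Cochain (LS R n d) n} (hc : dd (LS R n d) n c = 0) {a : Exps n} (ha : a ∈ BS n d)
    (J : Equiv.Perm (Fin (n + 1))) (i : Fin n) :
    val (AS n d) (allowed_mono (Fin 1) (fun _ => (0 : ℤ)) d) c (⇑(J * Equiv.swap i.castSucc i.succ)) a =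
      -val (AS n d) (allowed_mono (Fin 1) (fun _ => (0 : ℤ)) d) c J a := by
  -- the tuple of length `n + 2` with `J i.succ` repeated around position `i`
  let k₀ : Fin (n + 2) := i.castSucc.castSucc
  let k₂ : Fin (n + 2) := i.succ.succ
  let K : Fin (n + 2) → Fin (n + 1) := Fin.insertNth k₀ (J i.succ) J
  have h0 : K ∘ k₀.succAbove = J := funext fun x => Fin.insertNth_apply_succAbove _ _ _ _
  have hK2 : K k₂ = J i.succ := by
    have e : k₂ = k₀.succAbove i.succ :=
      (Fin.succAbove_of_le_castSucc _ _ (by simp [k₀, Fin.le_def])).symm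
    rw [e]
    exact Fin.insertNth_apply_succAbove _ _ _ _
  have h2 : K ∘ k₂.succAbove = ⇑(J * Equiv.swap i.castSucc i.succ) := by
    funext z
    rw [Function.comp_apply, Equiv.Perm.mul_apply]
    rcases eq_or_ne z i.castSucc with rfl | hz
    · rw [Equiv.swap_apply_left, Fin.succAbove_of_castSucc_lt _ _ (by simp [k₂, Fin.lt_def])]
      exact Fin.insertNth_apply_same _ _ _
    rcases eq_or_ne z i.succ with rfl | hz'
    · rw [Equiv.swap_apply_right]
      have e : k₂.succAbove i.succ = k₀.succAbove i.castSucc := by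
        rw [Fin.succAbove_of_castSucc_lt _ _ (by simp [k₂, Fin.lt_def]),
          Fin.succAbove_of_le_castSucc _ _ (by simp [k₀])]
        ext; simp
      rw [e]
      exact Fin.insertNth_apply_succAbove _ _ _ _
    rw [Equiv.swap_apply_of_ne_of_ne hz hz']
    have e : k₂.succAbove z = k₀.succAbove z := by
      simp only [ne_eq, Fin.ext_iff, Fin.val_castSucc, Fin.val_succ] at hz hz'
      rcases lt_or_ge z.val i.val with h | h
      · rw [Fin.succAbove_of_castSucc_lt _ _ (by simp [k₂, Fin.lt_def]; omega),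
          Fin.succAbove_of_castSucc_lt _ _ (by simp [k₀, Fin.lt_def]; omega)]
      · rw [Fin.succAbove_of_le_castSucc _ _ (by simp [k₂, Fin.le_def]; omega),
          Fin.succAbove_of_le_castSucc _ _ (by simp [k₀, Fin.le_def]; omega)]
    rw [e]
    exact Fin.insertNth_apply_succAbove _ _ _ _
  have h := congrArg (fun c' => val (AS n d) (allowed_mono (Fin 1) (fun _ => (0 : ℤ)) d) c' K a) hc
  simp only [val_dd, Finsupp.finsetSum_apply, Finsupp.smul_apply] at h
  have hne : k₀ ≠ k₂ := fun e => by simp [k₀, k₂, Fin.ext_iff] at e; omega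
  rw [show val (AS n d) (allowed_mono (Fin 1) (fun _ => (0 : ℤ)) d) (0 : Cochain (LS R n d) (n + 1)) K a = 0 by
      rw [val, Pi.zero_apply, map_zero, Finsupp.zero_apply],
    Finset.sum_eq_add_of_mem k₀ k₂ (Finset.mem_univ _) (Finset.mem_univ _) hne (fun k _ hk => by
      rw [val_eq_zero_of_mem_BS c (fun hu => ?_) ha, smul_zero]
      -- two surviving positions carry the same value
      obtain ⟨x, hx⟩ := Fin.exists_succAbove_eq hk.1.symm
      obtain ⟨y, hy⟩ := Fin.exists_succAbove_eq hk.2.symm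
      have hinj : Function.Injective (K ∘ k.succAbove) := Finite.injective_iff_surjective.2 fun w => by
        obtain ⟨z, -, hz⟩ := Finset.mem_image.1 (hu.ge (Finset.mem_univ w))
        exact ⟨z, hz⟩
      refine hne ?_
      rw [← hx, ← hy]
      exact congrArg _ (hinj (show K (k.succAbove x) = K (k.succAbove y) by
        rw [hx, hy, hK2]; exact Fin.insertNth_apply_same _ _ _)))] at h
  rw [show ((k₂ : Fin (n + 2)) : ℕ) = ((k₀ : Fin (n + 2)) : ℕ) + 2 by simp [k₀, k₂], h0, h2, pow_add] at h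
  simp only [even_two.neg_one_pow, mul_one, ← smul_add] at h
  rcases neg_one_pow_eq_or ℤ (k₀ : ℕ) with e | e <;> rw [e] at h <;>
    simp only [neg_smul, one_smul, neg_eq_zero] at h <;> linear_combination h

theorem val_perm {c : Cochain (LS R n d) n} (hc : dd (LS R n d) n c = 0) {a : Exps n} (ha : a ∈ BS n d)
    (h1 : val (AS n d) (allowed_mono (Fin 1) (fun _ => (0 : ℤ)) d) c id a = 0) (J : Equiv.Perm (Fin (n + 1))) :
    val (AS n d) (allowed_mono (Fin 1) (fun _ => (0 : ℤ)) d) c J a = 0 := by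
  have hJ : J ∈ Submonoid.closure (Set.range fun i : Fin n => Equiv.swap i.castSucc i.succ) := by
    rw [Equiv.Perm.mclosure_swap_castSucc_succ]
    exact Submonoid.mem_top J
  induction hJ using Submonoid.closure_induction_right with
  | one => exact h1
  | mul_right J hJ σ hσ ih =>
    obtain ⟨i, rfl⟩ := hσ
    rw [val_swap hc ha, ih, neg_zero]

/-- The top cohomology is free on the negative monomials. -/
theorem exists_H_top (hd : n = 0 → d < 0) : Nonempty (H (LS R n d) n ≃ₗ[R] (BS n d →₀ R)) := by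
  refine exists_H_equiv (LS R n d) n ((topVal R n d).comp (Submodule.subtype _))
    (fun f => ⟨⟨topC R n d f, dd_topC f⟩, topVal_topC f⟩) fun c => ⟨fun h => ?_, topVal_eq_zero_of_range⟩
  obtain ⟨c, hc⟩ := c
  have hc' : dd (LS R n d) n c = 0 := hc
  have hB : ∀ (J : Fin (n + 1) → Fin (n + 1)) (a : Exps n), a ∈ BS n d →
      val (AS n d) (allowed_mono (Fin 1) (fun _ => (0 : ℤ)) d) c J a = 0 := fun J a ha => by
    by_cases hJ : rng J = Finset.univ
    · have hb : Function.Surjective J := fun w => by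
        obtain ⟨z, -, hz⟩ := Finset.mem_image.1 (hJ.ge (Finset.mem_univ w))
        exact ⟨z, hz⟩
      exact val_perm hc' ha (DFunLike.congr_fun h (⟨a, ha⟩ : BS n d))
        (Equiv.ofBijective J ⟨Finite.injective_iff_surjective.2 hb, hb⟩)
    · exact val_eq_zero_of_mem_BS c hJ ha
  rcases n with _ | m
  · have hc0 : c = 0 := funext fun J => evS_injective _ _ _ (Finsupp.ext fun a => by
      rw [Pi.zero_apply, map_zero, Finsupp.zero_apply]
      by_contra hne
      have hm := evS_mem _ _ _ _ hne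
      have hs : ∑ i, a.2 i = d := hm.1.trans (add_zero _)
      refine hne (hB J a ⟨hm.1, fun i => ?_⟩)
      rw [Fin.sum_univ_one] at hs
      rw [show i = 0 from Fin.fin_one_eq_zero i, hs]
      exact hd rfl)
    exact ⟨0, (map_zero _).trans hc0.symm⟩
  · obtain ⟨b, hb⟩ := exists_bad_representative (AS (m + 1) d) (allowed_mono (Fin 1) (fun _ => (0 : ℤ)) d) (BS (m + 1) d)
      (exists_cone (Fin 1) (fun _ => (0 : ℤ)) d) m c hc'
    rw [show (ComplexShape.up ℕ).prev (m + 1) = m by simp]
    refine ⟨b, (cx_d _ _).trans (sub_eq_zero.1 (funext fun J => evS_injective _ _ _ (Finsupp.ext fun a => ?_))).symm⟩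
    rw [Pi.zero_apply, map_zero, Finsupp.zero_apply]
    by_cases ha : a ∈ BS (m + 1) d
    · show evS (AS (m + 1) d) (allowed_mono (Fin 1) (fun _ => (0 : ℤ)) d) (rng J) (c J - dd (LS R (m + 1) d) m b J) a = 0
      have h2 : val (AS (m + 1) d) (allowed_mono (Fin 1) (fun _ => (0 : ℤ)) d) (dd (LS R (m + 1) d) m b) J a = 0 := by
        rw [val_dd, Finsupp.finsetSum_apply, Finset.sum_eq_zero fun k _ => ?_]
        rw [Finsupp.smul_apply, val_eq_zero_of_mem_BS b (rng_ne_univ (by omega) _) ha, smul_zero]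
      rw [map_sub, Finsupp.sub_apply]
      exact sub_eq_zero.2 ((hB J a ha).trans h2.symm)
    · exact hb J a ha

/-- A cocycle in degree zero is constant and supported on nonnegative monomials. -/
theorem zero_cocycle (hn : 1 ≤ n) {c : Cochain (LS R n d) 0} (hc : dd (LS R n d) 0 c = 0)
    (J : Fin 1 → Fin (n + 1)) :
    (∀ a, a ∉ CS n d → val (AS n d) (allowed_mono (Fin 1) (fun _ => (0 : ℤ)) d) c J a = 0) ∧
      ∀ K, val (AS n d) (allowed_mono (Fin 1) (fun _ => (0 : ℤ)) d) c J =
        val (AS n d) (allowed_mono (Fin 1) (fun _ => (0 : ℤ)) d) c K := by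
  have heq : ∀ J K : Fin 1 → Fin (n + 1), val (AS n d) (allowed_mono (Fin 1) (fun _ => (0 : ℤ)) d) c J =
      val (AS n d) (allowed_mono (Fin 1) (fun _ => (0 : ℤ)) d) c K := fun J K => by
    have h := congrArg (fun c' => val (AS n d) (allowed_mono (Fin 1) (fun _ => (0 : ℤ)) d) c' ![K 0, J 0]) hc
    simp only [val_dd] at h
    rw [Fin.sum_univ_two (f := fun k : Fin 2 => ((-1 : ℤ) ^ (k : ℕ)) •
      val (AS n d) (allowed_mono (Fin 1) (fun _ => (0 : ℤ)) d) c (![K 0, J 0] ∘ k.succAbove))] at h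
    rw [show val (AS n d) (allowed_mono (Fin 1) (fun _ => (0 : ℤ)) d) (0 : Cochain (LS R n d) 1) ![K 0, J 0] = 0 by
      rw [val, Pi.zero_apply, map_zero]] at h
    have e0 : ![K 0, J 0] ∘ (0 : Fin 2).succAbove = J := funext fun x => by fin_cases x; rfl
    have e1 : ![K 0, J 0] ∘ (1 : Fin 2).succAbove = K := funext fun x => by fin_cases x; rfl
    rw [e0, e1] at h
    simpa [← sub_eq_add_neg, sub_eq_zero] using h
  refine ⟨fun a ha => ?_, fun K => heq J K⟩
  by_contra hne
  refine ha ⟨(evS_mem _ _ _ _ hne).1.trans (add_zero _), fun i => ?_⟩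
  haveI : Nontrivial (Fin (n + 1)) := Fin.nontrivial_iff_two_le.2 (by omega)
  obtain ⟨j, hj⟩ := exists_ne i
  refine (evS_mem (AS n d) (allowed_mono (Fin 1) (fun _ => (0 : ℤ)) d) _ (c fun _ => j) ?_).2 i fun hi => ?_
  · show val (AS n d) (allowed_mono (Fin 1) (fun _ => (0 : ℤ)) d) c (fun _ => j) a ≠ 0
    rw [← heq J]
    exact hne
  · obtain ⟨x, -, hx⟩ := Finset.mem_image.1 hi
    exact hj hx

/-- The bottom cohomology is free on the nonnegative monomials. -/
theorem exists_H_zero (hn : 1 ≤ n) : Nonempty (H (LS R n d) 0 ≃ₗ[R] (CS n d →₀ R)) := by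
  let ev₀ : Cochain (LS R n d) 0 →ₗ[R] (CS n d →₀ R) :=
    (Finsupp.lsubtypeDomain (CS n d)).comp ((evS (AS n d) (allowed_mono (Fin 1) (fun _ => (0 : ℤ)) d)
      (rng (fun _ : Fin 1 => (0 : Fin (n + 1))))).comp (LinearMap.proj (fun _ : Fin 1 => (0 : Fin (n + 1)))))
  refine exists_H_equiv (LS R n d) 0 (ev₀.comp (Submodule.subtype _)) (fun f => ?_) fun c => ⟨fun h => ?_, ?_⟩
  · let c : Cochain (LS R n d) 0 := fun J => ⟨f.mapDomain Subtype.val, fun a ha => by
      refine CS_mem ?_ _
      by_contra hb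
      exact (Finsupp.mem_support_iff.1 ha) (Finsupp.mapDomain_of_notMem_range _ _ fun ⟨x, hx⟩ => hb (hx ▸ x.2))⟩
    refine ⟨⟨c, funext fun J => evS_injective _ _ _ ?_⟩, Finsupp.ext fun a => ?_⟩
    · rw [Pi.zero_apply, map_zero]
      refine (val_dd _ _ 0 c J).trans ?_
      have hv : ∀ K, val (AS n d) (allowed_mono (Fin 1) (fun _ => (0 : ℤ)) d) c K = f.mapDomain Subtype.val :=
        fun K => rfl
      simp [hv, Fin.sum_univ_two]
    · exact Finsupp.mapDomain_apply Subtype.val_injective f a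
  · refine ⟨0, (map_zero _).trans (funext fun J => evS_injective _ _ _ (Finsupp.ext fun a => ?_))⟩
    show evS (AS n d) (allowed_mono (Fin 1) (fun _ => (0 : ℤ)) d) (rng J) (0 : (LS R n d).obj (rng J)) a =
      val (AS n d) (allowed_mono (Fin 1) (fun _ => (0 : ℤ)) d) (c.1 : Cochain (LS R n d) 0) J a
    rw [map_zero, Finsupp.zero_apply]
    obtain ⟨h1, h2⟩ := zero_cocycle hn c.2 J
    by_cases ha : a ∈ CS n d
    · refine Eq.trans (Eq.symm ?_) ((DFunLike.congr_fun (h2 fun _ => 0) a).symm)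
      exact DFunLike.congr_fun h (⟨a, ha⟩ : CS n d)
    · exact (h1 a ha).symm
  · rintro ⟨b, hb⟩
    show ev₀ c.1 = 0
    rw [← hb, HomologicalComplex.shape _ _ _ (by simp)]
    exact map_zero _

/-- The exponents of the monomials of degree `k`. -/
abbrev Deg (n k : ℕ) : Type := ↥{m : Fin (n + 1) →₀ ℕ | m.degree = k}

theorem degree_eq_sum (m : Fin (n + 1) →₀ ℕ) : (m.degree : ℤ) = ∑ i, (m i : ℤ) := by
  rw [Finsupp.degree_eq_sum]
  push_cast
  rfl

/-- Nonnegative exponents. -/
def csEquiv (k : ℕ) : Deg n k ≃ CS n (k : ℤ) where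
  toFun m := ⟨(0, fun i => (m.1 i : ℤ)), by rw [← degree_eq_sum, m.2], fun i => Int.natCast_nonneg _⟩
  invFun a := ⟨Finsupp.equivFunOnFinite.symm fun i => (a.1.2 i).toNat, by
    have h := degree_eq_sum (Finsupp.equivFunOnFinite.symm fun i => (a.1.2 i).toNat)
    simp only [Finsupp.equivFunOnFinite_symm_apply_apply, Int.toNat_of_nonneg (a.2.2 _), a.2.1] at h
    exact_mod_cast h⟩
  left_inv m := Subtype.ext (Finsupp.ext fun i => by simp)
  right_inv a := Subtype.ext (Prod.ext (Subsingleton.elim _ _) (funext fun i => by simp [Int.toNat_of_nonneg (a.2.2 i)]))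

/-- Negative exponents. -/
def bsEquiv (k : ℕ) : Deg n k ≃ BS n (-((n : ℤ) + 1 + k)) where
  toFun m := ⟨(0, fun i => -1 - (m.1 i : ℤ)), by
    refine Eq.trans ?_ (add_zero _).symm
    simp only [Finset.sum_sub_distrib, ← degree_eq_sum, show m.1.degree = k from m.2]
    simp
    ring, fun i => by simp; omega⟩
  invFun a := ⟨Finsupp.equivFunOnFinite.symm fun i => (-1 - a.1.2 i).toNat, by
    have h := degree_eq_sum (Finsupp.equivFunOnFinite.symm fun i => (-1 - a.1.2 i).toNat)
    have h0 : ∀ i, 0 ≤ -1 - a.1.2 i := fun i => by have := a.2.2 i; omega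
    simp only [Finsupp.equivFunOnFinite_symm_apply_apply, Int.toNat_of_nonneg (h0 _), Finset.sum_sub_distrib,
      sum_eq_of_mem_BS a.2, Finset.sum_const, Finset.card_univ, Fintype.card_fin, nsmul_eq_mul] at h
    push_cast at h
    show _ = k
    linarith⟩
  left_inv m := Subtype.ext (Finsupp.ext fun i => by simp)
  right_inv a := Subtype.ext (Prod.ext (Subsingleton.elim _ _) (funext fun i => by
    have := a.2.2 i
    simp
    omega))

/-- The number of monomials of degree `k`. -/
theorem card_deg (k : ℕ) : Nat.card (Deg n k) = (n + k).choose k := by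
  have e : Deg n k ≃ Sym (Fin (n + 1)) k :=
    (Finsupp.equivFunOnFinite.subtypeEquiv fun m => by
      show m.degree = k ↔ _
      rw [Finsupp.degree_eq_sum]
      rfl).trans (Sym.equivNatSumOfFintype (Fin (n + 1)) k).symm
  rw [Nat.card_congr e, Nat.card_eq_fintype_card, Sym.card_sym_eq_choose, Fintype.card_fin]
  congr 1
  omega

theorem isEmpty_CS (h : d < 0) : IsEmpty (CS n d) :=
  ⟨fun a => absurd a.2.1 (ne_of_gt (lt_of_lt_of_le h (Finset.sum_nonneg fun i _ => a.2.2 i)))⟩

theorem isEmpty_BS (h : -((n : ℤ) + 1) < d) : IsEmpty (BS n d) :=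
  ⟨fun a => absurd (le_of_mem_BS a.2) (not_le.2 h)⟩

end PnCohLib
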