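import Groth.Agent.PnCohLib.Koszul
import Groth.Agent.PnTildeLib.Global
import Groth.Agent.GrTildeLib.Gamma
import Groth.Prelude.Def_PicGrp

/-!
# Castelnuovo–Mumford regularity
-/

set_option autoImplicit false
universe u

open CategoryTheory CategoryTheory.Limits AlgebraicGeometry MvPolynomial TopologicalSpace
open GrTildeLib GradedCechLib PnTildeLib

noncomputable section

namespace PnCohLib

variable {n : ℕ} {R : Type u} [CommRing R]

/-- A quasi-coherent module is the sheaf of a graded module, and its twists are read on it. -/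
theorem exists_graded (F : (CohB1.ProjSpace n R).Modules) (hF : Coh.IsQCoh F) :
    ∃ (N : Type u) (_ : AddCommGroup N) (_ : Module (Poly n R) N) (_ : Module R N) (_ : IsScalarTower R (Poly n R) N)
      (G : Grading R (Fin (n + 1)) N), ∀ (t : ℤ) (p : ℕ),
      Subsingleton (Coh.HH (CohB1.ProjSpace n R) (CohB1.tensorMod F (Twist.twistProjSpace n R t)) p) ↔
        IsZero (H (locSys G t) p) := by
  classical
  let g : ULift.{u} (Fin (n + 1)) → Poly n R := fun i => X i.down
  have hg : ∀ i, g i ∈ CohB1.polyGrading n R 1 := fun i => GradedCechLib.X_mem n R i.down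
  have hcov : ∀ x : Proj (CohB1.polyGrading n R), ∃ i, x ∈ Proj.basicOpen (CohB1.polyGrading n R) (g i) := fun x => by
    obtain ⟨i, hi⟩ := Opens.mem_iSup.1 ((QCohLib.iSup_stdOpen n R).ge (Opens.mem_top x))
    exact ⟨⟨i⟩, hi⟩
  haveI := hF
  let F' : (Proj (CohB1.polyGrading n R)).Modules := F
  haveI : Coh.IsQCoh F' := hF
  obtain ⟨e₀⟩ := GrTildeLib.exists_iso (GrTildeLib.data hg F') hcov
    (fun k z i h => GrTildeLib.exists_pow_smul_eq_zero' hg F' i z h)
    (fun i => eq_top_iff.mpr fun w _ => Submodule.subset_span (GrTildeLib.exists_of_nu hg F' i w))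
  refine ⟨GrTildeLib.Gam hg F', inferInstance, inferInstance, inferInstance, inferInstance,
    posGrading (n := n) (GrTildeLib.gr hg F'), fun t p => ?_⟩
  obtain ⟨e₁⟩ := GrTildeLib.twistBy_iso (𝒜 := CohB1.polyGrading n R) (ℳ := GrTildeLib.gr hg F') (p := 0) (n := t)
    (zero_add t) (PnTildeLib.hcov (n := n) (k := R))
  let e : CohB1.tensorMod F (Twist.twistProjSpace n R t) ≅ tl (n := n) (GrTildeLib.gr hg F') t :=
    (PicGrp.tensorModIso e₀.symm (Iso.refl (Twist.twistProjSpace n R t))).trans e₁
  exact ⟨fun h => isZero_H_of_subsingleton _ t p (subsingleton_HH_of_iso e.symm p h),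
    fun h => subsingleton_HH_of_iso e p (subsingleton_HH_tilde _ t p h)⟩

/-- Regularity in degree `m` gives regularity in degree `m + 1`. -/
theorem regular_step {N : Type u} [AddCommGroup N] [Module (Poly n R) N] [Module R N] [IsScalarTower R (Poly n R) N]
    (G : Grading R (Fin (n + 1)) N) (m : ℤ)
    (h : ∀ i : ℕ, 1 ≤ i → i ≤ n → IsZero (H (locSys G (m - i)) i)) (i : ℕ) (hi : 1 ≤ i) :
    IsZero (H (locSys G (m + 1 - i)) i) := by
  refine isZero_step G (m + 1 - i) i hi fun j hj => ?_
  have := h (i + j) (by omega) (by omega)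
  rwa [show m - ((i + j : ℕ) : ℤ) = m + 1 - i - ((j + 1 : ℕ) : ℤ) by push_cast; ring] at this

theorem isMRegular_succ (k : Type u) [Field k] (F : (CohB1.ProjSpace n k).Modules) (hF : Coh.IsQCoh F) (m : ℤ)
    (h : Curv2.IsMRegular k n F m) : Curv2.IsMRegular k n F (m + 1) := by
  obtain ⟨N, _, _, _, _, G, hG⟩ := exists_graded F hF
  intro i hi _
  exact (hG _ i).2 (regular_step G m (fun i hi hin => (hG _ i).1 (h i hi hin)) i hi)

end PnCohLib
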